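import Cfsg.Agent.Lib.Block.Principal
import Cfsg.Agent.Lib.Char.DefectZero

/-!
# The quotient by a central `p`-subgroup on the regular elements

`mk` is a bijection of the `p`-regular elements; it respects the principal block, and a generalised
character of the quotient vanishing off the regular elements lifts to one of the group.
-/

open Finset
open scoped ComplexConjugate

set_option linter.unusedSectionVars false

namespace CfsgLib.Block.Cyclic

open Cfsg CfsgLib.Char

universe u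

variable {p : ℕ} [Fact p.Prime] {A : Type u} [Group A] [Fintype A] [DecidableEq A]
  {Z : Subgroup A} [Z.Normal]

theorem orderOf_mk_regular {y : A} (hy : ¬ p ∣ orderOf y) : ¬ p ∣ orderOf (y : A ⧸ Z) := fun h =>
  hy (h.trans (orderOf_map_dvd (QuotientGroup.mk' Z) y))

theorem exists_regular_lift (hZ : IsPGroup p Z) {q : A ⧸ Z} (hq : ¬ p ∣ orderOf q) :
    ∃ y : A, ¬ p ∣ orderOf y ∧ (y : A ⧸ Z) = q := by
  have hp : p.Prime := Fact.out
  obtain ⟨g, rfl⟩ := QuotientGroup.mk_surjective q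
  obtain ⟨a, b, hab, hcomm, ⟨k, hk⟩, hb⟩ := exists_isPPart hp g
  refine ⟨b, hb, ?_⟩
  have hpart : IsPPart p (g : A ⧸ Z) (a : A ⧸ Z) := by
    refine ⟨(b : A ⧸ Z), by rw [← hab]; rfl, hcomm.map (QuotientGroup.mk' Z), ?_,
      orderOf_mk_regular hb⟩
    obtain ⟨j, -, hj⟩ := (Nat.dvd_prime_pow hp).mp
      (hk ▸ (orderOf_map_dvd (QuotientGroup.mk' Z) a : orderOf (a : A ⧸ Z) ∣ orderOf a))
    exact ⟨j, hj⟩
  have ha : (a : A ⧸ Z) = 1 := isPPart_unique hp hpart (isPPart_one_of_not_dvd hq)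
  rw [← hab, QuotientGroup.mk_mul, ha, one_mul]

theorem regular_mk_inj (hZ : IsPGroup p Z) (hZc : Z ≤ Subgroup.center A) {y z : A}
    (hy : ¬ p ∣ orderOf y) (hz : ¬ p ∣ orderOf z) (h : (y : A ⧸ Z) = z) : y = z := by
  have hp : p.Prime := Fact.out
  have hmem : y⁻¹ * z ∈ Z := QuotientGroup.eq.mp h
  obtain ⟨k, hk⟩ := hZ ⟨_, hmem⟩
  have hk' : (y⁻¹ * z) ^ p ^ k = 1 := congrArg Subtype.val hk
  obtain ⟨j, -, hj⟩ := (Nat.dvd_prime_pow hp).mp (orderOf_dvd_of_pow_eq_one hk')
  have hc : Commute (y⁻¹ * z) y := (Subgroup.mem_center_iff.mp (hZc hmem) y).symm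
  have e : IsPPart p z (y⁻¹ * z) := ⟨y, by rw [hc.eq, mul_inv_cancel_left], hc, ⟨j, hj⟩, hy⟩
  have h1 := isPPart_unique hp e (isPPart_one_of_not_dvd hz)
  exact inv_mul_eq_one.mp h1

variable [Fintype (A ⧸ Z)]

theorem sum_regular_mk (hZ : IsPGroup p Z) (hZc : Z ≤ Subgroup.center A) {β : Type*}
    [AddCommMonoid β] (F : A ⧸ Z → β) :
    ∑ y ∈ Finset.univ.filter (fun y : A => ¬ p ∣ orderOf y), F y =
      ∑ q ∈ Finset.univ.filter (fun q : A ⧸ Z => ¬ p ∣ orderOf q), F q := by
  refine Finset.sum_bij (fun y _ => (y : A ⧸ Z)) (fun y hy => ?_) (fun a ha b hb h => ?_)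
    (fun q hq => ?_) (fun _ _ => rfl)
  · exact Finset.mem_filter.mpr ⟨Finset.mem_univ _, orderOf_mk_regular (Finset.mem_filter.mp hy).2⟩
  · exact regular_mk_inj hZ hZc (Finset.mem_filter.mp ha).2 (Finset.mem_filter.mp hb).2 h
  · obtain ⟨y, hy, hyq⟩ := exists_regular_lift hZ (Finset.mem_filter.mp hq).2
    exact ⟨y, Finset.mem_filter.mpr ⟨Finset.mem_univ _, hy⟩, hyq⟩

/-- The inflation of a character of the quotient. -/
noncomputable def inflQ (θ : IrrCharacter (A ⧸ Z)) : IrrCharacter A :=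
  ⟨fun a => (θ : A ⧸ Z → ℂ) a,
    isIrrCharacter_comp_surjective θ.2 (QuotientGroup.mk' Z) (QuotientGroup.mk'_surjective Z)⟩

theorem inflQ_apply (θ : IrrCharacter (A ⧸ Z)) (a : A) :
    (inflQ θ : A → ℂ) a = (θ : A ⧸ Z → ℂ) a := rfl

/-- Inflation respects the principal block. -/
theorem inflQ_mem_principalBlock_iff {M : Ideal AlgInt} [M.IsMaximal] [DecidableEq (A ⧸ Z)]
    (hM : IsPModular p M) (hZ : IsPGroup p Z) (hZc : Z ≤ Subgroup.center A)
    (θ : IrrCharacter (A ⧸ Z)) :
    inflQ θ ∈ principalBlock M A ↔ θ ∈ principalBlock M (A ⧸ Z) := by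
  classical
  have := Fintype.ofFinite (IrrCharacter A)
  have := Fintype.ofFinite (IrrCharacter (A ⧸ Z))
  have := Fintype.ofFinite (ConjClasses A)
  have := Fintype.ofFinite (ConjClasses (A ⧸ Z))
  obtain ⟨R, hR, hRres⟩ := exists_regN_lift (p := p) (M := M) (inflQ θ) (oneChar A)
  obtain ⟨R', hR', hR'res⟩ := exists_regN_lift (p := p) (M := M) θ (oneChar (A ⧸ Z))
  have hRR : R = R' := by
    refine Subtype.ext (mul_right_cancel₀ (irr_one_ne_zero θ) ?_)
    have e : (inflQ θ : A → ℂ) 1 = (θ : A ⧸ Z → ℂ) 1 := rfl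
    rw [← e, hR, e, hR', card_mul_regInner, card_mul_regInner]
    simp only [oneChar, mul_one, inflQ_apply]
    exact sum_regular_mk hZ hZc _
  rw [mem_principalBlock_iff hM, mem_principalBlock_iff hM, omegaBar_regBar_eq_regN,
    omegaBar_regBar_eq_regN, ← hRres, ← hR'res, hRR]

/-- A generalised character of the quotient vanishing off the regular elements, lifted. -/
theorem regLift_generalized (hZ : Nat.card Z = p) (hZc : Z ≤ Subgroup.center A) {Φ : A ⧸ Z → ℂ}
    (hΦ : IsGeneralizedCharacter (A ⧸ Z) Φ) (hvan : ∀ q, p ∣ orderOf q → Φ q = 0) :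
    IsGeneralizedCharacter A (fun a => if p ∣ orderOf a then 0 else (p : ℂ) * Φ a) := by
  classical
  have hp : p.Prime := Fact.out
  have hcf : ∀ a b : A, Φ ((b * a * b⁻¹ : A) : A ⧸ Z) = Φ a := fun a b => by
    obtain ⟨χ, ψ, hχ, hψ, rfl⟩ := hΦ
    simp only [Pi.sub_apply, QuotientGroup.mk_mul, QuotientGroup.mk_inv,
      isClassFunction_of_isCharacter hχ (a : A ⧸ Z) b, isClassFunction_of_isCharacter hψ (a : A ⧸ Z) b]
  refine isGeneralizedCharacter_of_elementary (fun a b => ?_) fun E q hq hE => ?_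
  · simp only [orderOf_conj_eq b a, hcf]
  obtain ⟨R, P, hR, hcard, ⟨j, hj⟩, hRp, hcomm⟩ := exists_pparts_elementary (p := p) hq hE
  have := Fintype.ofFinite E
  have := Fintype.ofFinite R
  have := Fintype.ofFinite P
  refine isGeneralizedCharacter_of_int_inner (fun a b => ?_) fun ψ => ?_
  · simp only [Subgroup.coe_mul, Subgroup.coe_inv, orderOf_conj_eq (b : A) (a : A), hcf]
  -- the map from `R × P`
  let g : R × P →* A ⧸ Z :=
    { toFun := fun w => ((((w.1 : E) * (w.2 : E) : E) : A) : A ⧸ Z)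
      map_one' := by simp
      map_mul' := fun v w => by
        have h := hcomm _ w.1.2 _ v.2.2
        rw [← QuotientGroup.mk_mul, ← Subgroup.coe_mul]
        congr 2
        simp only [Prod.fst_mul, Prod.snd_mul, Subgroup.coe_mul, mul_assoc]
        rw [← mul_assoc ((w.1 : E)), ← mul_assoc ((v.2 : E)), h] }
  obtain ⟨m, hm⟩ := classInner_generalized_int (isGeneralizedCharacter_comp hΦ g)
    (isGeneralizedCharacter_of_isCharacter
      (isCharacter_comp (isCharacter_irr ψ) (R.subtype.comp (MonoidHom.fst R P))))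
  let P₀ : Subgroup P := Z.comap (((E.subtype).comp P.subtype))
  obtain ⟨k, hk⟩ : ∃ k, Nat.card P₀ * k = p := by
    have h : Nat.card P₀ ∣ Nat.card Z := Subgroup.card_dvd_of_injective
      ((((E.subtype).comp P.subtype).comp P₀.subtype).codRestrict Z fun u => u.2)
      (fun a b h => Subtype.ext (Subtype.ext (Subtype.ext (congrArg Subtype.val h :))))
    rw [hZ] at h
    obtain ⟨k, hk⟩ := h
    exact ⟨k, hk.symm⟩
  refine ⟨(k : ℤ) * m, ?_⟩
  set S : ℂ := ∑ r : R, Φ (((r : E) : A) : A ⧸ Z) * conj ((ψ : E → ℂ) r) with hS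
  have hlhs : classInner (fun e : E => if p ∣ orderOf (e : A) then 0 else (p : ℂ) * Φ (e : A))
      (ψ : E → ℂ) = (Nat.card E : ℂ)⁻¹ * ((p : ℂ) * S) := by
    rw [classInner, hS]
    congr 1
    rw [Finset.mul_sum, Finset.sum_congr rfl (g := fun e : E =>
      if e ∈ R then (p : ℂ) * (Φ ((e : A) : A ⧸ Z) * conj ((ψ : E → ℂ) e)) else 0) fun e _ => ?_,
      ← Finset.sum_filter, Finset.sum_subtype (p := fun e => e ∈ R) _ (fun x => by simp)]
    have hiff : e ∈ R ↔ ¬ p ∣ orderOf (e : A) := by rw [hR, Subgroup.orderOf_coe]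
    by_cases h : p ∣ orderOf (e : A)
    · rw [if_pos h, if_neg (fun h' => hiff.mp h' h), zero_mul]
    · rw [if_neg h, if_pos (hiff.mpr h)]
      ring
  have hrhs : classInner (fun w : R × P => Φ (g w)) (fun w => (ψ : E → ℂ) (w.1 : E)) =
      (Nat.card E : ℂ)⁻¹ * ((Nat.card P₀ : ℂ) * S) := by
    rw [classInner, Nat.card_prod, hcard, Fintype.sum_prod_type, hS]
    congr 1
    rw [Finset.mul_sum]
    refine Finset.sum_congr rfl fun r _ => ?_
    rw [Finset.sum_congr rfl (g := fun u : P => if u ∈ P₀ then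
      Φ (((r : E) : A) : A ⧸ Z) * conj ((ψ : E → ℂ) r) else 0) fun u _ => ?_,
      ← Finset.sum_filter, Finset.sum_const, nsmul_eq_mul, Nat.card_eq_fintype_card,
      Fintype.card_subtype]
    show Φ (((((r : E) * (u : E) : E)) : A) : A ⧸ Z) * _ = _
    rw [Subgroup.coe_mul, QuotientGroup.mk_mul]
    split_ifs with hu
    · rw [(QuotientGroup.eq_one_iff ((u : E) : A)).mpr hu, mul_one]
    · rw [hvan _ ?_, zero_mul]
      set a : A ⧸ Z := (((r : E) : A) : A ⧸ Z)
      set b : A ⧸ Z := (((u : E) : A) : A ⧸ Z)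
      have hb1 : b ≠ 1 := fun h => hu ((QuotientGroup.eq_one_iff ((u : E) : A)).mp h)
      have hbd : orderOf b ∣ p ^ j := by
        refine (orderOf_map_dvd ((QuotientGroup.mk' Z).comp E.subtype) (u : E)).trans ?_
        rw [← hj, Subgroup.orderOf_coe]
        exact orderOf_dvd_natCard u
      obtain ⟨i, -, hi⟩ := (Nat.dvd_prime_pow hp).mp hbd
      have hi0 : i ≠ 0 := fun h => hb1 (orderOf_eq_one_iff.mp (by rw [hi, h, pow_zero]))
      have hab : Commute a b := by
        have h := hcomm _ r.2 _ u.2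
        show a * b = b * a
        simp only [a, b, ← QuotientGroup.mk_mul, ← Subgroup.coe_mul, h]
      have hareg : ¬ p ∣ orderOf a := orderOf_mk_regular (by
        rw [Subgroup.orderOf_coe]
        exact (hR _).mp r.2)
      rw [hab.orderOf_mul_eq_mul_orderOf_of_coprime
        (hi ▸ ((hp.coprime_iff_not_dvd.mpr hareg).pow_left i).symm), hi]
      exact (dvd_pow_self p hi0).mul_left _
  rw [hlhs]
  have hm' : classInner (fun w : R × P => Φ (g w)) (fun w => (ψ : E → ℂ) (w.1 : E)) = (m : ℂ) := hm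
  rw [hrhs] at hm'
  rw [Int.cast_mul, Int.cast_natCast, ← hm', show (p : ℂ) = (Nat.card P₀ : ℂ) * (k : ℂ) by
    rw [← hk]; push_cast; rfl]
  ring

variable (p Z) in
/-- The function on the quotient given by the regular elements over each element. -/
noncomputable def pushReg (f : A → ℂ) (q : A ⧸ Z) : ℂ := by
  classical
  exact ∑ y ∈ Finset.univ.filter (fun y : A => ¬ p ∣ orderOf y ∧ (y : A ⧸ Z) = q), f y

theorem pushReg_mk (hZ : IsPGroup p Z) (hZc : Z ≤ Subgroup.center A) (f : A → ℂ) {y : A}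
    (hy : ¬ p ∣ orderOf y) : pushReg p Z f (y : A ⧸ Z) = f y := by
  classical
  rw [pushReg, Finset.sum_eq_single y]
  · intro z hz hne
    obtain ⟨hz1, hz2⟩ := (Finset.mem_filter.mp hz).2
    exact absurd (regular_mk_inj hZ hZc hz1 hy hz2) hne
  · exact fun h => absurd (Finset.mem_filter.mpr ⟨Finset.mem_univ _, hy, rfl⟩) h

theorem pushReg_singular (f : A → ℂ) {q : A ⧸ Z} (hq : p ∣ orderOf q) : pushReg p Z f q = 0 := by
  classical
  rw [pushReg]
  refine Finset.sum_eq_zero fun y hy => ?_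
  obtain ⟨h1, rfl⟩ := (Finset.mem_filter.mp hy).2
  exact absurd hq (orderOf_mk_regular h1)

theorem isClassFunction_pushReg (hZ : IsPGroup p Z) (hZc : Z ≤ Subgroup.center A) {f : A → ℂ}
    (hf : IsClassFunction A f) : IsClassFunction (A ⧸ Z) (pushReg p Z f) := by
  classical
  intro q r
  by_cases hq : p ∣ orderOf q
  · rw [pushReg_singular f hq, pushReg_singular f (by rwa [orderOf_conj_eq])]
  · obtain ⟨y, hy, rfl⟩ := exists_regular_lift hZ hq
    obtain ⟨w, rfl⟩ := QuotientGroup.mk_surjective r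
    rw [← QuotientGroup.mk_inv, ← QuotientGroup.mk_mul, ← QuotientGroup.mk_mul,
      pushReg_mk hZ hZc f hy, pushReg_mk hZ hZc f (by rwa [orderOf_conj_eq]), hf y w]

theorem classInner_pushReg (hZ : Nat.card Z = p) (hZc : Z ≤ Subgroup.center A) (f : A → ℂ)
    (g : A ⧸ Z → ℂ) :
    classInner (pushReg p Z f) g = (p : ℂ) * classInner (regFun p f) (fun a : A => g a) := by
  classical
  have hZp : IsPGroup p Z := IsPGroup.of_card (n := 1) (by rw [hZ, pow_one])
  have hA : (Nat.card A : ℂ) = (Nat.card (A ⧸ Z) : ℂ) * (p : ℂ) := by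
    rw [Subgroup.card_eq_card_quotient_mul_card_subgroup Z, hZ]; push_cast; rfl
  have h1 : ∑ a : A, regFun p f a * conj (g a) = ∑ q : A ⧸ Z, pushReg p Z f q * conj (g q) := by
    rw [← Finset.sum_subset (Finset.filter_subset (fun q : A ⧸ Z => ¬ p ∣ orderOf q) Finset.univ)
      (fun q _ hq => by
        rw [Finset.mem_filter, not_and, not_not] at hq
        rw [pushReg_singular f (hq (Finset.mem_univ _)), zero_mul]),
      ← sum_regular_mk hZp hZc (fun q => pushReg p Z f q * conj (g q)), Finset.sum_filter]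
    refine Finset.sum_congr rfl fun a _ => ?_
    by_cases ha : p ∣ orderOf a
    · simp [regFun, ha]
    · simp [regFun, ha, pushReg_mk hZp hZc f ha]
  simp only [classInner, h1, hA, mul_inv]
  have hp0 : (p : ℂ) ≠ 0 := Nat.cast_ne_zero.mpr (Fact.out : p.Prime).ne_zero
  field_simp

/-- Inner products of lifted functions. -/
theorem classInner_regLift (hZ : Nat.card Z = p) (hZc : Z ≤ Subgroup.center A) {F F' : A ⧸ Z → ℂ}
    (hF : ∀ q, p ∣ orderOf q → F q = 0) :
    classInner (fun a : A => if p ∣ orderOf a then 0 else (p : ℂ) * F a)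
      (fun a : A => if p ∣ orderOf a then 0 else (p : ℂ) * F' a) = (p : ℂ) * classInner F F' := by
  classical
  have hZp : IsPGroup p Z := IsPGroup.of_card (n := 1) (by rw [hZ, pow_one])
  have hA : (Nat.card A : ℂ) = (Nat.card (A ⧸ Z) : ℂ) * (p : ℂ) := by
    rw [Subgroup.card_eq_card_quotient_mul_card_subgroup Z, hZ]; push_cast; rfl
  have h1 : ∑ a : A, (if p ∣ orderOf a then 0 else (p : ℂ) * F a) *
      conj (if p ∣ orderOf a then 0 else (p : ℂ) * F' a) =
      (p : ℂ) * (p : ℂ) * ∑ q : A ⧸ Z, F q * conj (F' q) := by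
    rw [← Finset.sum_subset (Finset.filter_subset (fun q : A ⧸ Z => ¬ p ∣ orderOf q) Finset.univ)
      (fun q _ hq => by
        rw [Finset.mem_filter, not_and, not_not] at hq
        rw [hF q (hq (Finset.mem_univ _)), zero_mul]),
      ← sum_regular_mk hZp hZc (fun q => F q * conj (F' q)), Finset.mul_sum, Finset.sum_filter]
    refine Finset.sum_congr rfl fun a _ => ?_
    by_cases ha : p ∣ orderOf a
    · simp [ha]
    · simp [ha]; ring
  simp only [classInner, h1, hA, mul_inv]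
  have hp0 : (p : ℂ) ≠ 0 := Nat.cast_ne_zero.mpr (Fact.out : p.Prime).ne_zero
  field_simp

end CfsgLib.Block.Cyclic
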