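import Cfsg.Agent.Lib.Block.Cyclic.SylowDual
import Cfsg.Agent.Lib.Block.Cyclic.RegularLift
import Cfsg.Agent.Lib.Block.SubsectionCount
import Cfsg.Agent.Lib.Block.CycloNorm
import Cfsg.Agent.Lib.Fusion.Transfer

/-!
# At most `p²` characters of `p'`-degree in the principal block

when some `p`-element has a centraliser with Sylow subgroups of order at most `p²`.
-/

open Finset
open scoped ComplexConjugate

set_option linter.unusedSectionVars false

namespace CfsgLib.Block.Cyclic

open Cfsg CfsgLib.Char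

universe u

variable {p : ℕ} {G : Type u} [Group G] [Fintype G] [DecidableEq G]

/-- A character value at an element of order `n`. -/
theorem char_mem_cycInt {A : Type u} [Group A] [Fintype A] {χ : A → ℂ} (hχ : IsCharacter A χ) {x : A}
    {n : ℕ} (hx : x ^ n = 1) : χ x ∈ cycInt n := by
  obtain ⟨d, ρ, rfl⟩ := hχ
  obtain ⟨b, μ, h1, -, h3⟩ := exists_eigen_data ρ x
  have h := h3 1
  simp only [pow_one] at h
  obtain ⟨k, hk⟩ := orderOf_dvd_of_pow_eq_one hx
  rw [h]
  exact sum_mem fun i _ => mem_cycInt_of_pow (by rw [hk, pow_mul, h1, one_pow])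

/-- A character of degree prime to `p` does not vanish at a `p`-element. -/
theorem value_pElement_ne_zero {M : Ideal AlgInt} [M.IsMaximal] (hM : IsPModular p M)
    {χ : IrrCharacter G} (hdeg : ¬ p ∣ charDegree (χ : G → ℂ)) {x : G}
    (hx : ∃ k : ℕ, orderOf x = p ^ k) : (χ : G → ℂ) x ≠ 0 := by
  obtain ⟨k, hk⟩ := hx
  intro h0
  have h := res_irr_mul_pElement hM χ (Commute.one_right x) (k := k) (by rw [← hk, pow_orderOf_eq_one])
  rw [mul_one] at h
  have hx0 : irrLoc M χ x = 0 := Subtype.ext (by rw [coe_irrLoc, h0]; rfl)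
  have h1 : irrLoc M χ 1 = (charDegree (χ : G → ℂ) : locRing M) := Subtype.ext (by
    rw [coe_irrLoc, (charDegree_eq χ).1]; norm_cast)
  rw [hx0, h1, map_zero, map_natCast] at h
  have := charP_resField hM
  exact hdeg ((CharP.cast_eq_zero_iff (ResField M) p _).mp h.symm)

/-- Multiplication by a central element of an irreducible character. -/
theorem irr_central_mul {A : Type u} [Group A] [Fintype A] {n : ℕ} {x : A}
    (hx : x ∈ Subgroup.center A) (hxn : x ^ n = 1) (η : IrrCharacter A) :
    ∃ ω : ℂ, ω ^ n = 1 ∧ ∀ y : A, (η : A → ℂ) (x * y) = ω * (η : A → ℂ) y := by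
  obtain ⟨η, d, ρ, hρ, rfl⟩ := η
  have := hρ
  obtain ⟨c, hc⟩ := exists_scalar_of_mem_center ρ hx
  have hmul : ∀ y, ρ.character (x * y) = c * ρ.character y := fun y => by
    simp only [Representation.character, map_mul, hc]
    rw [show ∀ f : Module.End ℂ (Fin d → ℂ), (c • LinearMap.id : Module.End ℂ _) * f = c • f from
      fun f => by ext1 v; rfl, map_smul, smul_eq_mul]
  have hd0 : ρ.character 1 ≠ 0 := irr_one_ne_zero (⟨_, d, ρ, hρ, rfl⟩ : IrrCharacter A)
  have hpow : ∀ m : ℕ, ρ.character (x ^ m) = c ^ m * ρ.character 1 := by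
    intro m
    induction m with
    | zero => simp
    | succ m ih => rw [pow_succ', hmul, ih, pow_succ']; ring
  refine ⟨c, mul_right_cancel₀ hd0 ?_, hmul⟩
  rw [one_mul, ← hpow, hxn]

/-- Inner products of a family with two functions. -/
theorem sum_classInner_mul_conj {A : Type u} [Group A] [Fintype A] {ι : Type*} (s : Finset ι)
    (F : ι → A → ℂ) (f g : A → ℂ) :
    ∑ i ∈ s, classInner (F i) f * conj (classInner (F i) g) =
      (Nat.card A : ℂ)⁻¹ * (Nat.card A : ℂ)⁻¹ * ∑ y : A, ∑ z : A,
        (∑ i ∈ s, F i y * conj (F i z)) * (conj (f y) * g z) := by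
  simp only [classInner, map_mul, map_inv₀, map_natCast, map_sum, Complex.conj_conj]
  rw [Finset.sum_congr rfl (g := fun i => (Nat.card A : ℂ)⁻¹ * (Nat.card A : ℂ)⁻¹ *
    ∑ y : A, ∑ z : A, (F i y * conj (F i z)) * (conj (f y) * g z)) fun i _ => by
      rw [mul_mul_mul_comm, Finset.sum_mul_sum]
      congr 1
      exact Finset.sum_congr rfl fun y _ => Finset.sum_congr rfl fun z _ => by ring,
    ← Finset.mul_sum, Finset.sum_comm]
  simp only [Finset.sum_comm (s := s), Finset.sum_mul]

/-- Parseval's identity. -/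
theorem sum_irr_classInner {A : Type u} [Group A] [Fintype A] [Fintype (IrrCharacter A)]
    {f g : A → ℂ} (hg : IsClassFunction A g) :
    ∑ η : IrrCharacter A, classInner (η : A → ℂ) f * conj (classInner (η : A → ℂ) g) =
      classInner g f := by
  conv_rhs => rw [classFun_expand hg, classInner_sum_left]
  refine Finset.sum_congr rfl fun η _ => ?_
  rw [classInner_smul_left, classInner_conj, mul_comm]

/-- Orthogonality of the sections at `x`, tested against functions on the regular elements. -/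
theorem sum_secInner_mul_conj [Fact p.Prime] [Fintype (IrrCharacter G)] {C : Subgroup G} [Fintype C]
    [Fintype (IrrCharacter C)] {x : G} (hxp : ∃ k : ℕ, orderOf x = p ^ k)
    (hC : ∀ t : G, t ∈ C ↔ Commute t x) {f g : C → ℂ} (hf : ∀ y, p ∣ orderOf y → f y = 0)
    (hg : ∀ y, p ∣ orderOf y → g y = 0) (hgc : IsClassFunction C g) :
    ∑ χ : IrrCharacter G, classInner (secFun x C χ) f * conj (classInner (secFun x C χ) g) =
      classInner g f := by
  classical
  rw [← sum_irr_classInner hgc, sum_classInner_mul_conj, sum_classInner_mul_conj]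
  congr 1
  refine Finset.sum_congr rfl fun y _ => Finset.sum_congr rfl fun z _ => ?_
  by_cases hy : p ∣ orderOf y
  · rw [hf y hy, map_zero, zero_mul, mul_zero, mul_zero]
  by_cases hz : p ∣ orderOf z
  · rw [hg z hz, mul_zero, mul_zero, mul_zero]
  congr 1
  show ∑ χ : IrrCharacter G, (χ : G → ℂ) (x * (y : G)) * conj ((χ : G → ℂ) (x * (z : G))) = _
  rw [sum_irr_mul_conj, sum_irr_mul_conj]
  have hiff := isConj_secElt_iff (Fact.out : p.Prime) hxp hC hy hz
  by_cases h : IsConj y z
  · rw [if_pos (hiff.mpr h), if_pos h, card_centralizer_secElt (Fact.out : p.Prime) hxp hC hy]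
  · rw [if_neg (mt hiff.mp h), if_neg h]

/-- In the principal block the sections at `x` see only the principal block of the centraliser. -/
theorem secFun_principal_eq [Fintype (IrrCharacter G)] {M : Ideal AlgInt} [M.IsMaximal]
    (hM : IsPModular p M) {C : Subgroup G} [Fintype C] [Fintype (IrrCharacter C)] {x : G}
    (hxp : ∃ k : ℕ, orderOf x = p ^ k) (hC : ∀ t : G, t ∈ C ↔ Commute t x) {χ : IrrCharacter G}
    (hχ : χ ∈ principalBlock M G) {y : C} (hy : ¬ p ∣ orderOf y) :
    secFun x C χ y = blockPart (principalBlock M C) (secFun x C χ) y := by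
  classical
  have hC' : ∀ t : C, Commute (t : G) x := fun t => (hC t).mp t.2
  let U : Finset (Set (IrrCharacter C)) := Finset.univ.filter (fun b => IsPBlock M b)
  have hU : ∀ b, b ∈ U ↔ IsPBlock M b := fun b => by simp [U]
  rw [secFun_eq_sum_blockPart hM hC' χ y U hU]
  refine Finset.sum_eq_single _ (fun b hb hne => ?_) (fun h => absurd ((hU _).mpr isPBlock_principalBlock) h)
  obtain ⟨B', hB'⟩ := exists_induced_centralizer hM hxp hC ((hU b).mp hb)
  refine blockPart_secFun_eq_zero hM hxp hC hB' (fun hmem => hne ?_) hy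
  exact (isInducedBlock_principal_iff hM hB').mp
    (isPBlock_eq_of_mem hB'.2.1 isPBlock_principalBlock hmem hχ)

/-- The count with a normal `p`-complement in the centraliser. -/
theorem card_le_of_complement [Fact p.Prime] {M : Ideal AlgInt} [M.IsMaximal] (hM : IsPModular p M)
    {x : G} (hxp : ∃ k : ℕ, orderOf x = p ^ k)
    (hcompl : Cfsg.HasNormalPComplement p (Subgroup.centralizer ({x} : Set G))) :
    Nat.card {χ : IrrCharacter G // χ ∈ principalBlock M G ∧ ¬ p ∣ charDegree (χ : G → ℂ)} ≤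
      p ^ (Nat.card (Subgroup.centralizer ({x} : Set G))).factorization p := by
  classical
  set C := Subgroup.centralizer ({x} : Set G) with hCdef
  have := Fintype.ofFinite (IrrCharacter G)
  have := Fintype.ofFinite (IrrCharacter C)
  have := Fintype.ofFinite (ConjClasses C)
  have hC : ∀ t : G, t ∈ C ↔ Commute t x := fun t => Subgroup.mem_centralizer_singleton_iff
  have h := sum_principal_secFun (M := M) hM hxp hC (y := 1) (z := 1)
    (by simp [hM.1.ne_one]) (by simp [hM.1.ne_one])
  rw [OneMemClass.coe_one, mul_one] at h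
  have h2 : ∑ᶠ η ∈ principalBlock M C, (η : C → ℂ) 1 * conj ((η : C → ℂ) 1) =
      ((p ^ (Nat.card C).factorization p : ℕ) : ℂ) := by
    rw [← sum_sq_principal_of_complement hM hcompl, finsum_mem_eq_finite_toFinset_sum _ (Set.toFinite _)]
    exact Finset.sum_congr rfl fun η _ => by rw [conj_irr_one]
  rw [h2, finsum_mem_eq_toFinset_sum] at h
  obtain ⟨k, hk⟩ := hxp
  let ι := {χ : IrrCharacter G // χ ∈ principalBlock M G ∧ (χ : G → ℂ) x ≠ 0}
  let _ : Fintype ι := Fintype.ofFinite _
  have hle := card_le_sum_normSq (n := p ^ k) (pow_ne_zero _ hM.1.ne_zero)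
    (fun χ : ι => ⟨(χ.1 : G → ℂ) x,
      char_mem_cycInt (isCharacter_irr χ.1) (by rw [← hk, pow_orderOf_eq_one])⟩)
    (fun χ => χ.2.2) (N := ((p ^ (Nat.card C).factorization p : ℕ) : ℤ)) (by
      rw [Int.cast_natCast, ← h, ← Finset.sum_subtype
        ((principalBlock M G).toFinset.filter fun χ => (χ : G → ℂ) x ≠ 0)
        (p := fun χ => χ ∈ principalBlock M G ∧ (χ : G → ℂ) x ≠ 0) (fun χ => by simp)
        (fun χ => (χ : G → ℂ) x * conj ((χ : G → ℂ) x))]
      refine Finset.sum_subset (Finset.filter_subset _ _) fun χ hχ hne => ?_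
      rw [Finset.mem_filter, not_and, not_not] at hne
      rw [hne hχ, zero_mul])
  rw [← Nat.card_eq_fintype_card] at hle
  let emb : {χ : IrrCharacter G // χ ∈ principalBlock M G ∧ ¬ p ∣ charDegree (χ : G → ℂ)} → ι :=
    fun χ => ⟨χ.1, χ.2.1, value_pElement_ne_zero hM χ.2.2 ⟨k, hk⟩⟩
  refine (Nat.card_le_card_of_injective emb fun a b h => Subtype.ext (congrArg Subtype.val h :)).trans ?_
  exact_mod_cast hle

/-- A finite quadratic fact: `e ≤ 2·#(nonzero)` plus the pairs of different values. -/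
theorem two_mul_card_le_count {I : Type*} [Fintype I] [DecidableEq I] {V : Type*} [Zero V]
    [DecidableEq V] (b : I → V) (hb : ∃ i, b i ≠ 0) :
    2 * Fintype.card I ≤ 2 * (Finset.univ.filter fun i => b i ≠ 0).card +
      (Finset.univ.filter fun q : I × I => b q.1 ≠ b q.2).card := by
  set S := Finset.univ.filter fun i => b i ≠ 0 with hS
  set T := Finset.univ.filter fun i => ¬ b i ≠ 0 with hT
  have hpairs : S ×ˢ T ∪ T ×ˢ S ⊆ Finset.univ.filter fun q : I × I => b q.1 ≠ b q.2 := by
    intro q hq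
    simp only [Finset.mem_union, Finset.mem_product, hS, hT, Finset.mem_filter, Finset.mem_univ,
      true_and, not_not] at hq ⊢
    rcases hq with ⟨h1, h2⟩ | ⟨h1, h2⟩
    · rw [h2]; exact h1
    · rw [h1]; exact Ne.symm h2
  have hdisj : Disjoint (S ×ˢ T) (T ×ˢ S) := Finset.disjoint_left.mpr fun q h1 h2 => by
    simp only [Finset.mem_product, hS, hT, Finset.mem_filter] at h1 h2
    exact h2.1.2 h1.1.2
  have hcard := Finset.card_le_card hpairs
  rw [Finset.card_union_of_disjoint hdisj, Finset.card_product, Finset.card_product] at hcard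
  have hsum : S.card + T.card = Fintype.card I := by
    rw [hS, hT, Finset.card_filter_add_card_filter_not, Finset.card_univ]
  have hpos : 0 < S.card := by
    obtain ⟨i, hi⟩ := hb
    exact Finset.card_pos.mpr ⟨i, by simp [hS, hi]⟩
  have : T.card ≤ S.card * T.card := Nat.le_mul_of_pos_left _ hpos
  rw [mul_comm T.card S.card] at hcard
  omega

/-- The coordinates of a section against a generalised character are cyclotomic integers. -/
theorem secInner_mem_cycInt {C : Subgroup G} [Fintype C] [Fintype (IrrCharacter C)] {x : G} {n : ℕ}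
    (hxC : x ∈ C) (hc : (⟨x, hxC⟩ : C) ∈ Subgroup.center C) (hxn : x ^ n = 1) (χ : IrrCharacter G)
    {Ψ : C → ℂ} (hΨ : IsGeneralizedCharacter C Ψ) : classInner (secFun x C χ) Ψ ∈ cycInt n := by
  classical
  set xC : C := ⟨x, hxC⟩ with hxCdef
  have hexp := classFun_expand
    (isClassFunction_of_isCharacter (isCharacter_comp (isCharacter_irr χ) C.subtype))
  choose ω hω hωy using fun η : IrrCharacter C =>
    irr_central_mul hc (n := n) (Subtype.ext hxn) η
  have hs : secFun x C χ = ∑ η : IrrCharacter C,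
      (classInner (fun c : C => (χ : G → ℂ) c) (η : C → ℂ) * ω η) • (η : C → ℂ) := by
    funext y
    have h := congrFun hexp (xC * y)
    simp only [Finset.sum_apply, Pi.smul_apply, smul_eq_mul] at h ⊢
    show (χ : G → ℂ) (x * (y : G)) = _
    rw [show x * (y : G) = ((xC * y : C) : G) from rfl]
    refine h.trans (Finset.sum_congr rfl fun η _ => ?_)
    rw [hωy, mul_assoc]
    rfl
  rw [hs, classInner_sum_left]
  refine sum_mem fun η _ => ?_
  rw [classInner_smul_left]
  obtain ⟨m, hm⟩ := classInner_char_irr_nat (isCharacter_comp (isCharacter_irr χ) C.subtype) η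
  obtain ⟨k, hk⟩ := classInner_generalized_int
    (isGeneralizedCharacter_of_isCharacter (isCharacter_irr η)) hΨ
  rw [show classInner (fun c : C => (χ : G → ℂ) c) (η : C → ℂ) = (m : ℂ) from hm, hk]
  exact mul_mem (mul_mem (natCast_mem _ m) (mem_cycInt_of_pow (hω η))) (intCast_mem _ k)

/-- Vectors of cyclotomic integers with Gram matrix `p (1 + t J)`, `p = t e + 1`: at most `p²` of them
are non-zero. -/
theorem card_le_sq_of_gram (hp : p.Prime) {X I : Type u} [Fintype X] [Fintype I] [DecidableEq I]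
    {t : ℕ} (ht : 0 < t) (hte : t * Fintype.card I + 1 = p) (hI : 0 < Fintype.card I)
    (b : X → I → ℂ) (hb : ∀ χ i, b χ i ∈ cycInt p)
    (hgram : ∀ i l, ∑ χ, b χ i * conj (b χ l) = (p : ℂ) * ((if i = l then 1 else 0) + (t : ℂ)))
    (S : Finset X) (hne : ∀ χ ∈ S, ∃ i, b χ i ≠ 0) : S.card ≤ p ^ 2 := by
  classical
  let J := (Fin 2 × I) ⊕ (Fin t × (I × I))
  let val : X → J → cycInt p := fun χ => Sum.elim
    (fun w => ⟨b χ w.2, hb χ w.2⟩)
    (fun w => ⟨b χ w.2.1 - b χ w.2.2, sub_mem (hb χ _) (hb χ _)⟩)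
  set e := Fintype.card I with he
  have htotal : ∑ χ : X, ∑ j : J, (val χ j : ℂ) * conj (val χ j : ℂ) =
      ((2 * (p * p * e) : ℕ) : ℂ) := by
    rw [Finset.sum_comm, Fintype.sum_sum_type, Fintype.sum_prod_type, Fintype.sum_prod_type]
    have h1 : ∀ i : I, ∑ χ : X, b χ i * conj (b χ i) = (p : ℂ) * (1 + (t : ℂ)) :=
      fun i => by rw [hgram, if_pos rfl]
    have h2 : ∀ i l : I, ∑ χ : X, (b χ i - b χ l) * conj (b χ i - b χ l) =
        if i = l then 0 else 2 * (p : ℂ) := by
      intro i l
      simp only [map_sub, sub_mul, mul_sub, Finset.sum_sub_distrib, hgram]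
      by_cases hil : i = l
      · subst hil; simp
      · simp [hil, Ne.symm hil]; ring
    simp only [val, Sum.elim_inl, Sum.elim_inr, h1, Fintype.sum_prod_type, h2, Finset.sum_const,
      Finset.card_univ, Fintype.card_fin, nsmul_eq_mul, ← he]
    rw [Finset.sum_congr rfl (g := fun _ => 2 * (p : ℂ) * ((e : ℂ) - 1)) fun i _ => by
      rw [Finset.sum_congr rfl (g := fun l => 2 * (p : ℂ) - if i = l then 2 * (p : ℂ) else 0)
        fun l _ => by split_ifs <;> ring, Finset.sum_sub_distrib, Finset.sum_const,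
        Finset.sum_ite_eq, if_pos (Finset.mem_univ _), Finset.card_univ, nsmul_eq_mul, ← he]
      ring, Finset.sum_const, Finset.card_univ, nsmul_eq_mul, ← he]
    have hte' : (t : ℂ) * (e : ℂ) + 1 = (p : ℂ) := by rw [← hte]; push_cast; ring
    push_cast
    linear_combination (2 * (p : ℂ) * (e : ℂ)) * hte'
  let ι := {w : X × J // (val w.1 w.2 : ℂ) ≠ 0}
  let _ : Fintype ι := Fintype.ofFinite _
  have hle := card_le_sum_normSq (ι := ι) hp.ne_zero (fun w => val w.1.1 w.1.2) (fun w => w.2)
    (N := ((2 * (p * p * e) : ℕ) : ℤ)) (by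
      rw [Int.cast_natCast, ← htotal, ← Fintype.sum_prod_type',
        ← Finset.sum_subtype (Finset.univ.filter fun w : X × J => (val w.1 w.2 : ℂ) ≠ 0)
          (p := fun w => (val w.1 w.2 : ℂ) ≠ 0) (fun w => by simp)
          (fun w => (val w.1 w.2 : ℂ) * conj (val w.1 w.2 : ℂ))]
      refine Finset.sum_subset (Finset.filter_subset _ _) fun w _ hw => ?_
      rw [Finset.mem_filter, not_and, not_not] at hw
      rw [hw (Finset.mem_univ _), zero_mul])
  have hcount : ∀ χ ∈ S, 2 * e ≤ Fintype.card {j : J // (val χ j : ℂ) ≠ 0} := by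
    intro χ hχ
    have h := two_mul_card_le_count (b χ) (hne χ hχ)
    rw [← he] at h
    refine h.trans ?_
    rw [Fintype.card_subtype]
    have hsub : ((Finset.univ ×ˢ Finset.univ.filter fun i => b χ i ≠ 0).disjSum
        (Finset.univ ×ˢ Finset.univ.filter fun q : I × I => b χ q.1 ≠ b χ q.2)) ⊆
        Finset.univ.filter fun j : J => (val χ j : ℂ) ≠ 0 := by
      intro j hj
      rcases j with w | w <;> simp [val, sub_eq_zero] at hj ⊢ <;> exact hj
    refine le_trans ?_ (Finset.card_le_card hsub)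
    rw [Finset.card_disjSum, Finset.card_product, Finset.card_product, Finset.card_univ,
      Finset.card_univ, Fintype.card_fin, Fintype.card_fin]
    exact Nat.add_le_add_left (Nat.le_mul_of_pos_left _ ht) _
  have hsum : S.card * (2 * e) ≤ Fintype.card ι := by
    have h1 : Fintype.card ι = ∑ χ : X, Fintype.card {j : J // (val χ j : ℂ) ≠ 0} := by
      rw [← Fintype.card_sigma]
      exact Fintype.card_congr
        { toFun := fun w => ⟨w.1.1, w.1.2, w.2⟩
          invFun := fun w => ⟨(w.1, w.2.1), w.2.2⟩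
          left_inv := fun w => rfl
          right_inv := fun w => rfl }
    rw [h1, ← smul_eq_mul, ← Finset.sum_const]
    exact (Finset.sum_le_sum hcount).trans (Finset.sum_le_sum_of_subset (Finset.subset_univ _))
  have hle' : Fintype.card ι ≤ 2 * (p * p * e) := by exact_mod_cast hle
  rw [sq]
  exact Nat.le_of_mul_le_mul_right ((hsum.trans hle').trans (by rw [mul_left_comm, mul_assoc]))
    (Nat.mul_pos two_pos hI)

/-- A section of a character of the principal block is orthogonal to the functions lifted from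
outside the principal block of the quotient. -/
theorem pushReg_inner_eq_zero [Fact p.Prime] [Fintype (IrrCharacter G)] {M : Ideal AlgInt}
    [M.IsMaximal] (hM : IsPModular p M) {C : Subgroup G} [Fintype C] [Fintype (IrrCharacter C)]
    {x : G} (hxp : ∃ k : ℕ, orderOf x = p ^ k) (hC : ∀ t : G, t ∈ C ↔ Commute t x)
    {Z : Subgroup C} [Z.Normal] [Fintype (C ⧸ Z)] (hZ : Nat.card Z = p)
    (hZc : Z ≤ Subgroup.center C) {χ : IrrCharacter G} (hχ : χ ∈ principalBlock M G)
    {θ : IrrCharacter (C ⧸ Z)} (hθ : θ ∉ principalBlock M (C ⧸ Z)) :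
    classInner (pushReg p Z (secFun x C χ)) (θ : C ⧸ Z → ℂ) = 0 := by
  classical
  rw [classInner_pushReg hZ hZc]
  refine mul_eq_zero_of_right _ ?_
  have hi : inflQ θ ∉ principalBlock M C := fun h =>
    hθ ((inflQ_mem_principalBlock_iff hM (IsPGroup.of_card (n := 1) (by rw [hZ, pow_one])) hZc θ).mp h)
  rw [show regFun p (secFun x C χ) = ∑ η ∈ Finset.univ.filter (· ∈ principalBlock M C),
    classInner (secFun x C χ) (η : C → ℂ) • regFun p (η : C → ℂ) from funext fun c => ?_,
    classInner_sum_left]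
  · refine Finset.sum_eq_zero fun η hη => ?_
    rw [classInner_smul_left]
    exact mul_eq_zero_of_right _ (regInner_eq_zero_of_not_mem hM
      (.of_isPBlock isPBlock_principalBlock) (Finset.mem_filter.mp hη).2 hi)
  · simp only [Finset.sum_apply, Pi.smul_apply, smul_eq_mul, regFun]
    split_ifs with hc
    · simp
    · rw [← blockPart_eq]
      exact secFun_principal_eq hM hxp hC hχ hc

/-- The inner product of a section with a lifted function. -/
theorem secInner_regLift [Fact p.Prime] {C : Subgroup G} [Fintype C] {Z : Subgroup C} [Z.Normal]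
    [Fintype (C ⧸ Z)] (hZ : Nat.card Z = p) (hZc : Z ≤ Subgroup.center C) (f : C → ℂ)
    (F : C ⧸ Z → ℂ) :
    classInner f (fun a : C => if p ∣ orderOf a then 0 else (p : ℂ) * F a) =
      classInner (pushReg p Z f) F := by
  classical
  rw [classInner_pushReg hZ hZc]
  simp only [classInner]
  rw [mul_left_comm (p : ℂ)]
  congr 1
  rw [Finset.mul_sum]
  refine Finset.sum_congr rfl fun c _ => ?_
  by_cases hc : p ∣ orderOf c
  · simp [regFun, hc]
  · simp [regFun, hc]; ring

/-- The count when the central element has order `p` and the Sylow subgroups order `p²`. -/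
theorem card_le_sq_of_order_p [Fact p.Prime] {M : Ideal AlgInt} [M.IsMaximal] (hM : IsPModular p M)
    {x : G} (hx : orderOf x = p)
    (h2 : (Nat.card (Subgroup.centralizer ({x} : Set G))).factorization p = 2) :
    Nat.card {χ : IrrCharacter G // χ ∈ principalBlock M G ∧ ¬ p ∣ charDegree (χ : G → ℂ)} ≤
      p ^ 2 := by
  classical
  have hp : p.Prime := Fact.out
  have := Fintype.ofFinite (IrrCharacter G)
  have hxp : ∃ k : ℕ, orderOf x = p ^ k := ⟨1, by rw [hx, pow_one]⟩
  set C := Subgroup.centralizer ({x} : Set G) with hCdef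
  have hC : ∀ t : G, t ∈ C ↔ Commute t x := fun t => Subgroup.mem_centralizer_singleton_iff
  have := Fintype.ofFinite (IrrCharacter C)
  -- the quotient
  have hxC : x ∈ C := (hC x).mpr (Commute.refl x)
  have hxc : (⟨x, hxC⟩ : C) ∈ Subgroup.center C :=
    Subgroup.mem_center_iff.mpr fun g => Subtype.ext ((hC g).mp g.2).eq
  let Z : Subgroup C := Subgroup.zpowers ⟨x, hxC⟩
  have hZc : Z ≤ Subgroup.center C := Subgroup.zpowers_le.mpr hxc
  have hZn : Z.Normal := ⟨fun y hy g => by
    rwa [Subgroup.mem_center_iff.mp (hZc hy) g, mul_inv_cancel_right]⟩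
  have hZ : Nat.card Z = p := by rw [Nat.card_zpowers, Subgroup.orderOf_mk, hx]
  have hZp : IsPGroup p Z := IsPGroup.of_card (n := 1) (by rw [hZ, pow_one])
  let _ : Fintype (C ⧸ Z) := Fintype.ofFinite _
  have := Fintype.ofFinite (IrrCharacter (C ⧸ Z))
  have hcard : Nat.card (C ⧸ Z) * p = Nat.card C := by
    rw [Subgroup.card_eq_card_quotient_mul_card_subgroup Z, hZ]
  have hfac : (Nat.card (C ⧸ Z)).factorization p = 1 := by
    have e : (Nat.card (C ⧸ Z) * p).factorization p = 2 := hcard.symm ▸ h2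
    rw [Nat.factorization_mul Nat.card_pos.ne' hp.ne_zero, Finsupp.add_apply,
      hp.factorization_self] at e
    omega
  obtain ⟨P⟩ : Nonempty (Sylow p (C ⧸ Z)) := inferInstance
  have hP : Nat.card P = p := by rw [P.card_eq_multiplicity, hfac, pow_one]
  obtain ⟨D₀, hD₀⟩ := exists_cycSetup (Q := (P : Subgroup (C ⧸ Z))) hP (not_sq_dvd_of_sylow hP)
  let D := D₀.withChar (oneChar D₀.K)
  let _ : Fintype D.K := Fintype.ofFinite _
  let _ : Fintype (Subgroup.centralizer (D.Q : Set (C ⧸ Z))) := Fintype.ofFinite _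
  have htriv : ∀ y, (D.φ : D.K → ℂ) y = 1 := fun _ => rfl
  have hBD := D.blockData_principal hM (show D.Q = (P : Subgroup (C ⧸ Z)) from hD₀) htriv
  obtain ⟨E⟩ := D.exists_exceptional_family hM hBD
  let _ : Fintype ((ZMod p)ˣ ⧸ D.expE) := Fintype.ofFinite _
  have hte : Fintype.card ((ZMod p)ˣ ⧸ D.expE) *
      Fintype.card {θ : IrrCharacter (C ⧸ Z) // E.u θ ≠ 0} + 1 = p := by
    rw [← Nat.card_eq_fintype_card (α := {θ : IrrCharacter (C ⧸ Z) // E.u θ ≠ 0}), E.card_u,
      ← Nat.card_eq_fintype_card, ← D.expE.card_eq_card_quotient_mul_card_subgroup,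
      Nat.card_eq_fintype_card, ZMod.card_units_eq_totient, Nat.totient_prime hp,
      Nat.sub_add_cancel hp.one_lt.le]
  have hI : 0 < Fintype.card {θ : IrrCharacter (C ⧸ Z) // E.u θ ≠ 0} := by
    rw [← Nat.card_eq_fintype_card, E.card_u]
    exact Nat.card_pos
  have hvan : ∀ i : {θ : IrrCharacter (C ⧸ Z) // E.u θ ≠ 0}, ∀ q, p ∣ orderOf q →
      E.proj1 i.1 q = 0 := fun i q hq => E.proj1_singular htriv hBD i.2 hq
  let Ψ : {θ : IrrCharacter (C ⧸ Z) // E.u θ ≠ 0} → C → ℂ := fun i a =>
    if p ∣ orderOf a then 0 else (p : ℂ) * E.proj1 i.1 a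
  have hΨ : ∀ i, IsGeneralizedCharacter C (Ψ i) := fun i =>
    regLift_generalized hZ hZc (E.proj1_generalized i.1) (hvan i)
  have hu2 : ∀ j : {θ : IrrCharacter (C ⧸ Z) // E.u θ ≠ 0}, (E.u j.1 : ℂ) * (E.u j.1 : ℂ) = 1 :=
    fun j => by
      rcases (E.u_cases j.1).resolve_left j.2 with e | e <;> rw [e] <;> push_cast <;> ring
  rw [Nat.card_eq_fintype_card, Fintype.card_subtype]
  refine card_le_sq_of_gram hp (X := IrrCharacter G) Fintype.card_pos hte hI
    (fun χ i => (E.u i.1 : ℂ) * classInner (secFun x C χ) (Ψ i)) (fun χ i => ?_) (fun i l => ?_) _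
    (fun χ hχ => ?_)
  · exact mul_mem (intCast_mem _ _) (secInner_mem_cycInt hxC hxc (by rw [← hx, pow_orderOf_eq_one]) χ (hΨ i))
  · rw [Finset.sum_congr rfl (g := fun χ : IrrCharacter G => (E.u i.1 : ℂ) * (E.u l.1 : ℂ) *
      (classInner (secFun x C χ) (Ψ i) * conj (classInner (secFun x C χ) (Ψ l)))) fun χ _ => by
        simp only [map_mul, map_intCast]; ring,
      ← Finset.mul_sum, sum_secInner_mul_conj hxp hC (fun y hy => if_pos hy) (fun y hy => if_pos hy)
        (isClassFunction_of_isGeneralized (hΨ l)),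
      classInner_regLift hZ hZc (hvan l), E.classInner_proj1 l.2 i.2]
    by_cases hil : i = l
    · subst hil
      rw [if_pos rfl, if_pos rfl]
      linear_combination (p : ℂ) * (1 + (Fintype.card ((ZMod p)ˣ ⧸ D.expE) : ℂ) *
        ((E.u i.1 : ℂ) * (E.u i.1 : ℂ) + 1)) * hu2 i
    · rw [if_neg hil, if_neg fun e => hil (Subtype.ext e).symm]
      linear_combination (p : ℂ) * (Fintype.card ((ZMod p)ˣ ⧸ D.expE) : ℂ) *
        (((E.u l.1 : ℂ) * (E.u l.1 : ℂ)) * hu2 i + hu2 l)
  · obtain ⟨hχ1, hχ2⟩ := (Finset.mem_filter.mp hχ).2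
    by_contra hall
    push Not at hall
    refine value_pElement_ne_zero hM hχ2 hxp ?_
    have h1 := E.apply_one_eq_zero_of_inner
      (isClassFunction_pushReg hZp hZc (isClassFunction_secFun (fun t => (hC t).mp t.2) χ))
      (fun θ hθ => pushReg_inner_eq_zero hM hxp hC hZ hZc hχ1 hθ) (fun θ hθ => by
        rw [← secInner_regLift hZ hZc]
        exact (mul_eq_zero.mp (hall ⟨θ, hθ⟩)).resolve_left (by exact_mod_cast hθ))
    rw [← QuotientGroup.mk_one Z, pushReg_mk hZp hZc _ (by simp [hp.ne_one]), secFun,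
      OneMemClass.coe_one, mul_one] at h1
    exact h1

/-- The bound. -/
theorem card_principal_pPrime_le_sq [Fact p.Prime] {M : Ideal AlgInt} [M.IsMaximal]
    (hM : IsPModular p M)
    (hx : ∃ x : G, (∃ k : ℕ, orderOf x = p ^ k) ∧
      (Nat.card (Subgroup.centralizer ({x} : Set G))).factorization p ≤ 2) :
    Nat.card {χ : IrrCharacter G // χ ∈ principalBlock M G ∧ ¬ p ∣ charDegree (χ : G → ℂ)} ≤
      p ^ 2 := by
  classical
  have hp : p.Prime := Fact.out
  by_cases hG : p ∣ Nat.card G
  swap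
  · refine le_trans ?_ (one_le_pow₀ hp.one_lt.le)
    rw [Finite.card_le_one_iff_subsingleton]
    exact ⟨fun a b => Subtype.ext (eq_of_sameBlock_of_coprime hM hG
      (sameBlock_trans (sameBlock_symm a.2.1) b.2.1))⟩
  -- a non-trivial `p`-element
  obtain ⟨x, hxp, hx1, hxc⟩ : ∃ x : G, (∃ k : ℕ, orderOf x = p ^ k) ∧ x ≠ 1 ∧
      (Nat.card (Subgroup.centralizer ({x} : Set G))).factorization p ≤ 2 := by
    obtain ⟨x, hxp, hxc⟩ := hx
    by_cases hx1 : x = 1
    · obtain ⟨S⟩ : Nonempty (Sylow p G) := inferInstance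
      have hS1 : Nontrivial S := (S : Subgroup G).nontrivial_iff_ne_bot.mpr fun hb => by
        have := S.dvd_card_of_dvd_card hG
        rw [hb, Subgroup.card_bot] at this
        exact hp.not_dvd_one this
      have := S.isPGroup'.center_nontrivial
      obtain ⟨z, hz1⟩ : ∃ z : Subgroup.center S, z ≠ 1 := exists_ne 1
      obtain ⟨k, hk⟩ := S.isPGroup' z.1
      obtain ⟨j, -, hj⟩ := (Nat.dvd_prime_pow hp).mp (orderOf_dvd_of_pow_eq_one hk)
      refine ⟨((z.1 : S) : G), ⟨j, by rw [Subgroup.orderOf_coe, hj]⟩,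
        fun h => hz1 (Subtype.ext (Subtype.ext h)), le_trans ?_ hxc⟩
      refine (Nat.factorization_le_iff_dvd Nat.card_pos.ne' Nat.card_pos.ne').mpr ?_ p
      rw [hx1, show Subgroup.centralizer ({1} : Set G) = ⊤ from Subgroup.centralizer_eq_top_iff_subset.mpr
        (by simp), Subgroup.card_top]
      exact Subgroup.card_subgroup_dvd_card _
    · exact ⟨x, hxp, hx1, hxc⟩
  obtain ⟨k, hk⟩ := hxp
  set C := Subgroup.centralizer ({x} : Set G) with hC
  obtain ⟨S⟩ : Nonempty (Sylow p C) := inferInstance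
  have hxC : x ∈ C := Subgroup.mem_centralizer_singleton_iff.mpr rfl
  have hxcen : (⟨x, hxC⟩ : C) ∈ Subgroup.center C := Subgroup.mem_center_iff.mpr fun g =>
    Subtype.ext (Subgroup.mem_centralizer_singleton_iff.mp g.2)
  set f := (Nat.card C).factorization p with hf
  have hkf : p ^ k ∣ p ^ f := by
    have h : p ^ k ∣ Nat.card C := by
      rw [← hk, ← Subgroup.orderOf_mk x hxC]
      exact orderOf_dvd_natCard _
    exact pow_dvd_pow p ((hp.pow_dvd_iff_le_factorization Nat.card_pos.ne').mp h)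
  have hk0 : k ≠ 0 := fun h => hx1 (orderOf_eq_one_iff.mp (by rw [hk, h, pow_zero]))
  have hkf' : k ≤ f := (Nat.pow_dvd_pow_iff_le_right hp.one_lt).mp hkf
  by_cases hkeq : k = f
  · refine le_trans (card_le_of_complement hM ⟨k, hk⟩ ?_) (Nat.pow_le_pow_right hp.pos hxc)
    refine CfsgLib.Fusion.hasNormalPComplement_of_normalizer_le_centralizer S ?_
    intro g _
    have hle : (S : Subgroup C) ≤ Subgroup.center C := by
      have hz : IsPGroup p (Subgroup.zpowers (⟨x, hxC⟩ : C)) := IsPGroup.of_card (n := k) (by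
        rw [Nat.card_zpowers, Subgroup.orderOf_mk, hk])
      obtain ⟨T, hT⟩ := hz.exists_le_sylow
      have hTe : Subgroup.zpowers (⟨x, hxC⟩ : C) = (T : Subgroup C) :=
        Subgroup.eq_of_le_of_card_ge hT (by
          rw [Nat.card_zpowers, Subgroup.orderOf_mk, hk, hkeq, T.card_eq_multiplicity])
      obtain ⟨c, hc⟩ := MulAction.exists_smul_eq C T S
      rw [← hc, Sylow.coe_subgroup_smul, ← hTe]
      rintro _ ⟨u, hu, rfl⟩
      have huc : u ∈ Subgroup.center C := Subgroup.zpowers_le.mpr hxcen hu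
      show c * u * c⁻¹ ∈ Subgroup.center C
      rwa [Subgroup.mem_center_iff.mp huc c, mul_inv_cancel_right]
    exact Subgroup.mem_centralizer_iff.mpr fun u hu => (Subgroup.mem_center_iff.mp (hle hu) g).symm
  · have hk1 : k = 1 := by omega
    have hf2 : f = 2 := by omega
    exact card_le_sq_of_order_p hM (by rw [hk, hk1, pow_one]) hf2

end CfsgLib.Block.Cyclic
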