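import Cfsg.Agent.Lib.Block.Cyclic.HalfKernel
import Cfsg.Agent.Lib.Block.TI.Sections
import Cfsg.Agent.Lib.Block.Local

/-!
# The degree bound `(p - 1)/2` for a Sylow subgroup of order `p`

Feit–Thompson: a group with a Sylow subgroup of order `p` and a faithful character of degree less
than `(p - 1)/2` has a normal Sylow subgroup.
-/

open Finset
open scoped ComplexConjugate

set_option linter.unusedSectionVars false

namespace CfsgLib.Block.Cyclic

open Cfsg CfsgLib.Char

universe u

variable {p : ℕ} [Fact p.Prime] {G : Type u} [Group G] [Fintype G] [DecidableEq G]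

namespace CycSetup

variable (D : CycSetup p G) [Fintype D.K] [Fintype (Subgroup.centralizer (D.Q : Set G))]

/-- A class function vanishing at the regular elements is determined on `C = Q × K`. -/
theorem classInner_of_regular_zero (htriv : ∀ y, (D.φ : D.K → ℂ) y = 1) {F : G → ℂ}
    (hF : IsClassFunction G F) (hF0 : ∀ g, ¬ p ∣ orderOf g → F g = 0)
    (hFK : ∀ i (y : D.K), F (D.xp i * (y : G)) = F (D.xp i)) {θ : G → ℂ} (hθ : IsClassFunction G θ) :
    classInner F θ = (Nat.card D.expN : ℂ)⁻¹ *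
      ((p : ℂ)⁻¹ * ∑ i : ZMod p, F (D.xp i) * conj (D.dval θ i)) := by
  classical
  have hp : p.Prime := Fact.out
  have hcard : Nat.card D.Q = p ^ (Nat.card G).factorization p := by
    rw [factorization_eq_one D.dvd_card D.hsq, pow_one, D.hQ]
  let U : TI.Uniform p G := ⟨Sylow.ofCard D.Q hcard, fun h => by
      rw [Sylow.coe_ofCard] at h
      have := D.hQ
      rw [h, Subgroup.card_bot] at this
      exact hp.ne_one this.symm,
    fun u hu hu1 => by
      ext t
      rw [Subgroup.mem_centralizer_singleton_iff, Sylow.coe_ofCard]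
      exact (mem_centralizer_iff_commute D.hQ hu hu1 t).symm⟩
  let _ : Fintype U.C := Fintype.ofFinite _
  let _ : Fintype U.Q := Fintype.ofFinite _
  let _ : Fintype U.N := Fintype.ofFinite _
  set h : U.C → ℂ := fun c => F c with hh
  have hh0 : ∀ c, U.proj c = 1 → h c = 0 := fun c hc => hF0 _ (by
    rw [Subgroup.orderOf_coe]
    exact U.proj_eq_one_iff.mp hc)
  have he : (U.e : ℕ) = Nat.card D.expN := D.card_expN.symm
  have hsing : ∀ c : U.C, U.proj c ≠ 1 → indFun U.C h c = (U.e : ℂ) * h c := by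
    intro c hc
    rw [U.indFun_apply_singular hh0 hc, Finset.sum_congr rfl fun n _ => show h (U.conjC n c) = h c from
      hF _ _, Finset.sum_const, Finset.card_univ, nsmul_eq_mul, ← Nat.card_eq_fintype_card, U.card_N]
    have : (Nat.card U.C : ℂ) ≠ 0 := Nat.cast_ne_zero.mpr Nat.card_pos.ne'
    push_cast
    field_simp
  have hInd : indFun U.C h = fun g => (U.e : ℂ) * F g := by
    funext g
    by_cases hg : p ∣ orderOf g
    · obtain ⟨c, i, y, hi, hgy⟩ := D.exists_section_conj hg
      have hmem : D.xp i * (y : G) ∈ U.C := D.C.mul_mem (D.Q_le_C (D.xp_mem i)) (D.K_le_C y.2)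
      rw [← isClassFunction_indFun U.C h g c, ← hF g c, hgy]
      refine hsing ⟨_, hmem⟩ fun hc => ?_
      have h1 := U.proj_eq_one_iff.mp hc
      rw [Subgroup.orderOf_mk, ← hgy, orderOf_conj_eq] at h1
      exact h1 hg
    · rw [hF0 g hg, mul_zero, indFun, Finset.sum_eq_zero, mul_zero]
      intro x _
      by_cases hm : x⁻¹ * g * x ∈ U.C
      · rw [extendByZero_mem _ _ hm]
        exact hF0 _ (by
          show ¬ p ∣ orderOf (x⁻¹ * g * x)
          rwa [show x⁻¹ * g * x = x⁻¹ * g * x⁻¹⁻¹ by group, orderOf_conj_eq])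
      · exact extendByZero_not_mem _ _ hm
  have h1 := classInner_indFun U.C h θ hθ
  rw [hInd, show (fun g => (U.e : ℂ) * F g) = (U.e : ℂ) • F from rfl, classInner_smul_left] at h1
  have h2 : classInner h (fun c : U.C => θ c) =
      (p : ℂ)⁻¹ * ∑ i : ZMod p, F (D.xp i) * conj (D.dval θ i) := by
    have hbij : Function.Bijective fun q : ZMod p × D.K =>
        (⟨D.xp q.1 * (q.2 : G), D.C.mul_mem (D.Q_le_C (D.xp_mem _)) (D.K_le_C q.2.2)⟩ : U.C) :=
      ⟨fun q q' e => D.decomp_unique (congrArg Subtype.val e :), fun c => by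
        obtain ⟨q, hq⟩ := D.exists_decomp ⟨c.1, c.2⟩
        exact ⟨q, Subtype.ext hq.symm⟩⟩
    have hC : (Nat.card U.C : ℂ) = (p : ℂ) * (Nat.card D.K : ℂ) := by
      rw [show Nat.card U.C = Nat.card D.C from rfl, D.card_C]; push_cast; rfl
    rw [classInner, hC, mul_inv, ← (Equiv.ofBijective _ hbij).sum_comp, Fintype.sum_prod_type,
      mul_assoc, Finset.mul_sum]
    refine congrArg _ (Finset.sum_congr rfl fun i _ => ?_)
    rw [dval, secMult, classInner, map_mul, map_inv₀, map_natCast, map_sum, Finset.mul_sum,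
      Finset.mul_sum, Finset.mul_sum]
    refine Finset.sum_congr rfl fun y _ => ?_
    show _ * (F (D.xp i * (y : G)) * conj (θ (D.xp i * (y : G)))) = _
    rw [hFK, htriv, map_one, mul_one]
    ring
  have hne : (U.e : ℂ) ≠ 0 := Nat.cast_ne_zero.mpr U.e_pos.ne'
  rw [← h2, ← h1, ← he, ← mul_assoc, inv_mul_cancel₀ hne, one_mul]

/-- With central `p'`-part an exceptional character of degree less than `(p - 1)/2` is impossible. -/
theorem no_exceptional (hsub : ∀ H : Subgroup G, D.Q ≤ H → H ≠ ⊤ → H ≤ Subgroup.normalizer (D.Q : Set G))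
    (hnot : ¬ D.Q.Normal) {M : Ideal AlgInt} [M.IsMaximal] (hM : IsPModular p M)
    (hK : D.K ≤ Subgroup.center G) (htriv : ∀ y, (D.φ : D.K → ℂ) y = 1) {χ : IrrCharacter G}
    {j₀ : (ZMod p)ˣ}
    (hsupp : ∀ j : ZMod p, D.aP (χ : G → ℂ) j ≠ 0 ↔ ∃ r ∈ D.expN, j = ((r * j₀ : (ZMod p)ˣ) : ZMod p))
    (hval : ∀ j : ZMod p, D.aP (χ : G → ℂ) j ≠ 0 → D.aP (χ : G → ℂ) j = 1)
    (hdeg : charDegree (χ : G → ℂ) = Nat.card D.expN)
    (he2 : 2 ≤ Nat.card D.expN) (hep : 2 * Nat.card D.expN + 1 < p) : False := by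
  classical
  have hp : p.Prime := Fact.out
  have := Fintype.ofFinite (IrrCharacter G)
  set e := Nat.card D.expN with hee
  have hcardQ : Nat.card D.Q = p ^ (Nat.card G).factorization p := by
    rw [factorization_eq_one D.dvd_card D.hsq, pow_one, D.hQ]
  have hBD := D.blockData_principal hM (P := Sylow.ofCard D.Q hcardQ) rfl htriv
  obtain ⟨E⟩ := D.exists_exceptional_family hM hBD
  have hexpE : D.expE = D.expN := by
    refine le_antisymm D.expE_le_expN fun r hr => (D.mem_expE_iff htriv).mpr ?_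
    obtain ⟨n, rfl⟩ := hr
    exact ⟨n, rfl⟩
  -- the indicator
  let A : ZMod p → ℕ := fun j => if D.aP (χ : G → ℂ) j = 0 then 0 else 1
  have hA : ∀ j, D.aP (χ : G → ℂ) j = (A j : ℂ) := fun j => by
    by_cases h : D.aP (χ : G → ℂ) j = 0
    · simp [A, h]
    · simp [A, h, hval j h]
  have hA0 : A 0 = 0 := by
    by_contra h
    have h' : D.aP (χ : G → ℂ) 0 ≠ 0 := fun e => h (if_pos e)
    obtain ⟨r, -, hr⟩ := (hsupp 0).mp h'
    exact (r * j₀).ne_zero hr.symm
  have hAsum : ∑ j, A j = e := by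
    have h := D.sum_aP (χ : G → ℂ)
    rw [(charDegree_eq χ).1, hdeg] at h
    have h' : ((∑ j, A j : ℕ) : ℂ) = (e : ℂ) := by
      rw [Nat.cast_sum, ← h]
      exact Finset.sum_congr rfl fun j _ => (hA j).symm
    exact_mod_cast h'
  have hAj : A (j₀ : ZMod p) = 1 :=
    if_neg ((hsupp _).mpr ⟨1, one_mem _, by rw [one_mul]⟩)
  have hAinv : ∀ {r : (ZMod p)ˣ}, r ∈ D.expN → ∀ j, A ((r : ZMod p) * j) = A j := fun hr j => by
    simp only [A, D.aP_expN (isClassFunction_irr χ) hr j]
  -- the twists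
  choose ψ hψ hψreg hψaP using fun a : (ZMod p)ˣ => D.exists_twist_char χ a
  set Φ : (ZMod p)ˣ → G → ℂ := fun a g => (χ : G → ℂ) g * conj (ψ a g) with hΦdef
  have hΦ : ∀ a, IsCharacter G (Φ a) := fun a =>
    isCharacter_mul (isCharacter_irr χ) (isCharacter_conj (hψ a))
  let G2 : (ZMod p)ˣ → ZMod p → ℕ := fun a j => ∑ s, A s * A ((a⁻¹ : (ZMod p)ˣ) * (s - j))
  have hG : ∀ a j, D.aP (Φ a) j = (G2 a j : ℂ) := fun a j => by
    rw [hΦdef, D.aP_mul_conj, Nat.cast_sum]
    exact Finset.sum_congr rfl fun s _ => by rw [hψaP, hA, hA, map_natCast, Nat.cast_mul]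
  set Φ0 : G → ℂ := fun g => (χ : G → ℂ) g * conj ((χ : G → ℂ) g) with hΦ0def
  have hΦ0 : IsCharacter G Φ0 := isCharacter_mul (isCharacter_irr χ) (isCharacter_conj (isCharacter_irr χ))
  have hG0 : ∀ j, D.aP Φ0 j = (G2 1 j : ℂ) := fun j => by
    rw [hΦ0def, D.aP_mul_conj, Nat.cast_sum]
    exact Finset.sum_congr rfl fun s _ => by
      rw [hA, hA, map_natCast, inv_one, Units.val_one, one_mul, Nat.cast_mul]
  have hGa : ∀ {a}, a ∈ D.expN → ∀ j, G2 a j = G2 1 j := fun {a} ha j =>
    Finset.sum_congr rfl fun s _ => by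
      rw [hAinv (inv_mem ha), inv_one, Units.val_one, one_mul]
  have hG10 : G2 1 0 = e := by
    rw [← hAsum]
    refine Finset.sum_congr rfl fun s _ => ?_
    simp only [inv_one, Units.val_one, one_mul, sub_zero]
    by_cases h : D.aP (χ : G → ℂ) s = 0 <;> simp [A, h]
  have hGa0 : ∀ a, a ∉ D.expN → G2 a 0 = 0 := fun a ha => by
    refine Finset.sum_eq_zero fun s _ => ?_
    rw [sub_zero]
    by_contra h
    obtain ⟨h1, h2⟩ := mul_ne_zero_iff.mp h
    obtain ⟨r, hr, rfl⟩ := (hsupp s).mp fun e => h1 (if_pos e)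
    obtain ⟨r', hr', he⟩ := (hsupp _).mp fun e => h2 (if_pos e)
    rw [← Units.val_mul] at he
    have e := Units.ext he
    rw [← mul_assoc] at e
    have e' : a⁻¹ = r' * r⁻¹ := eq_mul_inv_of_mul_eq (mul_right_cancel e)
    exact ha (inv_mem_iff.mp (e' ▸ mul_mem hr' (inv_mem hr)))
  -- the values on `K`
  obtain ⟨dχ, ρχ, hρχ, hχρ⟩ := χ.2
  have := hρχ
  have hcentral : ∀ y : D.K, ∃ ω : ℂ, ‖ω‖ = 1 ∧ ∀ g : G, (χ : G → ℂ) (g * (y : G)) = ω * (χ : G → ℂ) g := by
    intro y
    obtain ⟨ω, hω, h⟩ := irr_central_mul (hK y.2) (pow_orderOf_eq_one _) χ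
    refine ⟨ω, norm_eq_one_of_pow_eq_one' (orderOf_pos _).ne' hω, fun g => ?_⟩
    rw [← h g, (Subgroup.mem_center_iff.mp (hK y.2) g)]
  have hsq0 : ∀ y : D.K, Φ0 (y : G) = Φ0 1 ∧ ∀ a, Φ a (y : G) = Φ a 1 := by
    intro y
    obtain ⟨ω, hω, h⟩ := hcentral y
    have h1 := h 1
    rw [one_mul] at h1
    have hω' : ω * conj ω = 1 := by rw [Complex.mul_conj', hω]; norm_num
    refine ⟨?_, fun a => ?_⟩
    · simp only [hΦ0def, h1, map_mul]
      linear_combination ((χ : G → ℂ) 1 * conj ((χ : G → ℂ) 1)) * hω'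
    · simp only [hΦdef]
      rw [hψreg a _ (regular_mem D.hQ D.hK y).2, hψreg a 1 (by simp [hp.ne_one]), h1, map_mul]
      linear_combination ((χ : G → ℂ) 1 * conj ((χ : G → ℂ) 1)) * hω'
  -- constituents are trivial on `K`
  have hconst : ∀ {Ψ : G → ℂ}, IsCharacter G Ψ → (∀ y : D.K, Ψ (y : G) = Ψ 1) →
      ∀ θ : IrrCharacter G, classInner Ψ (θ : G → ℂ) ≠ 0 →
        ∀ i (y : D.K), (θ : G → ℂ) (D.xp i * (y : G)) = (θ : G → ℂ) (D.xp i) := by
    intro Ψ hΨ hΨK θ hθ i y
    obtain ⟨n, ρ, hρ⟩ := isCharacter_irr θ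
    choose nn hnn using fun t : IrrCharacter G => classInner_isCharacter hΨ (isCharacter_irr t)
    have hexp : ∀ g, Ψ g = ∑ t, (nn t : ℂ) * (t : G → ℂ) g := fun g => by
      have h := congrFun (classFun_expand (isClassFunction_of_isCharacter hΨ)) g
      rw [Finset.sum_apply] at h
      rw [h]
      exact Finset.sum_congr rfl fun t _ => by rw [Pi.smul_apply, smul_eq_mul, hnn t]
    have hle : ∀ t : IrrCharacter G, ‖(t : G → ℂ) (y : G)‖ ≤ charDegree (t : G → ℂ) := fun t => by
      have := norm_irr_le t (y : G)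
      rwa [(charDegree_eq t).1, Complex.natCast_re] at this
    have hre : ∑ t, (nn t : ℝ) * ((charDegree (t : G → ℂ) : ℝ) - ((t : G → ℂ) (y : G)).re) = 0 := by
      have h := congrArg Complex.re (hΨK y)
      rw [hexp, hexp, Complex.re_sum, Complex.re_sum] at h
      simp only [mul_sub, Finset.sum_sub_distrib, sub_eq_zero]
      simp only [(charDegree_eq _).1, ← Nat.cast_mul, Complex.natCast_re, Complex.mul_re,
        Complex.natCast_im, zero_mul, sub_zero] at h
      push_cast at h
      exact h.symm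
    have hnn0 : nn θ ≠ 0 := fun h0 => hθ (by rw [hnn, h0, Nat.cast_zero])
    have hz := (Finset.sum_eq_zero_iff_of_nonneg fun t _ => mul_nonneg (Nat.cast_nonneg _)
      (sub_nonneg.mpr ((Complex.re_le_norm _).trans (hle t)))).mp hre θ (Finset.mem_univ θ)
    rw [mul_eq_zero, sub_eq_zero] at hz
    have hy : ((θ : G → ℂ) (y : G)).re = charDegree (θ : G → ℂ) :=
      (hz.resolve_left (Nat.cast_ne_zero.mpr hnn0)).symm
    have hy1 : (θ : G → ℂ) (y : G) = (θ : G → ℂ) 1 := by
      have hn1 := hle θ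
      rw [(charDegree_eq θ).1]
      refine Complex.ext (by rw [hy, Complex.natCast_re]) ?_
      have h2 : ‖(θ : G → ℂ) (y : G)‖ ^ 2 =
          ((θ : G → ℂ) (y : G)).re ^ 2 + ((θ : G → ℂ) (y : G)).im ^ 2 := by
        rw [Complex.sq_norm, Complex.normSq_apply]; ring
      rw [hy] at h2
      rw [Complex.natCast_im]
      nlinarith [norm_nonneg ((θ : G → ℂ) (y : G))]
    rw [← hρ] at hy1 ⊢
    have hid : ρ (y : G) = LinearMap.id := by
      rw [← char_eq_degree_iff, ← Representation.char_one ρ]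
      exact hy1
    simp only [Representation.character, map_mul, hid, ← Module.End.one_eq_id, mul_one]
  -- the difference formula
  have hdiff : ∀ a, a ∉ D.expN → ∀ X : IrrCharacter G, E.u X ≠ 0 →
      classInner (Φ a) (X : G → ℂ) = classInner Φ0 (X : G → ℂ) + (E.u X : ℂ) := by
    intro a ha X hu
    set F : G → ℂ := Φ a - Φ0 with hFdef
    have hF : IsClassFunction G F := fun g h => by
      simp only [hFdef, Pi.sub_apply, isClassFunction_of_isCharacter (hΦ a) g h,
        isClassFunction_of_isCharacter hΦ0 g h]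
    have hF0 : ∀ g, ¬ p ∣ orderOf g → F g = 0 := fun g hg => by
      simp [hFdef, hΦdef, hΦ0def, hψreg a g hg]
    have hFK : ∀ i (y : D.K), F (D.xp i * (y : G)) = F (D.xp i) := fun i y => by
      have hΨ : ∀ {Ψ : G → ℂ}, IsCharacter G Ψ → (∀ y : D.K, Ψ (y : G) = Ψ 1) →
          Ψ (D.xp i * (y : G)) = Ψ (D.xp i) := fun {Ψ} hΨ hΨK => by
        have h1 := congrFun (classFun_expand (isClassFunction_of_isCharacter hΨ))
        simp only [Finset.sum_apply, Pi.smul_apply, smul_eq_mul] at h1
        rw [h1, h1]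
        refine Finset.sum_congr rfl fun t _ => ?_
        by_cases ht : classInner Ψ (t : G → ℂ) = 0
        · rw [ht, zero_mul, zero_mul]
        · rw [hconst hΨ hΨK t ht i y]
      simp only [hFdef, Pi.sub_apply]
      rw [hΨ (hΦ a) (fun y => (hsq0 y).2 a), hΨ hΦ0 fun y => (hsq0 y).1]
    have h := D.classInner_of_regular_zero htriv hF hF0 hFK (isClassFunction_irr X)
    rw [Finset.sum_congr rfl (g := fun i => -(E.u X : ℂ) * F (D.xp i)) fun i _ => ?_, ← Finset.mul_sum] at h
    · have hs : (p : ℂ)⁻¹ * ∑ i : ZMod p, F (D.xp i) = D.aP F 0 := by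
        simp only [aP, mul_zero, neg_zero, AddChar.map_zero_eq_one, one_mul]
      have hF00 : D.aP F 0 = -(e : ℂ) := by
        have hlin : D.aP F 0 = D.aP (Φ a) 0 - D.aP Φ0 0 := by
          simp only [hFdef, aP, Pi.sub_apply, mul_sub, Finset.sum_sub_distrib]
        rw [hlin, hG, hG0, hGa0 a ha, hG10]
        simp
      rw [hFdef, classInner_sub_left, mul_left_comm ((p : ℂ)⁻¹), hs, hF00, ← hee,
        neg_mul_neg, mul_left_comm, inv_mul_cancel₀ (Nat.cast_ne_zero.mpr (by omega)), mul_one] at h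
      linear_combination h
    · by_cases hi : i = 0
      · subst hi
        rw [D.xp_zero, hF0 1 (by simp [hp.ne_one]), zero_mul, mul_zero]
      · rw [E.dval_of_u hu hi, map_neg, map_intCast]
        ring
  obtain ⟨a₀, ha₀⟩ := D.exists_not_mem_expN (by omega)
  -- the two kinds of non-exceptional characters
  set Xp := Finset.univ.filter fun X : IrrCharacter G => E.u X = 1 with hXp
  set Xm := Finset.univ.filter fun X : IrrCharacter G => E.u X = -1 ∧ X ≠ oneChar G with hXm
  have hcardu : e ≤ Xp.card + Xm.card + 1 := by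
    have hc := E.card_u
    rw [hexpE, ← hee, Nat.card_eq_fintype_card, Fintype.card_subtype] at hc
    rw [← hc]
    refine (Finset.card_le_card (t := Xp ∪ (Xm ∪ {oneChar G})) fun X hX => ?_).trans
      ((Finset.card_union_le _ _).trans (by
        have := Finset.card_union_le Xm ({oneChar G} : Finset (IrrCharacter G))
        rw [Finset.card_singleton] at this
        omega))
    rcases (E.u_cases X).resolve_left (Finset.mem_filter.mp hX).2 with h | h
    · exact Finset.mem_union_left _ (Finset.mem_filter.mpr ⟨Finset.mem_univ _, h⟩)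
    · by_cases h1 : X = oneChar G
      · exact Finset.mem_union_right _ (Finset.mem_union_right _ (Finset.mem_singleton.mpr h1))
      · exact Finset.mem_union_right _
          (Finset.mem_union_left _ (Finset.mem_filter.mpr ⟨Finset.mem_univ _, h, h1⟩))
  -- multiplicities of the constituents
  have hmult : ∀ {Ψ : G → ℂ}, IsCharacter G Ψ → (∀ y : D.K, Ψ (y : G) = Ψ 1) →
      ∀ θ : IrrCharacter G, classInner Ψ (θ : G → ℂ) ≠ 0 →
        ∀ j, D.aP (θ : G → ℂ) j = (D.multN θ j : ℂ) := by
    intro Ψ hΨ hΨK θ hθ j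
    rw [← D.mult_eq]
    simp only [aP, mult]
    congr 1
    refine Finset.sum_congr rfl fun i _ => ?_
    congr 1
    rw [dval, secMult, show (fun y : D.K => (θ : G → ℂ) (D.xp i * (y : G))) =
        (θ : G → ℂ) (D.xp i) • (D.φ : D.K → ℂ) from funext fun y => by
          rw [Pi.smul_apply, smul_eq_mul, htriv, mul_one, hconst hΨ hΨK θ hθ i y],
      classInner_smul_left, classInner_irr_self, mul_one]
  choose n0 hn0 using fun θ : IrrCharacter G => classInner_isCharacter hΦ0 (isCharacter_irr θ)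
  choose na hna using fun (a : (ZMod p)ˣ) (θ : IrrCharacter G) =>
    classInner_isCharacter (hΦ a) (isCharacter_irr θ)
  have hm1 : ∀ X ∈ Xm, 1 ≤ n0 X ∧ 2 ≤ D.multN X 0 ∧ 1 ≤ D.multN X (j₀ : ZMod p) := by
    intro X hX
    obtain ⟨-, hu, hne⟩ := Finset.mem_filter.mp hX
    have hu0 : E.u X ≠ 0 := by omega
    have h := hdiff a₀ ha₀ X hu0
    rw [hna, hn0, hu] at h
    have hz : (na a₀ X : ℤ) = (n0 X : ℤ) + (-1) := by exact_mod_cast h
    have hn1 : 1 ≤ n0 X := by omega
    have hne0 : classInner Φ0 (X : G → ℂ) ≠ 0 := by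
      rw [hn0]
      exact Nat.cast_ne_zero.mpr (by omega)
    have hvec : ∀ j : (ZMod p)ˣ, (D.multN X j : ℤ) = D.multN X 0 - 1 := fun j => by
      have h := E.vec_of_u hu0 j
      rw [hu, vec] at h
      linarith
    have h0 : 2 ≤ D.multN X 0 := by
      by_contra hlt
      have h1 := hvec j₀
      refine hne (D.eq_one_of_trivial_Q hsub hnot fun i => ?_)
      have hz : ∀ j, j ≠ 0 → D.aP (X : G → ℂ) j = 0 := fun j hj => by
        rw [hmult hΦ0 (fun y => (hsq0 y).1) X hne0, Nat.cast_eq_zero]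
        have := hvec (Units.mk0 j hj)
        rw [Units.val_mk0] at this
        omega
      rw [← D.sum_aP (X : G → ℂ), D.value_xp_eq_sum (X : G → ℂ) i]
      refine Finset.sum_congr rfl fun j _ => ?_
      by_cases hj : j = 0
      · rw [hj, mul_zero, AddChar.map_zero_eq_one, one_mul]
      · rw [hz j hj, mul_zero]
    exact ⟨hn1, h0, by have := hvec j₀; omega⟩
  have hp1 : ∀ a, a ∉ D.expN → ∀ X ∈ Xp, 1 ≤ na a X ∧ 1 ≤ D.multN X (j₀ : ZMod p) := by
    intro a ha X hX
    have hu := (Finset.mem_filter.mp hX).2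
    have hu0 : E.u X ≠ 0 := by omega
    have h := hdiff a ha X hu0
    rw [hna, hn0, hu] at h
    have hz : (na a X : ℤ) = (n0 X : ℤ) + 1 := by exact_mod_cast h
    refine ⟨by omega, ?_⟩
    have h := E.vec_of_u hu0 j₀
    rw [hu, vec] at h
    omega
  have hexpand : ∀ {Ψ : G → ℂ} (hΨ : IsCharacter G Ψ) (hΨK : ∀ y : D.K, Ψ (y : G) = Ψ 1)
      (n : IrrCharacter G → ℕ), (∀ t : IrrCharacter G, classInner Ψ (t : G → ℂ) = n t) → ∀ j,
      D.aP Ψ j = ((∑ t, n t * D.multN t j : ℕ) : ℂ) := by
    intro Ψ hΨ hΨK n hn j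
    have e : Ψ = fun g => ∑ t : IrrCharacter G, (n t : ℂ) * (t : G → ℂ) g := funext fun g => by
      have h := congrFun (classFun_expand (isClassFunction_of_isCharacter hΨ)) g
      rw [Finset.sum_apply] at h
      rw [h]
      exact Finset.sum_congr rfl fun t _ => by rw [Pi.smul_apply, smul_eq_mul, hn t]
    conv_lhs => rw [e, aP_finsum]
    rw [Nat.cast_sum]
    refine Finset.sum_congr rfl fun t _ => ?_
    by_cases ht : n t = 0
    · simp [ht]
    · rw [hmult hΨ hΨK t (by rw [hn]; exact Nat.cast_ne_zero.mpr ht), Nat.cast_mul]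
  have hM0 : 1 + 2 * Xm.card ≤ e := by
    have h := hexpand hΦ0 (fun y => (hsq0 y).1) n0 hn0 0
    rw [hG0, hG10] at h
    have h' : e = ∑ t, n0 t * D.multN t 0 := by exact_mod_cast h
    have hone : classInner Φ0 ((oneChar G : IrrCharacter G) : G → ℂ) = 1 := by
      rw [show classInner Φ0 ((oneChar G : IrrCharacter G) : G → ℂ) =
        classInner (χ : G → ℂ) (χ : G → ℂ) by simp [classInner, hΦ0def, oneChar], classInner_irr_self]
    have hn1 : n0 (oneChar G) = 1 := by
      rw [hn0] at hone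
      exact_mod_cast hone
    have hm10 : 1 ≤ D.multN (oneChar G) 0 := by
      have h2 := hmult hΦ0 (fun y => (hsq0 y).1) (oneChar G) (by rw [hone]; exact one_ne_zero) 0
      simp only [aP, oneChar, mul_zero, neg_zero, AddChar.map_zero_eq_one, one_mul, Finset.sum_const,
        Finset.card_univ, ZMod.card, nsmul_eq_mul, mul_one] at h2
      rw [inv_mul_cancel₀ (Nat.cast_ne_zero.mpr hp.ne_zero)] at h2
      have h3 : (1 : ℕ) = D.multN (oneChar G) 0 := by exact_mod_cast h2
      exact h3.le
    rw [h']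
    refine le_trans ?_ (Finset.sum_le_sum_of_subset (Finset.subset_univ (insert (oneChar G) Xm)))
    rw [Finset.sum_insert (fun h => (Finset.mem_filter.mp h).2.2 rfl), hn1, one_mul]
    refine add_le_add hm10 ?_
    rw [mul_comm, ← smul_eq_mul]
    exact Finset.card_nsmul_le_sum _ _ _ fun X hX =>
      le_trans (hm1 X hX).2.1 (Nat.le_mul_of_pos_left _ (hm1 X hX).1)
  have hlowm : Xm.card ≤ G2 1 j₀ := by
    have h := hexpand hΦ0 (fun y => (hsq0 y).1) n0 hn0 j₀
    rw [hG0] at h
    have h' : G2 1 j₀ = ∑ t, n0 t * D.multN t j₀ := by exact_mod_cast h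
    rw [h', Finset.card_eq_sum_ones]
    exact (Finset.sum_le_sum fun X hX => Nat.mul_pos (hm1 X hX).1 (hm1 X hX).2.2).trans
      (Finset.sum_le_sum_of_subset (Finset.subset_univ _))
  have hlowp : ∀ a, a ∉ D.expN → Xp.card ≤ G2 a j₀ := by
    intro a ha
    have h := hexpand (hΦ a) (fun y => (hsq0 y).2 a) (na a) (hna a) j₀
    rw [hG] at h
    have h' : G2 a j₀ = ∑ t, na a t * D.multN t j₀ := by exact_mod_cast h
    rw [h', Finset.card_eq_sum_ones]
    exact (Finset.sum_le_sum fun X hX => Nat.mul_pos (hp1 a ha X hX).1 (hp1 a ha X hX).2).trans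
      (Finset.sum_le_sum_of_subset (Finset.subset_univ _))
  -- the total
  have htotal : ∑ a : (ZMod p)ˣ, G2 a j₀ = (e - 1) * e := by
    rw [Finset.sum_comm]
    rw [← Finset.sum_erase (s := Finset.univ) (a := (j₀ : ZMod p)) (Finset.sum_eq_zero fun a _ => by rw [sub_self, mul_zero, hA0, mul_zero])]
    have hin : ∀ s ∈ Finset.univ.erase (j₀ : ZMod p),
        ∑ a : (ZMod p)ˣ, A s * A (((a⁻¹ : (ZMod p)ˣ) : ZMod p) * (s - (j₀ : ZMod p))) = A s * e := by
      intro s hs
      have hne : s - (j₀ : ZMod p) ≠ 0 := sub_ne_zero.mpr (Finset.mem_erase.mp hs).1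
      rw [← Finset.mul_sum, ← hAsum, sum_zmod_split, hA0, zero_add]
      congr 1
      refine Fintype.sum_equiv ((Equiv.inv (ZMod p)ˣ).trans (Equiv.mulRight (Units.mk0 _ hne))) _ _ fun a => ?_
      simp only [Equiv.trans_apply, Equiv.inv_apply, Equiv.coe_mulRight, Units.val_mul, Units.val_mk0]
    rw [Finset.sum_congr rfl hin, ← Finset.sum_mul]
    congr 1
    have h := Finset.add_sum_erase _ A (Finset.mem_univ (j₀ : ZMod p))
    rw [hAsum, hAj] at h
    omega
  have hlow : e * Xm.card + (p - 1 - e) * Xp.card ≤ (e - 1) * e := by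
    rw [← htotal, ← Finset.sum_filter_add_sum_filter_not Finset.univ (fun a => a ∈ D.expN)]
    have hcE : (Finset.univ.filter fun a => a ∈ D.expN).card = e := by
      rw [← Fintype.card_subtype, ← Nat.card_eq_fintype_card]
    have hcN : (Finset.univ.filter fun a => ¬ a ∈ D.expN).card = p - 1 - e := by
      have h := Finset.card_filter_add_card_filter_not (s := (Finset.univ : Finset (ZMod p)ˣ))
        fun a => a ∈ D.expN
      rw [hcE, Finset.card_univ, ZMod.card_units_eq_totient, Nat.totient_prime hp] at h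
      omega
    refine add_le_add ?_ ?_
    · rw [← hcE, ← smul_eq_mul]
      exact Finset.card_nsmul_le_sum _ _ _ fun a ha => by
        rw [hGa (Finset.mem_filter.mp ha).2]
        exact hlowm
    · rw [← hcN, ← smul_eq_mul]
      exact Finset.card_nsmul_le_sum _ _ _ fun a ha => hlowp a (Finset.mem_filter.mp ha).2
  have h1 : (e - 1) * e ≤ e * Xm.card + e * Xp.card := by
    rw [← mul_add, mul_comm e]
    exact Nat.mul_le_mul_right e (by omega)
  rcases Nat.eq_zero_or_pos Xp.card with h0 | h0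
  · omega
  · have h2 : (e + 1) * Xp.card ≤ (p - 1 - e) * Xp.card := Nat.mul_le_mul_right _ (by omega)
    rw [add_mul, one_mul] at h2
    omega

/-- A character of degree less than `(p - 1)/2` is scalar on the elements of order `p`. -/
theorem norm_value_of_lt_half (hsub : ∀ H : Subgroup G, D.Q ≤ H → H ≠ ⊤ →
      H ≤ Subgroup.normalizer (D.Q : Set G))
    (hnot : ¬ D.Q.Normal) {M : Ideal AlgInt} [M.IsMaximal] (hM : IsPModular p M)
    {B : Set (IrrCharacter G)} (hB : D.BlockData M B) {χ : IrrCharacter G} (hχ : χ ∈ B)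
    (hd : 2 * charDegree (χ : G → ℂ) + 1 < p) (i : ZMod p) :
    ‖(χ : G → ℂ) (D.xp i)‖ = charDegree (χ : G → ℂ) := by
  classical
  rcases D.exceptional_shape hM hB hχ hd with h | ⟨j₀, hsupp, hval, hdeg⟩
  · exact h i
  have hd0 : 0 < charDegree (D.φ : D.K → ℂ) := Nat.pos_of_ne_zero (charDegree_eq D.φ).2
  have hle : Nat.card D.expN ≤ charDegree (χ : G → ℂ) := hdeg ▸ Nat.le_mul_of_pos_left _ hd0
  rcases Nat.lt_or_ge (Nat.card D.expN) 2 with h1 | h2
  · -- one orbit element
    have hE : D.expN = ⊥ := Subgroup.eq_bot_of_card_le _ (by omega)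
    have hc1 : Nat.card D.expN = 1 := by rw [hE, Subgroup.card_bot]
    rw [D.value_xp_eq_sum (χ : G → ℂ), Finset.sum_eq_single (j₀ : ZMod p)]
    · rw [hval _ ((hsupp _).mpr ⟨1, one_mem _, by rw [one_mul]⟩), norm_mul,
        norm_eq_one_of_pow_eq_one' (NeZero.ne p) (stdPsi_pow p _), one_mul, hdeg, hc1, mul_one,
        Complex.norm_natCast]
    · intro j _ hj
      by_cases h : D.aP (χ : G → ℂ) j = 0
      · rw [h, mul_zero]
      · obtain ⟨r, hr, rfl⟩ := (hsupp j).mp h
        rw [hE, Subgroup.mem_bot] at hr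
        rw [hr, one_mul] at hj
        exact absurd rfl hj
    · simp
  exfalso
  have hK := D.K_le_center hsub hnot hM hsupp h2 (by omega)
  have hφ1 : charDegree (D.φ : D.K → ℂ) = 1 := by
    have h := degree_one_of_comm (fun a b : D.K => Subtype.ext
      (Subgroup.mem_center_iff.mp (hK b.2) a)) D.φ
    rw [(charDegree_eq D.φ).1] at h
    exact_mod_cast h
  rw [hφ1, one_mul] at hdeg
  let D1 := D.withChar (oneChar D.K)
  let _ : Fintype D1.K := ‹Fintype D.K›
  let _ : Fintype (Subgroup.centralizer (D1.Q : Set G)) :=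
    ‹Fintype (Subgroup.centralizer (D.Q : Set G))›
  exact D1.no_exceptional hsub hnot hM hK (fun _ => rfl) hsupp
    (fun j hj => by
      have h : D1.aP (χ : G → ℂ) j = (charDegree (D.φ : D.K → ℂ) : ℂ) := hval j hj
      rw [h, hφ1, Nat.cast_one]) hdeg h2 (show 2 * Nat.card D.expN + 1 < p by omega)

end CycSetup

/-- The theorem, by induction on the order. -/
theorem normal_of_degree_lt_half {M : Ideal AlgInt} [M.IsMaximal] (hM : IsPModular p M) :
    ∀ (n : ℕ) (A : Type u) [Group A] [Finite A], Nat.card A = n → ¬ p ^ 2 ∣ Nat.card A →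
      ∀ χ : A → ℂ, IsCharacter A χ → (∀ g : A, χ g = χ 1 → g = 1) → 2 * charDegree χ + 1 < p →
      ∀ Q : Subgroup A, Nat.card Q = p → Q.Normal := by
  intro n
  induction n using Nat.strong_induction_on with
  | _ n ih =>
    intro A _ _ hn hsqA χ hχ hfaith hdeg Q hQ
    classical
    let _ : Fintype A := Fintype.ofFinite A
    by_contra hnot
    have hp : p.Prime := Fact.out
    have hpA : p ∣ Nat.card A := hQ ▸ Subgroup.card_subgroup_dvd_card Q
    have hsub : ∀ R H : Subgroup A, Nat.card R = p → R ≤ H → H ≠ ⊤ →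
        H ≤ Subgroup.normalizer (R : Set A) := by
      intro R H hR hle hne
      have hlt : Nat.card H < n := hn ▸ lt_of_le_of_ne (Subgroup.card_le_card_group H)
        (fun e => hne ((Subgroup.card_eq_iff_eq_top H).mp e))
      have h := ih _ hlt H rfl (fun h => hsqA (h.trans (Subgroup.card_subgroup_dvd_card H)))
        (fun h => χ h) (isCharacter_comp hχ H.subtype)
        (fun g hg => Subtype.ext (hfaith g (by simpa using hg)))
        (by simpa [charDegree] using hdeg) (R.subgroupOf H)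
        (by rw [Nat.card_congr (Subgroup.subgroupOfEquivOfLe hle).toEquiv, hR])
      exact (Subgroup.normal_subgroupOf_iff_le_normalizer hle).mp h
    have := Fintype.ofFinite (IrrCharacter A)
    choose cc hcc using fun η : IrrCharacter A => classInner_isCharacter hχ (isCharacter_irr η)
    have hexp : ∀ g, χ g = ∑ η, (cc η : ℂ) * (η : A → ℂ) g := fun g => by
      have h := congrFun (classFun_expand (isClassFunction_of_isCharacter hχ)) g
      rw [Finset.sum_apply] at h
      rw [h]
      exact Finset.sum_congr rfl fun θ _ => by rw [Pi.smul_apply, smul_eq_mul, hcc θ]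
    have hx : charDegree χ = ∑ η, cc η * charDegree (η : A → ℂ) := by
      have : χ 1 = ((∑ η, cc η * charDegree (η : A → ℂ) : ℕ) : ℂ) := by
        rw [hexp]
        push_cast
        exact Finset.sum_congr rfl fun η _ => by rw [(charDegree_eq η).1]
      show ⌊(χ 1).re⌋₊ = _
      rw [this, Complex.natCast_re, Nat.floor_natCast]
    refine hnot ⟨fun u hu g => ?_⟩
    by_cases hu1 : u = 1
    · subst hu1
      rw [mul_one, mul_inv_cancel]
      exact one_mem _
    have hcomm : ∀ η : IrrCharacter A, cc η ≠ 0 →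
        (η : A → ℂ) (g * u * g⁻¹ * u⁻¹) = (η : A → ℂ) 1 := by
      intro η hη
      have hle : charDegree (η : A → ℂ) ≤ charDegree χ := by
        rw [hx]
        exact (Nat.le_mul_of_pos_left _ (Nat.pos_of_ne_zero hη)).trans
          (Finset.single_le_sum (f := fun η => cc η * charDegree (η : A → ℂ))
            (fun _ _ => Nat.zero_le _) (Finset.mem_univ η))
      have hndvd : ¬ p ∣ charDegree (η : A → ℂ) := fun h => by
        have := Nat.le_of_dvd (Nat.pos_of_ne_zero (charDegree_eq η).2) h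
        omega
      set B := blockOf M (η : A → ℂ) with hBdef
      have hB : IsPBlock M B := isPBlock_blockOf η
      have hd : 0 < blockDefect p B := by
        have hmin : sInf ((fun χ : IrrCharacter A => (charDegree (χ : A → ℂ)).factorization p) '' B) = 0 :=
          Nat.le_zero.mp ((Nat.sInf_le (show (charDegree (η : A → ℂ)).factorization p ∈
            (fun χ : IrrCharacter A => (charDegree (χ : A → ℂ)).factorization p) '' B from
            ⟨η, self_mem_blockOf η, rfl⟩)).trans
            (Nat.factorization_eq_zero_of_not_dvd hndvd).le)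
        rw [blockDefect, hmin, Nat.sub_zero]
        exact hp.factorization_pos_of_dvd Nat.card_pos.ne' hpA
      obtain ⟨D, hDK, hBD⟩ := CycSetup.exists_of_defect_pos hM hsqA hB hd
      let _ : Fintype (Subgroup.centralizer (D.Q : Set A)) := Fintype.ofFinite _
      have hDnot : ¬ D.Q.Normal := fun hD => by
        have hQD : Q ≤ D.Q := D.le_Q_of_normalizes (IsPGroup.of_card (n := 1) (by rw [hQ, pow_one]))
          (by rw [Subgroup.normalizer_eq_top_iff.mpr hD]; exact le_top)
        rw [Subgroup.eq_of_le_of_card_ge hQD (by rw [D.hQ, hQ])] at hnot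
        exact hnot hD
      obtain ⟨c, hc⟩ : ∃ c : A, c * u * c⁻¹ ∈ D.Q := by
        have hdvd : p ∣ orderOf u := by rw [orderOf_eq_p hQ hu hu1]
        obtain ⟨c, i, y, hi, hgy⟩ := D.exists_section_conj hdvd
        refine ⟨c, ?_⟩
        have hy : (y : A) = 1 := by
          have hpow : (c * u * c⁻¹) ^ p = 1 := by
            rw [conj_pow, ← orderOf_eq_p hQ hu hu1, pow_orderOf_eq_one, mul_one, mul_inv_cancel]
          rw [hgy, (commute_K D.hQ D.hK (D.xp_mem i) y).mul_pow, D.xp_pow, ZMod.natCast_self, zero_mul,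
            D.xp_zero, one_mul] at hpow
          have h2 := (regular_mem D.hQ D.hK y).2
          rcases hp.eq_one_or_self_of_dvd _ (orderOf_dvd_of_pow_eq_one hpow) with h1 | h1
          · exact orderOf_eq_one_iff.mp h1
          · exact absurd (dvd_of_eq h1.symm) h2
        rw [hgy, hy, mul_one]
        exact D.xp_mem i
      obtain ⟨i, hi⟩ := D.exists_xp_eq hc
      have hn := D.norm_value_of_lt_half (fun H => hsub D.Q H D.hQ) hDnot hM hBD
        (self_mem_blockOf η) (by omega) i
      rw [hi, isClassFunction_irr η u c] at hn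
      obtain ⟨d, ρ, hρ, hρη⟩ := η.2
      have hfr : charDegree (η : A → ℂ) = Module.finrank ℂ (Fin d → ℂ) := by
        rw [← hρη]; simp [charDegree, Representation.char_one]
      rw [hfr, ← hρη] at hn
      obtain ⟨ω, hω⟩ := (norm_char_eq_iff ρ u).mp hn
      rw [← hρη]
      show ρ.character _ = ρ.character 1
      have hc' : ρ g * ρ u = ρ u * ρ g := by
        rw [hω, ← Module.End.one_eq_id, mul_smul_comm, smul_mul_assoc, mul_one, one_mul]
      simp only [Representation.character]
      congr 1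
      rw [map_mul, map_mul, map_mul, hc', mul_assoc (ρ u), ← map_mul ρ g, mul_inv_cancel, map_one,
        mul_one, ← map_mul, mul_inv_cancel, map_one]
    have h1 : χ (g * u * g⁻¹ * u⁻¹) = χ 1 := by
      rw [hexp, hexp]
      refine Finset.sum_congr rfl fun η _ => ?_
      by_cases h0 : cc η = 0
      · simp [h0]
      · rw [hcomm η h0]
    rwa [mul_inv_eq_one.mp (hfaith _ h1)]

end CfsgLib.Block.Cyclic
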