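import Cfsg.Agent.Lib.Block.Local
import Cfsg.Agent.Lib.Char.Basic
import Mathlib.RingTheory.DiscreteValuationRing.Basic
import Mathlib.Algebra.CharP.Lemmas

/-!
# The unramified subring of the local ring

`regRing p` is the ring generated by the roots of unity of order prime to `p`, `unr p M` its
localisation at `M`.  It is a principal ideal domain whose maximal ideal is generated by `p`, and
it maps onto the residue field.
-/

namespace CfsgLib.Block.Cyclic

open Cfsg

/-- The roots of unity of order prime to `p`. -/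
def regRoots (p : ℕ) : Set ℂ := {z | ∃ m : ℕ, ¬ p ∣ m ∧ z ^ m = 1}

/-- The ring generated by the roots of unity of order prime to `p`. -/
def regRing (p : ℕ) : Subring ℂ := Subring.closure (regRoots p)

variable {p : ℕ}

theorem root_mem_regRing {z : ℂ} {m : ℕ} (hm : ¬ p ∣ m) (hz : z ^ m = 1) : z ∈ regRing p :=
  Subring.subset_closure ⟨m, hm, hz⟩

theorem regRing_isIntegral {z : ℂ} (hz : z ∈ regRing p) : IsIntegral ℤ z := by
  refine Subring.closure_induction (p := fun x _ => IsIntegral ℤ x) ?_ isIntegral_zero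
    isIntegral_one (fun _ _ _ _ ha hb => ha.add hb) (fun _ _ ha => ha.neg)
    (fun _ _ _ _ ha hb => ha.mul hb) hz
  rintro x ⟨m, hm, hx⟩
  exact CfsgLib.Block.isIntegral_of_pow_eq_one
    (Nat.pos_of_ne_zero fun h => hm (by rw [h]; exact dvd_zero p)) hx

/-- An element fixed modulo `p` by a power of Frobenius. -/
def FrobFixed (p : ℕ) {R : Type*} [CommRing R] (u : R) : Prop :=
  ∃ f : ℕ, 0 < f ∧ (p : R) ∣ u ^ p ^ f - u

theorem FrobFixed.iterate {R : Type*} [CommRing R] {u : R} {f : ℕ}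
    (h : (p : R) ∣ u ^ p ^ f - u) : ∀ n : ℕ, (p : R) ∣ u ^ p ^ (f * n) - u
  | 0 => by simp
  | n + 1 => by
    have h1 := (FrobFixed.iterate h n).trans (sub_dvd_pow_sub_pow _ _ (p ^ f))
    have h2 := dvd_add h1 h
    rw [sub_add_sub_cancel, ← pow_mul, ← pow_add, ← Nat.mul_succ] at h2
    exact h2

theorem frobFixed_all (hp : p.Prime) (u : regRing p) : FrobFixed p u := by
  obtain ⟨x, hx⟩ := u
  refine Subring.closure_induction (p := fun x hx => FrobFixed p (⟨x, hx⟩ : regRing p))
    ?_ ?_ ?_ ?_ ?_ ?_ hx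
  · rintro x ⟨m, hm, hxm⟩
    have hm0 : 0 < m := Nat.pos_of_ne_zero fun h => hm (h ▸ dvd_zero p)
    refine ⟨m.totient, Nat.totient_pos.mpr hm0, ?_⟩
    rw [show (⟨x, root_mem_regRing hm hxm⟩ : regRing p) ^ p ^ m.totient =
      ⟨x, root_mem_regRing hm hxm⟩ from Subtype.ext (by
        have h1 : p ^ m.totient % m = 1 % m :=
          Nat.ModEq.pow_totient (hp.coprime_iff_not_dvd.mpr hm)
        show x ^ p ^ m.totient = x
        conv_lhs => rw [← Nat.mod_add_div (p ^ m.totient) m, pow_add, pow_mul, hxm, one_pow,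
          mul_one, h1]
        rcases Nat.lt_or_ge 1 m with h | h
        · rw [Nat.mod_eq_of_lt h, pow_one]
        · obtain rfl : m = 1 := by omega
          rw [pow_one] at hxm
          rw [hxm, one_pow]), sub_self]
    exact dvd_zero _
  · exact ⟨1, Nat.one_pos, by
      rw [show (⟨0, _⟩ : regRing p) = 0 from rfl,
        zero_pow (pow_ne_zero _ hp.ne_zero), sub_self]
      exact dvd_zero _⟩
  · exact ⟨1, Nat.one_pos, by
      rw [show (⟨1, _⟩ : regRing p) = 1 from rfl, one_pow, sub_self]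
      exact dvd_zero _⟩
  · rintro x y hx hy ⟨f, hf, hdf⟩ ⟨g, hg, hdg⟩
    refine ⟨f * g, Nat.mul_pos hf hg, ?_⟩
    obtain ⟨r, hr⟩ := exists_add_pow_prime_pow_eq hp (⟨x, hx⟩ : regRing p) ⟨y, hy⟩ (f * g)
    have h1 := FrobFixed.iterate hdf g
    have h2 := FrobFixed.iterate hdg f
    rw [mul_comm g f] at h2
    rw [show (⟨x + y, _⟩ : regRing p) = ⟨x, hx⟩ + ⟨y, hy⟩ from rfl, hr]
    have h3 := dvd_add (dvd_add h1 h2)
      (Dvd.intro ((⟨x, hx⟩ : regRing p) * ⟨y, hy⟩ * r) rfl : (p : regRing p) ∣ _)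
    refine h3.trans (dvd_of_eq ?_)
    ring
  · rintro x hx ⟨f, hf, hdf⟩
    refine ⟨f, hf, ?_⟩
    rw [show (⟨-x, _⟩ : regRing p) = -⟨x, hx⟩ from rfl]
    rcases hp.eq_two_or_odd' with rfl | hodd
    · rw [Even.neg_pow (by simp [Nat.even_pow, hf.ne']), sub_neg_eq_add]
      refine (dvd_add hdf (Dvd.intro ⟨x, hx⟩ rfl : ((2 : ℕ) : regRing 2) ∣ _)).trans
        (dvd_of_eq ?_)
      push_cast
      ring
    · rw [Odd.neg_pow (hodd.pow), neg_sub_neg, ← neg_sub, dvd_neg]
      exact hdf
  · rintro x y hx hy ⟨f, hf, hdf⟩ ⟨g, hg, hdg⟩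
    refine ⟨f * g, Nat.mul_pos hf hg, ?_⟩
    have h1 := FrobFixed.iterate hdf g
    have h2 := FrobFixed.iterate hdg f
    rw [mul_comm g f] at h2
    rw [show (⟨x * y, _⟩ : regRing p) = ⟨x, hx⟩ * ⟨y, hy⟩ from rfl, mul_pow]
    refine (dvd_add (h1.mul_right ((⟨y, hy⟩ : regRing p) ^ p ^ (f * g)))
      (h2.mul_left (⟨x, hx⟩ : regRing p))).trans (dvd_of_eq ?_)
    ring

section loc

variable (p : ℕ) (M : Ideal AlgInt) [M.IsMaximal]

theorem regRing_le : regRing p ≤ locRing M := fun _ hz => integral_mem M (regRing_isIntegral hz)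

/-- The residue map on `regRing p`. -/
noncomputable def resR : regRing p →+* ResField M :=
  (res M).comp (Subring.inclusion (regRing_le p M))

theorem coe_ne_zero_of_resR {v : regRing p} (hv : resR p M v ≠ 0) : (v : ℂ) ≠ 0 := by
  intro h
  apply hv
  rw [show v = 0 from Subtype.ext h, map_zero]

/-- The unramified subring of the local ring at `M`. -/
noncomputable def unr : Subring ℂ where
  carrier := {z | ∃ u v : regRing p, resR p M v ≠ 0 ∧ z = (u : ℂ) / (v : ℂ)}
  zero_mem' := ⟨0, 1, by simp, by simp⟩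
  one_mem' := ⟨1, 1, by simp, by simp⟩
  add_mem' := by
    rintro _ _ ⟨u, v, hv, rfl⟩ ⟨u', v', hv', rfl⟩
    refine ⟨u * v' + v * u', v * v', by rw [map_mul]; exact mul_ne_zero hv hv', ?_⟩
    push_cast
    rw [div_add_div _ _ (coe_ne_zero_of_resR p M hv) (coe_ne_zero_of_resR p M hv')]
  mul_mem' := by
    rintro _ _ ⟨u, v, hv, rfl⟩ ⟨u', v', hv', rfl⟩
    exact ⟨u * u', v * v', by rw [map_mul]; exact mul_ne_zero hv hv', by
      push_cast; rw [div_mul_div_comm]⟩
  neg_mem' := by
    rintro _ ⟨u, v, hv, rfl⟩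
    exact ⟨-u, v, hv, by push_cast; rw [neg_div]⟩

theorem regRing_le_unr : regRing p ≤ unr p M := fun z hz => ⟨⟨z, hz⟩, 1, by simp, by simp⟩

theorem root_mem_unr {z : ℂ} {m : ℕ} (hm : ¬ p ∣ m) (hz : z ^ m = 1) : z ∈ unr p M :=
  regRing_le_unr p M (root_mem_regRing hm hz)

theorem unr_le : unr p M ≤ locRing M := by
  rintro _ ⟨u, v, hv, rfl⟩
  refine ⟨toAlgInt (regRing_isIntegral u.2), toAlgInt (regRing_isIntegral v.2), ?_, rfl⟩
  intro h
  apply hv
  rw [← memLocalIdeal_algInt (M := M)] at h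
  exact (memLocalIdeal_coe _).mp h

/-- The inclusion in the local ring. -/
noncomputable def unrIncl : unr p M →+* locRing M := Subring.inclusion (unr_le p M)

@[simp] theorem coe_unrIncl (x : unr p M) : ((unrIncl p M x : locRing M) : ℂ) = x := rfl

/-- The residue map. -/
noncomputable def resU : unr p M →+* ResField M := (res M).comp (unrIncl p M)

theorem resU_apply (x : unr p M) : resU p M x = res M (unrIncl p M x) := rfl

/-- One path to every ring structure on the unramified ring. -/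
noncomputable instance (priority := high) instCommRingUnr : CommRing (unr p M) :=
  (unr p M).toCommRing

/-- The semiring structure, through `instCommRingUnr`. -/
noncomputable instance (priority := high) instCommSemiringUnr : CommSemiring (unr p M) :=
  (instCommRingUnr p M).toCommSemiring

/-- The semiring structure, through `instCommRingUnr`. -/
noncomputable instance (priority := high) instSemiringUnr : Semiring (unr p M) :=
  (instCommRingUnr p M).toCommSemiring.toSemiring

/-- The ring structure, through `instCommRingUnr`. -/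
noncomputable instance (priority := high) instRingUnr : Ring (unr p M) :=
  (instCommRingUnr p M).toRing

instance : CharZero (unr p M) :=
  ⟨fun a b h => by simpa using congrArg (Subtype.val : unr p M → ℂ) h⟩

variable {p M}

theorem resU_div {u v : regRing p} (hv : resR p M v ≠ 0) {x : unr p M}
    (hx : (x : ℂ) = (u : ℂ) / v) : resU p M x * resR p M v = resR p M u := by
  show res M _ * res M _ = res M _
  rw [← map_mul]
  congr 1
  refine Subtype.ext ?_
  show (x : ℂ) * (v : ℂ) = (u : ℂ)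
  rw [hx, div_mul_cancel₀ _ (coe_ne_zero_of_resR p M hv)]

theorem isUnit_of_resU {x : unr p M} (hx : resU p M x ≠ 0) : IsUnit x := by
  obtain ⟨u, v, hv, hxe⟩ := x.2
  have hu : resR p M u ≠ 0 := by
    rw [← resU_div hv hxe]
    exact mul_ne_zero hx hv
  refine IsUnit.of_mul_eq_one ⟨(v : ℂ) / u, v, u, hu, rfl⟩ (Subtype.ext ?_)
  show (x : ℂ) * ((v : ℂ) / u) = 1
  rw [hxe, div_mul_div_comm, mul_comm, div_self
    (mul_ne_zero (coe_ne_zero_of_resR p M hv) (coe_ne_zero_of_resR p M hu))]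

theorem natCast_resU (hM : IsPModular p M) : resU p M (p : unr p M) = 0 := by
  have := charP_resField hM
  rw [map_natCast, CharP.cast_eq_zero]

theorem resU_eq_zero_iff (hM : IsPModular p M) (x : unr p M) :
    resU p M x = 0 ↔ (p : unr p M) ∣ x := by
  refine ⟨fun hx => ?_, fun ⟨y, hy⟩ => by rw [hy, map_mul, natCast_resU hM, zero_mul]⟩
  obtain ⟨u, v, hv, hxe⟩ := x.2
  have hu : resR p M u = 0 := by rw [← resU_div hv hxe, hx, zero_mul]
  obtain ⟨f, hf, r, hr⟩ := frobFixed_all hM.1 u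
  have hp1 : 1 < p ^ f := Nat.one_lt_pow hf.ne' hM.1.one_lt
  have hw : resR p M (u ^ (p ^ f - 1) - 1) ≠ 0 := by
    rw [map_sub, map_pow, hu, zero_pow (by omega), map_one, zero_sub]
    exact neg_ne_zero.mpr one_ne_zero
  refine ⟨⟨(r : ℂ) / ((u ^ (p ^ f - 1) - 1) * v : regRing p), r, _,
    by rw [map_mul]; exact mul_ne_zero hw hv, rfl⟩, Subtype.ext ?_⟩
  have hw0 := coe_ne_zero_of_resR p M hw
  have hv0 := coe_ne_zero_of_resR p M hv
  have he : u * (u ^ (p ^ f - 1) - 1) = (p : regRing p) * r := by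
    rw [← hr, mul_sub, mul_one, ← pow_succ', Nat.sub_add_cancel hp1.le]
  have he' : (u : ℂ) * (((u ^ (p ^ f - 1) - 1 : regRing p)) : ℂ) = (p : ℂ) * (r : ℂ) := by
    exact_mod_cast congrArg (Subtype.val : regRing p → ℂ) he
  show (x : ℂ) = (p : ℂ) * ((r : ℂ) / ((((u ^ (p ^ f - 1) - 1 : regRing p)) : ℂ) * (v : ℂ)))
  rw [hxe, mul_div_assoc', ← he', mul_comm (u : ℂ), mul_div_mul_left _ _ hw0]

/-- A non-zero element divides a non-zero integer. -/
theorem exists_dvd_natCast {x : unr p M} (hx : x ≠ 0) :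
    ∃ N : ℕ, N ≠ 0 ∧ x ∣ (N : unr p M) := by
  obtain ⟨u, v, hv, hxe⟩ := x.2
  have hu : (u : ℂ) ≠ 0 := by
    intro h
    apply hx
    refine Subtype.ext ?_
    rw [hxe, h, zero_div]
    rfl
  have hint := regRing_isIntegral u.2
  set q := minpoly ℤ (u : ℂ) with hq
  have hq0 : q.coeff 0 ≠ 0 := by
    intro h
    have hd := ((Polynomial.irreducible_X (R := ℤ)).associated_of_dvd (minpoly.irreducible hint)
      (Polynomial.X_dvd_iff.mpr h)).symm.dvd
    obtain ⟨c, hc⟩ := hd
    apply hu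
    have := congrArg (Polynomial.aeval (u : ℂ)) hc
    rwa [Polynomial.aeval_X, map_mul, minpoly.aeval, zero_mul] at this
  have he := minpoly.aeval ℤ (u : ℂ)
  rw [← hq, ← Polynomial.X_mul_divX_add q, map_add, map_mul, Polynomial.aeval_X,
    Polynomial.aeval_C] at he
  have hmem : ∀ f : Polynomial ℤ, Polynomial.aeval (u : ℂ) f ∈ regRing p := by
    intro f
    induction f using Polynomial.induction_on' with
    | add a b ha hb => rw [map_add]; exact add_mem ha hb
    | monomial n c =>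
      rw [Polynomial.aeval_monomial, algebraMap_int_eq, eq_intCast]
      exact mul_mem (intCast_mem _ c) (pow_mem u.2 n)
  refine ⟨(q.coeff 0).natAbs, Int.natAbs_ne_zero.mpr hq0, ?_⟩
  have hd : x ∣ ((q.coeff 0 : ℤ) : unr p M) := by
    refine ⟨⟨-(Polynomial.aeval (u : ℂ) q.divX * v),
      neg_mem (mul_mem (regRing_le_unr p M (hmem _)) (regRing_le_unr p M v.2))⟩, Subtype.ext ?_⟩
    show ((q.coeff 0 : ℤ) : ℂ) = (x : ℂ) * _
    rw [hxe, mul_neg, div_mul_eq_mul_div, ← mul_assoc, mul_div_assoc,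
      div_self (coe_ne_zero_of_resR p M hv), mul_one, eq_neg_iff_add_eq_zero, add_comm]
    exact_mod_cast he
  rcases Int.natAbs_eq (q.coeff 0) with h | h
  · rw [h, Int.cast_natCast] at hd
    exact hd
  · rw [h, Int.cast_neg, Int.cast_natCast] at hd
    exact dvd_neg.mp hd

theorem exists_eq_pow_mul (hM : IsPModular p M) {x : unr p M} (hx : x ≠ 0) :
    ∃ n : ℕ, ∃ y : unr p M, resU p M y ≠ 0 ∧ x = (p : unr p M) ^ n * y := by
  classical
  have hp := hM.1
  obtain ⟨N, hN, hdvd⟩ := exists_dvd_natCast hx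
  obtain ⟨a, N', hN', rfl⟩ := Nat.exists_eq_pow_mul_and_not_dvd hN p hp.ne_one
  have hfin : ∃ n, ¬ (p : unr p M) ^ n ∣ x := by
    refine ⟨a + 1, fun h => ?_⟩
    obtain ⟨w, hw⟩ := h.trans hdvd
    push_cast at hw
    rw [pow_succ, mul_assoc, mul_right_inj' (pow_ne_zero _ (Nat.cast_ne_zero.mpr hp.ne_zero))] at hw
    have h0 := congrArg (resU p M) hw
    rw [map_mul, natCast_resU hM, zero_mul, map_natCast] at h0
    have := charP_resField hM
    exact hN' ((CharP.cast_eq_zero_iff (ResField M) p N').mp h0)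
  set n := Nat.find hfin with hn
  have hn0 : n ≠ 0 := by
    intro h
    have := Nat.find_spec hfin
    rw [← hn, h, pow_zero] at this
    exact this (one_dvd _)
  obtain ⟨y, hy⟩ : (p : unr p M) ^ (n - 1) ∣ x := by
    by_contra h
    have := Nat.find_min' hfin h
    omega
  refine ⟨n - 1, y, fun h0 => ?_, hy⟩
  obtain ⟨z, rfl⟩ := (resU_eq_zero_iff hM y).mp h0
  apply Nat.find_spec hfin
  rw [← hn, hy, ← Nat.sub_add_cancel (Nat.pos_of_ne_zero hn0)]
  exact ⟨z, by rw [Nat.add_sub_cancel, pow_succ, mul_assoc]⟩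

theorem isDVR_unr (hM : IsPModular p M) : IsDiscreteValuationRing (unr p M) := by
  refine IsDiscreteValuationRing.ofHasUnitMulPowIrreducibleFactorization ⟨(p : unr p M), ?_, ?_⟩
  · refine ⟨fun h => ?_, fun a b hab => ?_⟩
    · exact (h.map (resU p M)).ne_zero (natCast_resU hM)
    · by_contra hne
      rw [not_or] at hne
      have ha : resU p M a = 0 := by_contra fun h => hne.1 (isUnit_of_resU h)
      have hb : resU p M b = 0 := by_contra fun h => hne.2 (isUnit_of_resU h)
      obtain ⟨a', rfl⟩ := (resU_eq_zero_iff hM a).mp ha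
      rw [mul_assoc] at hab
      have h1 := (mul_right_eq_self₀.mp hab.symm).resolve_right (Nat.cast_ne_zero.mpr hM.1.ne_zero)
      have h2 := congrArg (resU p M) h1
      rw [map_mul, map_one, hb, mul_zero] at h2
      exact zero_ne_one h2
  · intro x hx
    obtain ⟨n, y, hy, rfl⟩ := exists_eq_pow_mul hM hx
    exact ⟨n, (associated_mul_unit_right _ y (isUnit_of_resU hy))⟩

theorem isPrincipalIdealRing_unr (hM : IsPModular p M) : IsPrincipalIdealRing (unr p M) := by
  have := isDVR_unr hM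
  infer_instance

theorem resU_surjective (hM : IsPModular p M) : Function.Surjective (resU p M) := by
  intro x
  rcases eq_or_ne x 0 with rfl | hx
  · exact ⟨0, map_zero _⟩
  · obtain ⟨m, z, hm, hzm, hzx⟩ := exists_rootOfUnity_lift hM hx
    have hzC : (z : ℂ) ^ m = 1 := by exact_mod_cast congrArg (Subtype.val : locRing M → ℂ) hzm
    exact ⟨⟨z, root_mem_unr p M hm hzC⟩, hzx⟩

theorem inv_natCast_mem_unr (hM : IsPModular p M) {n : ℕ} (hn : ¬ p ∣ n) :
    ((n : ℂ))⁻¹ ∈ unr p M := by
  refine ⟨1, (n : regRing p), ?_, by push_cast; rw [one_div]⟩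
  have := charP_resField hM
  rw [map_natCast, Ne, CharP.cast_eq_zero_iff (ResField M) p]
  exact hn

/-- Character values at `p`-regular elements lie in the unramified ring. -/
theorem char_mem_unr {G : Type*} [Group G] [Finite G] {χ : G → ℂ} (hχ : Cfsg.IsCharacter G χ)
    {g : G} (hg : ¬ p ∣ orderOf g) : χ g ∈ unr p M := by
  obtain ⟨n, ρ, rfl⟩ := hχ
  obtain ⟨b, μ, h1, -, h3⟩ := CfsgLib.Char.exists_eigen_data ρ g
  have := h3 1
  simp only [pow_one] at this
  rw [this]
  exact sum_mem fun i _ => root_mem_unr p M hg (h1 i)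

end loc

end CfsgLib.Block.Cyclic
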