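import Cfsg.Agent.Lib.Block.Cyclic.CoprimeModule
import Cfsg.Agent.Lib.Block.Cyclic.UnramRing
import Cfsg.Agent.Lib.Block.CentralChar
import Cfsg.Agent.Lib.Char.ExtendCriteria
import Cfsg.Agent.Lib.Char.InvariantAbove

/-!
# Cyclic extensions of order prime to `p` over the unramified ring

`exists_spectral_of_cyclic`: a module over the residue field for a `p'`-group `Γ`, on which the
idempotent of an invariant character `φ` of a normal subgroup with cyclic quotient is the identity,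
has an equivariant endomorphism with at least `dim / φ 1` eigenvalues.
-/

open Finset MonoidAlgebra
open scoped ComplexConjugate

set_option linter.unusedSectionVars false

namespace CfsgLib.Block.Cyclic

open Cfsg CfsgLib.Char

variable {p : ℕ} (M : Ideal AlgInt) [M.IsMaximal]

variable (p) in
/-- An element of the unramified ring, or zero. -/
noncomputable def toUnr (z : ℂ) : unr p M :=
  @dite _ (z ∈ unr p M) (Classical.propDecidable _) (fun h => ⟨z, h⟩) (fun _ => 0)

theorem coe_toUnr {z : ℂ} (h : z ∈ unr p M) : ((toUnr p M z : unr p M) : ℂ) = z := by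
  rw [toUnr, dif_pos h]

variable (p) in
/-- The map to the complex group algebra. -/
noncomputable def unrToC (A : Type*) [Group A] :
    MonoidAlgebra (unr p M) A →+* MonoidAlgebra ℂ A :=
  mapRingHom A (unr p M).subtype

theorem coeff_unrToC {A : Type*} [Group A] (a : MonoidAlgebra (unr p M) A) (g : A) :
    (unrToC p M A a).coeff g = (a.coeff g : ℂ) := by simp [unrToC]

theorem unrToC_injective {A : Type*} [Group A] [Fintype A] [DecidableEq A] :
    Function.Injective (unrToC p M A) := fun a b h => ga_ext fun g => Subtype.ext (by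
      rw [← coeff_unrToC, ← coeff_unrToC, h])

variable (p) in
/-- The reduced group algebra element. -/
noncomputable def unrToK (A : Type*) [Group A] :
    MonoidAlgebra (unr p M) A →+* MonoidAlgebra (ResField M) A :=
  mapRingHom A (resU p M)

theorem coeff_unrToK {A : Type*} [Group A] (a : MonoidAlgebra (unr p M) A) (g : A) :
    (unrToK p M A a).coeff g = resU p M (a.coeff g) := by simp [unrToK]

variable {Γ : Type*} [Group Γ] [Fintype Γ] [DecidableEq Γ]

variable (p) in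
/-- The idempotent of a character over the unramified ring. -/
noncomputable def idemU (ξ : Γ → ℂ) : MonoidAlgebra (unr p M) Γ :=
  gaOfFun fun g => toUnr p M ((charIdem ξ).coeff g)

variable {M}

theorem charIdem_mem (hM : IsPModular p M) (hΓ : ¬ p ∣ Fintype.card Γ) (ξ : IrrCharacter Γ)
    (g : Γ) : (charIdem (ξ : Γ → ℂ)).coeff g ∈ unr p M := by
  have hreg : ∀ x : Γ, ¬ p ∣ orderOf x := fun x h => hΓ (h.trans orderOf_dvd_card)
  have hξ := isCharacter_irr ξ
  simp only [charIdem, coeff_gaOfFun]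
  rw [← irr_inv ξ g, Nat.card_eq_fintype_card]
  exact mul_mem (inv_natCast_mem_unr hM hΓ)
    (mul_mem (char_mem_unr hξ (hreg _)) (char_mem_unr hξ (hreg _)))

theorem coe_idemU (hM : IsPModular p M) (hΓ : ¬ p ∣ Fintype.card Γ) (ξ : IrrCharacter Γ) :
    unrToC p M Γ (idemU p M (ξ : Γ → ℂ)) = charIdem (ξ : Γ → ℂ) :=
  ga_ext fun g => by
    rw [coeff_unrToC, idemU, coeff_gaOfFun, coe_toUnr M (charIdem_mem hM hΓ ξ g)]

theorem idemU_mul_self (hM : IsPModular p M) (hΓ : ¬ p ∣ Fintype.card Γ) (ξ : IrrCharacter Γ) :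
    idemU p M (ξ : Γ → ℂ) * idemU p M (ξ : Γ → ℂ) = idemU p M (ξ : Γ → ℂ) := by
  classical
  have hc := isClassElt_charIdem (isClassFunction_irr ξ)
  apply unrToC_injective
  rw [map_mul, coe_idemU hM hΓ]
  refine classElt_ext (hc.mul hc) hc fun ψ => ?_
  rw [omega_mul ψ.2 hc hc, omega_charIdem]
  split_ifs <;> simp

theorem commute_idemU (hM : IsPModular p M) (hΓ : ¬ p ∣ Fintype.card Γ) (ξ : IrrCharacter Γ)
    (u : Γ) : Commute (single u 1) (idemU p M (ξ : Γ → ℂ)) := by
  refine (commute_single_iff _ u).mpr fun g => Subtype.ext ?_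
  rw [← coeff_unrToC, ← coeff_unrToC, coe_idemU hM hΓ]
  exact isClassElt_charIdem (isClassFunction_irr ξ) g u

/-- The right regular rank of the idempotent of `ξ` is `(ξ 1) ^ 2`. -/
theorem finrank_range_idemU (hM : IsPModular p M) (hΓ : ¬ p ∣ Fintype.card Γ)
    (ξ : IrrCharacter Γ) {d : ℕ} (hd : (ξ : Γ → ℂ) 1 = d) :
    Module.finrank (ResField M)
      (LinearMap.range (rightOp (unrToK p M Γ (idemU p M (ξ : Γ → ℂ))))) = d * d := by
  have := isPrincipalIdealRing_unr hM
  have : RingHomSurjective (resU p M) := ⟨resU_surjective hM⟩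
  refine finrank_range_rightOp hM.1 (resU_eq_zero_iff hM) (idemU_mul_self hM hΓ ξ)
    (fun g => coeff_unrToK M _ g) (Subtype.ext ?_)
  push_cast
  rw [← coeff_unrToC, coe_idemU hM hΓ, charIdem, coeff_gaOfFun, hd, Nat.card_eq_fintype_card,
    Complex.conj_natCast, mul_inv_cancel_left₀ (Nat.cast_ne_zero.mpr Fintype.card_ne_zero)]

variable (K : Subgroup Γ) [K.Normal] [Fintype K] [DecidableEq K]

/-- The characters over an invariant character with cyclic quotient restrict to it. -/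
theorem restrict_eq_of_cyclic (hcyc : IsCyclic (Γ ⧸ K)) (φ : IrrCharacter K)
    (hinv : ∀ (g : Γ) (n : K),
      (φ : K → ℂ) ⟨g * n * g⁻¹, ‹K.Normal›.conj_mem (n : Γ) n.2 g⟩ = (φ : K → ℂ) n)
    (ξ : IrrCharacter Γ) (h : classInner (fun s : K => (ξ : Γ → ℂ) s) (φ : K → ℂ) ≠ 0) (s : K) :
    (ξ : Γ → ℂ) s = (φ : K → ℂ) s := by
  classical
  obtain ⟨m, ρ, hρ, hφ⟩ := φ.2
  obtain ⟨χ₀, hχ₀, hres⟩ := exists_char_of_rep K ρ (extends_of_cyclic K ρ (fun g n => by
    have := hinv g n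
    rw [← hφ] at this
    exact this) hcyc)
  have hres' : ∀ n : K, χ₀ n = (φ : K → ℂ) n := fun n => by rw [hres, ← hφ]
  have hcomm : ∀ a b : Γ, a * b * a⁻¹ * b⁻¹ ∈ K := by
    let _ : CommGroup (Γ ⧸ K) := hcyc.commGroup
    intro a b
    rw [← QuotientGroup.eq_one_iff]
    simp only [QuotientGroup.mk_mul, QuotientGroup.mk_inv]
    rw [mul_comm (a : Γ ⧸ K), mul_assoc (b : Γ ⧸ K), mul_inv_cancel, mul_one, mul_inv_cancel]
  have hne : classInner (fun n : K => ((⟨χ₀, hχ₀⟩ : IrrCharacter Γ) : Γ → ℂ) n) (φ : K → ℂ) ≠ 0 := by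
    rw [show (fun n : K => ((⟨χ₀, hχ₀⟩ : IrrCharacter Γ) : Γ → ℂ) n) = (φ : K → ℂ) from funext hres',
      classInner_irr_self]
    exact one_ne_zero
  obtain ⟨f, hf, hfe⟩ := exists_linMul_eq (K := K) hcomm (χ := ⟨χ₀, hχ₀⟩) (χ' := ξ) (θ := φ) hne h
  have e1 : (ξ : Γ → ℂ) s = (f (s : Γ) : ℂ) * χ₀ s := by
    rw [← hfe]
    rfl
  have e2 : f (s : Γ) = 1 := (mem_linearOver K).mp hf (s : Γ) s.2
  rw [e1, hres', e2, Units.val_one, one_mul]

/-- The idempotent of `φ`, as an element of the group algebra of `Γ`. -/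
noncomputable def idemUp (p : ℕ) (M : Ideal AlgInt) [M.IsMaximal] (φ : K → ℂ) :
    MonoidAlgebra (unr p M) Γ :=
  ∑ s : K, single (s : Γ) ((idemU p M φ).coeff s)

theorem coeff_unrToC_idemUp (hM : IsPModular p M) (hK : ¬ p ∣ Fintype.card K) (φ : IrrCharacter K)
    (g : Γ) : (unrToC p M Γ (idemUp K p M (φ : K → ℂ))).coeff g =
      @dite _ (g ∈ K) (Classical.propDecidable _)
        (fun h => (charIdem (φ : K → ℂ)).coeff ⟨g, h⟩) (fun _ => 0) := by
  classical
  rw [coeff_unrToC, idemUp, coeff_sum_apply]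
  push_cast
  split_ifs with h
  · rw [Finset.sum_eq_single ⟨g, h⟩]
    · rw [← coe_idemU hM hK, coeff_unrToC]
      simp
    · intro s _ hs
      have : (s : Γ) ≠ g := fun e => hs (Subtype.ext e)
      simp [Finsupp.single_eq_of_ne this.symm]
    · simp
  · refine Finset.sum_eq_zero fun s _ => ?_
    have : g ≠ (s : Γ) := fun e => h (e ▸ s.2)
    simp [Finsupp.single_eq_of_ne this]

theorem idemUp_eq_sum (hM : IsPModular p M) (hΓ : ¬ p ∣ Fintype.card Γ)
    [Fintype (IrrCharacter Γ)] (hcyc : IsCyclic (Γ ⧸ K)) (φ : IrrCharacter K)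
    (hinv : ∀ (g : Γ) (n : K),
      (φ : K → ℂ) ⟨g * n * g⁻¹, ‹K.Normal›.conj_mem (n : Γ) n.2 g⟩ = (φ : K → ℂ) n) :
    idemUp K p M (φ : K → ℂ) = ∑ ξ ∈ Finset.univ.filter
      (fun ξ : IrrCharacter Γ => classInner (fun s : K => (ξ : Γ → ℂ) s) (φ : K → ℂ) ≠ 0),
        idemU p M (ξ : Γ → ℂ) := by
  classical
  have hK : ¬ p ∣ Fintype.card K := fun h => hΓ (h.trans (by
    rw [← Nat.card_eq_fintype_card, ← Nat.card_eq_fintype_card]
    exact K.card_subgroup_dvd_card))
  apply unrToC_injective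
  have hz : IsClassElt (unrToC p M Γ (idemUp K p M (φ : K → ℂ))) := fun g h => by
    rw [coeff_unrToC_idemUp K hM hK, coeff_unrToC_idemUp K hM hK]
    have hiff : h * g * h⁻¹ ∈ K ↔ g ∈ K :=
      ⟨fun hh => by simpa [mul_assoc] using ‹K.Normal›.conj_mem _ hh h⁻¹,
        fun hh => ‹K.Normal›.conj_mem _ hh h⟩
    split_ifs with h1 h2 h2
    · simp only [charIdem, coeff_gaOfFun]
      rw [hinv h ⟨g, h2⟩]
    · exact absurd (hiff.mp h1) h2
    · exact absurd (hiff.mpr h2) h1
    · rfl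
  conv_lhs => rw [classElt_expand hz]
  rw [map_sum, Finset.sum_filter]
  refine Finset.sum_congr rfl fun ξ _ => ?_
  have hom : omega (ξ : Γ → ℂ) (unrToC p M Γ (idemUp K p M (φ : K → ℂ))) =
      (φ : K → ℂ) 1 / (ξ : Γ → ℂ) 1 * classInner (fun s : K => (ξ : Γ → ℂ) s) (φ : K → ℂ) := by
    rw [omega, Finset.sum_congr rfl fun g _ => by rw [coeff_unrToC_idemUp K hM hK]]
    rw [← Finset.sum_subset (Finset.subset_univ (Finset.univ.map ⟨_, K.subtype_injective⟩))
      (fun g _ hg => by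
        rw [dif_neg fun h => hg (Finset.mem_map.mpr ⟨⟨g, h⟩, Finset.mem_univ _, rfl⟩), zero_mul]),
      Finset.sum_map, classInner, Finset.mul_sum, Finset.mul_sum, Finset.sum_div]
    refine Finset.sum_congr rfl fun s _ => ?_
    erw [dif_pos s.2]
    simp only [charIdem, coeff_gaOfFun, Function.Embedding.coeFn_mk, Subgroup.coe_subtype]
    ring
  rw [hom]
  split_ifs with h
  · have hr := restrict_eq_of_cyclic K hcyc φ hinv ξ h
    have h1 : (ξ : Γ → ℂ) 1 = (φ : K → ℂ) 1 := hr 1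
    rw [show (fun s : K => (ξ : Γ → ℂ) s) = (φ : K → ℂ) from funext hr, classInner_irr_self, mul_one,
      h1, div_self (irr_one_ne_zero φ), one_smul, coe_idemU hM hΓ]
  · push Not at h
    rw [h, mul_zero, zero_smul]

/-- The spectral endomorphism of a module over `φ`. -/
theorem exists_spectral_of_cyclic (hM : IsPModular p M) (hΓ : ¬ p ∣ Fintype.card Γ)
    (hcyc : IsCyclic (Γ ⧸ K)) (φ : IrrCharacter K)
    (hinv : ∀ (g : Γ) (n : K),
      (φ : K → ℂ) ⟨g * n * g⁻¹, ‹K.Normal›.conj_mem (n : Γ) n.2 g⟩ = (φ : K → ℂ) n)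
    {W : Type*} [AddCommGroup W] [Module (ResField M) W] [FiniteDimensional (ResField M) W]
    (ρ : Representation (ResField M) Γ W) {d : ℕ} (hd : (φ : K → ℂ) 1 = d)
    (hW : ρ.asAlgebraHom (unrToK p M Γ (idemUp K p M (φ : K → ℂ))) = 1) :
    ∃ (Φ : Module.End (ResField M) W) (Λ : Finset (ResField M)), (∀ g, Commute Φ (ρ g)) ∧
      (∀ l ∈ Λ, ∃ x : W, x ≠ 0 ∧ Φ x = l • x) ∧
      Module.finrank (ResField M) W ≤ d * Λ.card := by
  classical
  have := Fintype.ofFinite (IrrCharacter Γ)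
  have : IsAlgClosed (ResField M) := isAlgClosed_resField
  have hchar := charP_resField hM
  have hcard : (Fintype.card Γ : ResField M) ≠ 0 := by
    rw [Ne, CharP.cast_eq_zero_iff (ResField M) p]
    exact hΓ
  refine exists_spectral hcard ρ fun U hU => ?_
  set S := Finset.univ.filter
    (fun ξ : IrrCharacter Γ => classInner (fun s : K => (ξ : Γ → ℂ) s) (φ : K → ℂ) ≠ 0)
  obtain ⟨x₀, hx₀U, hx₀⟩ := U.exists_mem_ne_zero_of_ne_bot hU.1
  obtain ⟨ξ, hξS, hξne⟩ : ∃ ξ ∈ S,
      ρ.asAlgebraHom (unrToK p M Γ (idemU p M (ξ : Γ → ℂ))) x₀ ≠ 0 := by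
    by_contra h
    push Not at h
    apply hx₀
    have e := LinearMap.congr_fun hW x₀
    rw [idemUp_eq_sum K hM hΓ hcyc φ hinv, map_sum, map_sum, LinearMap.sum_apply,
      Finset.sum_eq_zero h] at e
    exact e.symm
  set a := unrToK p M Γ (idemU p M (ξ : Γ → ℂ)) with ha
  set E := ρ.asAlgebraHom a with hE
  have hEapp : ∀ x, E x = ∑ g, a.coeff g • ρ g x := fun x => by
    rw [hE, Representation.asAlgebraHom_def, MonoidAlgebra.lift_apply,
      Finsupp.sum_fintype _ _ (fun g => by simp), LinearMap.sum_apply]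
    rfl
  have hEid : ∀ x, E (E x) = E x := fun x => by
    rw [← Module.End.mul_apply, hE, ← map_mul, ha, ← map_mul, idemU_mul_self hM hΓ]
  have hEU : ∀ x ∈ U, E x ∈ U := fun x hx => by
    rw [hEapp]
    exact Submodule.sum_mem _ fun g _ => U.smul_mem _ (hU.2.1 g x hx)
  have hEρ : ∀ g x, E (ρ g x) = ρ g (E x) := fun g x => by
    have h1 : Commute (unrToK p M Γ (single g 1)) a := (commute_idemU hM hΓ ξ g).map _
    rw [unrToK, mapRingHom_single, map_one] at h1
    rw [← Module.End.mul_apply, ← Module.End.mul_apply, ← Representation.asAlgebraHom_single_one,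
      hE, ← map_mul, ← map_mul, h1.eq]
  have hfix : U ⊓ LinearMap.ker (E - 1) = U := by
    refine hU.2.2 _ inf_le_left (fun g x hx => ⟨hU.2.1 g x hx.1, ?_⟩) ?_
    · have h2 : E x - x = 0 := hx.2
      show E (ρ g x) - ρ g x = 0
      rw [hEρ, ← map_sub, h2, map_zero]
    · refine (Submodule.ne_bot_iff _).mpr ⟨E x₀, ⟨hEU _ hx₀U, ?_⟩, hξne⟩
      show E (E x₀) - E x₀ = 0
      rw [hEid, sub_self]
  have hUfix : ∀ x ∈ U, ∑ g, a.coeff g • ρ g x = x := fun x hx => by
    have h2 : x ∈ U ⊓ LinearMap.ker (E - 1) := hfix.symm ▸ hx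
    rw [← hEapp]
    exact sub_eq_zero.mp h2.2
  have hξ1 : (ξ : Γ → ℂ) 1 = d := by
    rw [← hd]
    exact restrict_eq_of_cyclic K hcyc φ hinv ξ (Finset.mem_filter.mp hξS).2 1
  exact finrank_le_of_simple hcard ρ hU a hUfix (finrank_range_idemU hM hΓ ξ hξ1).le

end CfsgLib.Block.Cyclic
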