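import Cfsg.Agent.Lib.Block.Cyclic.Tate
import Mathlib.RepresentationTheory.Basic
import Mathlib.LinearAlgebra.Eigenspace.Triangularizable
import Mathlib.FieldTheory.IsAlgClosed.Basic
import Mathlib.LinearAlgebra.Trace
import Mathlib.LinearAlgebra.Dimension.Finite
import Mathlib.LinearAlgebra.StdBasis
import Mathlib.Algebra.MonoidAlgebra.Basic

/-!
# Modules for a group of order invertible in the field

`exists_spectral`: such a module has an equivariant endomorphism with at least
`dim W / d` eigenvalues, if `d` bounds the dimensions of its simple submodules.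
`finrank_le_of_idempotent`: the bound from the right regular rank of a lifted idempotent.
-/

open Finset

set_option linter.unusedSectionVars false

namespace CfsgLib.Block.Cyclic

universe u v w

section spectral

variable {k : Type u} [Field k] {Γ : Type v} [Group Γ] [Fintype Γ]
  {W : Type w} [AddCommGroup W] [Module k W]

/-- An invariant subspace. -/
def IsInvSub (ρ : Representation k Γ W) (S : Submodule k W) : Prop :=
  ∀ g, ∀ x ∈ S, ρ g x ∈ S

/-- A minimal non-zero invariant subspace. -/
def IsSimpleSub (ρ : Representation k Γ W) (U : Submodule k W) : Prop :=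
  U ≠ ⊥ ∧ IsInvSub ρ U ∧ ∀ U' ≤ U, IsInvSub ρ U' → U' ≠ ⊥ → U' = U

variable [FiniteDimensional k W]

theorem exists_simpleSub (ρ : Representation k Γ W) {S : Submodule k W} (hS : IsInvSub ρ S)
    (h0 : S ≠ ⊥) : ∃ U ≤ S, IsSimpleSub ρ U := by
  induction hn : Module.finrank k S using Nat.strong_induction_on generalizing S with
  | _ n ih =>
    by_cases h : ∃ U' ≤ S, IsInvSub ρ U' ∧ U' ≠ ⊥ ∧ U' ≠ S
    · obtain ⟨U', hle, hinv, hne, hne'⟩ := h
      obtain ⟨U, hU, hs⟩ := ih _ (hn ▸ Submodule.finrank_lt_finrank_of_lt (lt_of_le_of_ne hle hne'))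
        hinv hne rfl
      exact ⟨U, hU.trans hle, hs⟩
    · exact ⟨S, le_rfl, h0, hS, fun U' hle hinv hne => by
        by_contra hne'
        exact h ⟨U', hle, hinv, hne, hne'⟩⟩

/-- Averaging a projection. -/
theorem exists_proj (hΓ : (Fintype.card Γ : k) ≠ 0) (ρ : Representation k Γ W) {U : Submodule k W}
    (hU : IsInvSub ρ U) :
    ∃ π : Module.End k W, (∀ g, Commute π (ρ g)) ∧ (∀ x, π x ∈ U) ∧ ∀ x ∈ U, π x = x := by
  obtain ⟨C, hC⟩ := U.exists_isCompl
  let P : Module.End k W := U.subtype ∘ₗ U.projectionOnto C hC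
  have hP : ∀ x, P x ∈ U := fun x => (U.projectionOnto C hC x).2
  have hPU : ∀ x ∈ U, P x = x := fun x hx => by
    show ((U.projectionOnto C hC x : U) : W) = x
    rw [Submodule.projectionOnto_apply_left hC ⟨x, hx⟩]
  refine ⟨(Fintype.card Γ : k)⁻¹ • ∑ g : Γ, ρ g * P * ρ g⁻¹, fun h => ?_, fun x => ?_, fun x hx => ?_⟩
  · refine Commute.smul_left ?_ _
    show _ * _ = _ * _
    rw [Finset.sum_mul, Finset.mul_sum]
    refine (Fintype.sum_bijective (fun g => h * g) (Group.mulLeft_bijective h) _ _ fun g => ?_).symm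
    rw [map_mul, mul_inv_rev, map_mul]
    rw [show ρ h * (ρ g * P * ρ g⁻¹) = ρ h * ρ g * P * ρ g⁻¹ by simp only [mul_assoc],
      show ρ h * ρ g * P * (ρ g⁻¹ * ρ h⁻¹) * ρ h = ρ h * ρ g * P * ρ g⁻¹ * (ρ h⁻¹ * ρ h) by
        simp only [mul_assoc], ← map_mul ρ h⁻¹ h, inv_mul_cancel, map_one, mul_one]
  · simp only [LinearMap.smul_apply, LinearMap.sum_apply, Module.End.mul_apply]
    exact U.smul_mem _ (Submodule.sum_mem _ fun g _ => hU g _ (hP _))
  · simp only [LinearMap.smul_apply, LinearMap.sum_apply, Module.End.mul_apply]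
    rw [Finset.sum_congr rfl fun g _ => by rw [hPU _ (hU g⁻¹ x hx), ← Module.End.mul_apply,
      ← map_mul, mul_inv_cancel, map_one, Module.End.one_apply], Finset.sum_const, Finset.card_univ,
      ← Nat.cast_smul_eq_nsmul k, inv_smul_smul₀ hΓ]

/-- An equivariant endomorphism with many eigenvalues. -/
theorem exists_spectral [IsAlgClosed k] (hΓ : (Fintype.card Γ : k) ≠ 0) (ρ : Representation k Γ W)
    {d : ℕ} (hd : ∀ U : Submodule k W, IsSimpleSub ρ U → Module.finrank k U ≤ d) :
    ∃ (Φ : Module.End k W) (Λ : Finset k), (∀ g, Commute Φ (ρ g)) ∧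
      (∀ l ∈ Λ, ∃ x : W, x ≠ 0 ∧ Φ x = l • x) ∧ Module.finrank k W ≤ d * Λ.card := by
  classical
  suffices H : ∀ S : Submodule k W, IsInvSub ρ S → ∃ (Φ : Module.End k W) (Λ : Finset k),
      (∀ g, Commute Φ (ρ g)) ∧ (∀ l ∈ Λ, ∃ x ∈ S, x ≠ 0 ∧ Φ x = l • x) ∧
      Module.finrank k S ≤ d * Λ.card by
    obtain ⟨Φ, Λ, h1, h2, h3⟩ := H ⊤ (fun _ _ _ => Submodule.mem_top)
    rw [finrank_top] at h3
    exact ⟨Φ, Λ, h1, fun l hl => by obtain ⟨x, -, hx⟩ := h2 l hl; exact ⟨x, hx⟩, h3⟩
  intro S
  induction hn : Module.finrank k S using Nat.strong_induction_on generalizing S with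
  | _ n ih =>
    intro hS
    by_cases h0 : S = ⊥
    · exact ⟨0, ∅, fun g => Commute.zero_left _, by simp, by rw [← hn, h0, finrank_bot]; simp⟩
    obtain ⟨U, hUS, hU⟩ := exists_simpleSub ρ hS h0
    obtain ⟨π, hπc, hπU, hπid⟩ := exists_proj hΓ ρ hU.2.1
    have hπc' : ∀ g x, π (ρ g x) = ρ g (π x) := fun g x => LinearMap.congr_fun (hπc g).eq x
    set S' := S ⊓ LinearMap.ker π with hS'
    have hS'inv : IsInvSub ρ S' := fun g x hx => ⟨hS g x hx.1, by
      show π (ρ g x) = 0
      rw [hπc', LinearMap.mem_ker.mp hx.2, map_zero]⟩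
    have hlt : S' < S := by
      refine lt_of_le_of_ne inf_le_left fun he => hU.1 (eq_bot_iff.mpr fun x hx => ?_)
      have hx' : x ∈ S' := he ▸ hUS hx
      rw [Submodule.mem_bot, ← hπid x hx]
      exact hx'.2
    obtain ⟨Φ, Λ, hc, hev, hle⟩ :=
      ih _ (hn ▸ Submodule.finrank_lt_finrank_of_lt hlt) S' rfl hS'inv
    obtain ⟨c, hcΛ⟩ := Infinite.exists_notMem_finset Λ
    refine ⟨Φ * (1 - π) + c • π, insert c Λ, fun g => ?_, ?_, ?_⟩
    · exact ((hc g).mul_left ((Commute.one_left _).sub_left (hπc g))).add_left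
        ((hπc g).smul_left c)
    · intro l hl
      rcases Finset.mem_insert.mp hl with rfl | hl
      · obtain ⟨x, hxU, hx⟩ := U.exists_mem_ne_zero_of_ne_bot hU.1
        refine ⟨x, hUS hxU, hx, ?_⟩
        simp [hπid x hxU]
      · obtain ⟨x, hxS, hx, hxe⟩ := hev l hl
        refine ⟨x, hxS.1, hx, ?_⟩
        simp [LinearMap.mem_ker.mp hxS.2, hxe]
    · rw [Finset.card_insert_of_notMem hcΛ]
      have h1 := LinearMap.finrank_range_add_finrank_ker (π.domRestrict S)
      have h2 : Module.finrank k (LinearMap.range (π.domRestrict S)) ≤ d :=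
        (Submodule.finrank_mono (by rintro _ ⟨x, rfl⟩; exact hπU _)).trans (hd U hU)
      have h3 : Module.finrank k (LinearMap.ker (π.domRestrict S)) = Module.finrank k S' := by
        rw [← Submodule.finrank_map_subtype_eq, LinearMap.ker_domRestrict,
          Submodule.map_comap_subtype]
      rw [mul_add, mul_one, ← hn]
      omega

end spectral

section regular

variable {R : Type u} [CommRing R] {Γ : Type v} [Group Γ] [Fintype Γ]

/-- Right translation of functions. -/
def rightTrans : Γ →* Module.End R (Γ → R) where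
  toFun g := LinearMap.funLeft R R (· * g)
  map_one' := LinearMap.ext fun F => funext fun x => by simp [LinearMap.funLeft]
  map_mul' g h := LinearMap.ext fun F => funext fun x => by
    simp [LinearMap.funLeft, mul_assoc]

/-- The right regular operator of a group algebra element. -/
noncomputable def rightOp : MonoidAlgebra R Γ →ₐ[R] Module.End R (Γ → R) :=
  MonoidAlgebra.lift R (Module.End R (Γ → R)) Γ rightTrans

theorem rightOp_apply (a : MonoidAlgebra R Γ) (F : Γ → R) (x : Γ) :
    rightOp a F x = ∑ g, a.coeff g * F (x * g) := by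
  rw [rightOp, MonoidAlgebra.lift_apply, Finsupp.sum_fintype _ _ (fun g => by simp)]
  simp [rightTrans, LinearMap.funLeft]

theorem trace_rightOp (a : MonoidAlgebra R Γ) :
    LinearMap.trace R (Γ → R) (rightOp a) = (Fintype.card Γ : R) * a.coeff 1 := by
  classical
  rw [LinearMap.trace_eq_matrix_trace R (Pi.basisFun R Γ), Matrix.trace]
  simp only [Matrix.diag_apply, LinearMap.toMatrix_apply, Pi.basisFun_apply, Pi.basisFun_repr,
    rightOp_apply]
  rw [Finset.sum_congr rfl fun x _ => show _ = a.coeff 1 from ?_, Finset.sum_const, Finset.card_univ,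
    nsmul_eq_mul]
  rw [Finset.sum_eq_single 1]
  · simp
  · intro g _ hg
    simp [hg]
  · simp

variable {k : Type w} [Field k] [DecidableEq Γ]

theorem finrank_le_of_simple [IsAlgClosed k] {W : Type*} [AddCommGroup W] [Module k W]
    [FiniteDimensional k W] (hΓ : (Fintype.card Γ : k) ≠ 0) (ρ : Representation k Γ W)
    {U : Submodule k W} (hU : IsSimpleSub ρ U) (a : MonoidAlgebra k Γ)
    (ha : ∀ x ∈ U, ∑ g, a.coeff g • ρ g x = x) {d : ℕ}
    (hd : Module.finrank k (LinearMap.range (rightOp a)) ≤ d * d) : Module.finrank k U ≤ d := by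
  classical
  let σ : Γ → Module.End k U := fun g => (ρ g).restrict (hU.2.1 g)
  have hσ : ∀ g (x : U), ((σ g x : U) : W) = ρ g (x : W) := fun g x => rfl
  have hσmul : ∀ g h, σ (g * h) = σ g * σ h := fun g h => LinearMap.ext fun x => Subtype.ext (by
    rw [hσ, Module.End.mul_apply, hσ, hσ, map_mul, Module.End.mul_apply])
  have hσ1 : σ 1 = 1 := LinearMap.ext fun x => Subtype.ext (by
    rw [hσ, map_one, Module.End.one_apply, Module.End.one_apply])
  have : Nontrivial U := Submodule.nontrivial_iff_ne_bot.mpr hU.1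
  have hschur : ∀ A : Module.End k U, (∀ g, Commute A (σ g)) →
      ∃ c : k, A = c • (1 : Module.End k U) := by
    intro A hA
    obtain ⟨c, hc⟩ := Module.End.exists_eigenvalue A
    refine ⟨c, LinearMap.ext fun x => ?_⟩
    have hinv : IsInvSub ρ ((A.eigenspace c).map U.subtype) := by
      rintro g _ ⟨y, hy, rfl⟩
      refine ⟨σ g y, ?_, rfl⟩
      rw [SetLike.mem_coe, Module.End.mem_eigenspace_iff] at hy ⊢
      rw [← Module.End.mul_apply, (hA g).eq, Module.End.mul_apply, hy, map_smul]
    have hne : (A.eigenspace c).map U.subtype ≠ ⊥ := by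
      exact (Submodule.map_injective_of_injective U.subtype_injective).ne_iff'
        (Submodule.map_bot _) |>.mpr hc
    have htop := hU.2.2 _ (Submodule.map_subtype_le _ _) hinv hne
    have hx : (x : W) ∈ (A.eigenspace c).map U.subtype := htop.symm ▸ x.2
    obtain ⟨y, hy, hyx⟩ := hx
    obtain rfl : y = x := Subtype.ext hyx
    rw [SetLike.mem_coe, Module.End.mem_eigenspace_iff] at hy
    simpa using hy
  let Θ : Module.End k U →ₗ[k] (Γ → k) :=
    LinearMap.pi fun g => (LinearMap.trace k U) ∘ₗ LinearMap.mulRight k (σ g)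
  have hΘ : ∀ A g, Θ A g = LinearMap.trace k U (A * σ g) := fun A g => rfl
  have hinj : Function.Injective Θ := by
    rw [injective_iff_map_eq_zero]
    intro A hA
    have hA' : ∀ g, LinearMap.trace k U (A * σ g) = 0 := fun g => by rw [← hΘ, hA]; rfl
    let b := Module.finBasis k U
    refine LinearMap.ext fun v => ?_
    rw [LinearMap.zero_apply]
    by_contra hv
    obtain ⟨ξ, hξ⟩ : ∃ ξ : U →ₗ[k] k, ξ (A v) ≠ 0 := by
      by_contra h
      push Not at h
      exact hv (b.forall_coord_eq_zero_iff.mp fun i => h _)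
    choose c hc using fun i => hschur (∑ g, σ g * ξ.smulRight (b i) * σ g⁻¹) (fun h => by
      show _ * _ = _ * _
      rw [Finset.sum_mul, Finset.mul_sum]
      refine (Fintype.sum_bijective (fun g => h * g) (Group.mulLeft_bijective h) _ _ fun g => ?_).symm
      rw [mul_inv_rev, hσmul, hσmul]
      rw [show σ h * (σ g * ξ.smulRight (b i) * σ g⁻¹) = σ h * σ g * ξ.smulRight (b i) * σ g⁻¹ by
          simp only [mul_assoc],
        show σ h * σ g * ξ.smulRight (b i) * (σ g⁻¹ * σ h⁻¹) * σ h =
          σ h * σ g * ξ.smulRight (b i) * σ g⁻¹ * (σ h⁻¹ * σ h) by simp only [mul_assoc],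
        ← hσmul h⁻¹ h, inv_mul_cancel, hσ1, mul_one])
    have htr : ∀ i, (Fintype.card Γ : k) * ξ (b i) = c i * (Module.finrank k U : k) := by
      intro i
      have e := congrArg (LinearMap.trace k U) (hc i)
      rw [map_sum, map_smul, LinearMap.trace_one, smul_eq_mul] at e
      rw [← e, Finset.sum_congr rfl fun g _ => by
        rw [LinearMap.trace_mul_comm, ← mul_assoc, ← hσmul, inv_mul_cancel, hσ1, one_mul,
          LinearMap.trace_smulRight], Finset.sum_const, Finset.card_univ, nsmul_eq_mul]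
    have hkey : ∀ i, ∑ g, ξ (σ g⁻¹ v) * b.coord i (A (σ g (b i))) = c i * b.coord i (A v) := by
      intro i
      have e := congrArg (fun B => b.coord i (A (B v))) (hc i)
      simpa [LinearMap.sum_apply, LinearMap.smulRight_apply] using e
    have hsum : ∑ i, c i * b.coord i (A v) = 0 := by
      rw [← Finset.sum_congr rfl fun i _ => hkey i, Finset.sum_comm]
      refine Finset.sum_eq_zero fun g _ => ?_
      rw [← Finset.mul_sum]
      have e := hA' g
      rw [LinearMap.trace_eq_matrix_trace k b, Matrix.trace] at e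
      simp only [Matrix.diag_apply, LinearMap.toMatrix_apply, Module.End.mul_apply] at e
      simp only [Module.Basis.coord_apply, e, mul_zero]
    apply hξ
    have e2 : (Fintype.card Γ : k) * ξ (A v) =
        (Module.finrank k U : k) * ∑ i, c i * b.coord i (A v) := by
      conv_lhs => rw [← b.sum_repr (A v), map_sum, Finset.mul_sum]
      rw [Finset.mul_sum]
      refine Finset.sum_congr rfl fun i _ => ?_
      rw [map_smul, smul_eq_mul, mul_left_comm, htr i, Module.Basis.coord_apply]
      ring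
    rw [hsum, mul_zero] at e2
    exact (mul_eq_zero.mp e2).resolve_left hΓ
  have hran : LinearMap.range Θ ≤ LinearMap.range (rightOp a) := by
    rintro _ ⟨A, rfl⟩
    refine ⟨Θ A, funext fun x => ?_⟩
    rw [rightOp_apply]
    simp only [hΘ]
    have h1 : ∑ g, a.coeff g • σ g = 1 := LinearMap.ext fun y => Subtype.ext (by
      rw [LinearMap.sum_apply, Submodule.coe_sum, Module.End.one_apply]
      exact ha _ y.2)
    conv_rhs => rw [← mul_one (A * σ x), ← h1, Finset.mul_sum, map_sum]
    refine Finset.sum_congr rfl fun g _ => ?_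
    rw [mul_smul_comm, map_smul, smul_eq_mul, hσmul, mul_assoc]
  have hfin := (LinearMap.finrank_range_of_inj hinj).symm.le.trans (Submodule.finrank_mono hran)
  change Module.finrank k (U →ₗ[k] U) ≤ _ at hfin
  rw [Module.finrank_linearMap, ← pow_two] at hfin
  exact Nat.mul_self_le_mul_self_iff.mp (by rw [← pow_two]; exact hfin.trans hd)

end regular

section lift

variable {O : Type u} [CommRing O] [IsDomain O] [IsPrincipalIdealRing O] [CharZero O]
  {k : Type v} [Field k] {res : O →+* k} [RingHomSurjective res]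

/-- Coefficientwise reduction. -/
def redPi (res : O →+* k) (ι : Type*) : (ι → O) →ₛₗ[res] (ι → k) where
  toFun F i := res (F i)
  map_add' _ _ := funext fun _ => map_add _ _ _
  map_smul' _ _ := funext fun _ => map_mul _ _ _

theorem isRed_redPi {p : ℕ} (hp : p.Prime) (hker : ∀ a : O, res a = 0 ↔ (p : O) ∣ a)
    (ι : Type*) : IsRed p res (redPi res ι) := by
  refine ⟨hp, hker, fun F => ?_, fun F => ⟨fun h => ?_, ?_⟩⟩
  · choose G hG using fun i => RingHomSurjective.is_surjective (σ := res) (F i)
    exact ⟨G, funext hG⟩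
  · choose G hG using fun i => (hker (F i)).mp (congrFun h i)
    exact ⟨G, funext fun i => (hG i).symm⟩
  · rintro ⟨G, rfl⟩
    exact funext fun i => (hker _).mpr ⟨G i, rfl⟩

/-- The rank of a reduced idempotent is the trace. -/
theorem finrank_red_idem {L : Type w} [AddCommGroup L] [Module O L] [Module.Free O L]
    [Module.Finite O L] {V : Type*} [AddCommGroup V] [Module k V] {p : ℕ} {β : L →ₛₗ[res] V}
    (hβ : IsRed p res β) {E : Module.End O L} (hE : E * E = E) :
    (Module.finrank k (LinearMap.range (hβ.redEnd E)) : O) = LinearMap.trace O L E := by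
  have hEx : ∀ x, E (E x) = E x := fun x => LinearMap.congr_fun hE x
  have hproj : LinearMap.IsProj (LinearMap.range E) E :=
    ⟨fun x => ⟨x, rfl⟩, by rintro _ ⟨x, rfl⟩; exact hEx x⟩
  have hsat : ∀ y : L, (p : O) • y ∈ LinearMap.range E → y ∈ LinearMap.range E := fun y hy =>
    ⟨y, hβ.cancel (by rw [← map_smul]; exact hproj.map_id _ hy)⟩
  have hmap : (LinearMap.range E).map β = LinearMap.range (hβ.redEnd E) := by
    ext z
    constructor
    · rintro ⟨_, ⟨x, rfl⟩, rfl⟩
      exact ⟨β x, hβ.redEnd_apply E x⟩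
    · rintro ⟨y, rfl⟩
      obtain ⟨x, rfl⟩ := hβ.surj y
      exact ⟨E x, ⟨x, rfl⟩, (hβ.redEnd_apply E x).symm⟩
  rw [← hmap, hβ.finrank_map _ hsat, hproj.trace]

variable {Γ : Type w} [Group Γ] [Fintype Γ] [DecidableEq Γ]

/-- The right regular rank of the reduction of an idempotent. -/
theorem finrank_range_rightOp {p : ℕ} (hp : p.Prime)
    (hker : ∀ a : O, res a = 0 ↔ (p : O) ∣ a) {a : MonoidAlgebra O Γ} (ha : a * a = a)
    {ā : MonoidAlgebra k Γ} (hā : ∀ g, ā.coeff g = res (a.coeff g)) {n : ℕ}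
    (hn : (Fintype.card Γ : O) * a.coeff 1 = n) :
    Module.finrank k (LinearMap.range (rightOp ā)) = n := by
  have hβ := isRed_redPi hp hker Γ
  have hred : hβ.redEnd (rightOp a) = rightOp ā := LinearMap.ext fun F => by
    obtain ⟨F, rfl⟩ := hβ.surj F
    rw [hβ.redEnd_apply]
    funext x
    show res (rightOp a F x) = rightOp ā (fun i => res (F i)) x
    simp [rightOp_apply, map_sum, map_mul, hā]
  have h := finrank_red_idem hβ (E := rightOp a) (by rw [← map_mul, ha])
  rw [hred, trace_rightOp, hn] at h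
  exact_mod_cast h

end lift

end CfsgLib.Block.Cyclic
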