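import Cfsg.Agent.Lib.Block.Cyclic.HalfShape

/-!
# The `p'`-part of the centraliser is central

If the Sylow subgroup of order `p` is normal in all proper subgroups containing it but not in `G`, and
`G` has an exceptional character of degree less than `(p - 1)/2`, the `p'`-part of the centraliser is
central.
-/

open Finset
open scoped ComplexConjugate

set_option linter.unusedSectionVars false

namespace CfsgLib.Block.Cyclic.CycSetup

open Cfsg CfsgLib.Char

universe u

variable {p : ℕ} [Fact p.Prime] {G : Type u} [Group G] [Fintype G] [DecidableEq G]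
  (D : CycSetup p G) [Fintype D.K] [Fintype (Subgroup.centralizer (D.Q : Set G))]

/-- A `p`-subgroup normalising `Q` lies in it. -/
theorem le_Q_of_normalizes {R : Subgroup G} (hR : IsPGroup p R)
    (hRN : R ≤ Subgroup.normalizer (D.Q : Set G)) : R ≤ D.Q := by
  have hp : p.Prime := Fact.out
  have hsup : IsPGroup p (D.Q ⊔ R : Subgroup G) :=
    IsPGroup.to_sup_of_normal_left' (IsPGroup.of_card (n := 1) (by rw [D.hQ, pow_one])) hR hRN
  obtain ⟨i, hi⟩ := IsPGroup.iff_card.mp hsup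
  have hi1 : i ≤ 1 := by
    by_contra hlt
    exact D.hsq ((pow_dvd_pow p (show 2 ≤ i by omega)).trans (hi ▸ Subgroup.card_subgroup_dvd_card _))
  have heq : D.Q = D.Q ⊔ R := Subgroup.eq_of_le_of_card_ge le_sup_left (by
    rw [hi, D.hQ]
    exact (Nat.pow_le_pow_right hp.pos hi1).trans (pow_one p).le)
  exact heq ▸ le_sup_right

variable (hsub : ∀ H : Subgroup G, D.Q ≤ H → H ≠ ⊤ → H ≤ Subgroup.normalizer (D.Q : Set G))
  (hnot : ¬ D.Q.Normal)

include hsub hnot

theorem normal_ge_eq_top {H : Subgroup G} [H.Normal] (hle : D.Q ≤ H) : H = ⊤ := by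
  by_contra hne
  refine hnot ⟨fun q hq g => ?_⟩
  have hR : D.Q.map (MulAut.conj g).toMonoidHom ≤ D.Q := by
    refine D.le_Q_of_normalizes ((IsPGroup.of_card (n := 1) (by rw [D.hQ, pow_one])).map _) ?_
    rintro _ ⟨u, hu, rfl⟩
    exact hsub H hle hne ((inferInstance : H.Normal).conj_mem u (hle hu) g)
  exact hR ⟨q, hq, rfl⟩

theorem eq_one_of_trivial_Q {θ : IrrCharacter G}
    (h : ∀ i : ZMod p, (θ : G → ℂ) (D.xp i) = (θ : G → ℂ) 1) : θ = oneChar G := by
  classical
  obtain ⟨n, ρ, hρ, hθ⟩ := θ.2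
  have hle : D.Q ≤ ρ.ker := fun u hu => by
    obtain ⟨i, rfl⟩ := D.exists_xp_eq hu
    rw [MonoidHom.mem_ker, Module.End.one_eq_id, ← char_eq_degree_iff, ← Representation.char_one ρ, hθ]
    exact h i
  have hker : ρ.ker = ⊤ := D.normal_ge_eq_top hsub hnot hle
  have hc : ∀ g, (θ : G → ℂ) g = (θ : G → ℂ) 1 := fun g => by
    have hg : g ∈ ρ.ker := hker ▸ Subgroup.mem_top g
    rw [← hθ, Representation.char_one, char_eq_degree_iff, ← Module.End.one_eq_id]
    exact hg
  have hd := charDegree_eq θ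
  have h1 := classInner_irr_self θ
  rw [classInner, Finset.sum_congr rfl fun g _ => by rw [hc g, hd.1], Finset.sum_const,
    Finset.card_univ, nsmul_eq_mul, ← Nat.card_eq_fintype_card, ← mul_assoc,
    inv_mul_cancel₀ (Nat.cast_ne_zero.mpr Nat.card_pos.ne'), one_mul, map_natCast] at h1
  have h2 : charDegree (θ : G → ℂ) * charDegree (θ : G → ℂ) = 1 := by exact_mod_cast h1
  refine Subtype.ext (funext fun g => ?_)
  rw [hc g, hd.1, Nat.eq_one_of_mul_eq_one_right h2]
  simp [oneChar]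

omit hsub hnot

/-- The twist by an exponent. -/
theorem exists_twist_char (χ : IrrCharacter G) (a : (ZMod p)ˣ) :
    ∃ ψ : G → ℂ, IsCharacter G ψ ∧ (∀ g, ¬ p ∣ orderOf g → ψ g = (χ : G → ℂ) g) ∧
      ∀ j, D.aP ψ j = D.aP (χ : G → ℂ) ((a⁻¹ : (ZMod p)ˣ) * j) := by
  obtain ⟨hcop, hn0⟩ := card_pPrime_coprime (p := p) (G := G)
  obtain ⟨σ, hσ1, hσ2⟩ := exists_aut_stdPsi p hn0 hcop a
  have : NeZero (Nat.card G / p ^ (Nat.card G).factorization p) := ⟨hn0⟩
  refine ⟨_, isCharacter_autTwist (isCharacter_irr χ) σ,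
    fun g hg => fix_char_of_fix_exp hσ1 (isCharacter_irr χ) (regular_dvd hg), fun j => ?_⟩
  have hval : ∀ i, σ ((χ : G → ℂ) (D.xp i)) = (χ : G → ℂ) (D.xp ((a : ZMod p) * i)) := fun i => by
    rw [D.value_xp_eq_sum (χ : G → ℂ), D.value_xp_eq_sum (χ : G → ℂ) _, map_sum]
    refine Finset.sum_congr rfl fun j _ => ?_
    obtain ⟨m, hm⟩ := D.aP_nat (isCharacter_irr χ) j
    rw [map_mul, hσ2, hm, map_natCast, mul_assoc]
  simp only [aP, hval]
  congr 1
  refine Fintype.sum_equiv (Equiv.mulLeft₀ (a : ZMod p) a.ne_zero) _ _ fun i => ?_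
  rw [Equiv.mulLeft₀_apply]
  congr 2
  rw [mul_mul_mul_comm, Units.mul_inv, one_mul]

theorem aP_finsum {ι : Type*} (s : Finset ι) (c : ι → ℂ) (F : ι → G → ℂ) (j : ZMod p) :
    D.aP (fun g => ∑ t ∈ s, c t * F t g) j = ∑ t ∈ s, c t * D.aP (F t) j := by
  simp only [aP, Finset.mul_sum]
  rw [Finset.sum_comm]
  exact Finset.sum_congr rfl fun t _ => Finset.sum_congr rfl fun i _ => by ring

theorem dval_finsum {ι : Type*} (s : Finset ι) (c : ι → ℂ) (F : ι → G → ℂ) (i : ZMod p) :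
    D.dval (fun g => ∑ t ∈ s, c t * F t g) i = ∑ t ∈ s, c t * D.dval (F t) i := by
  simp only [dval, secMult]
  rw [show (fun y : D.K => ∑ t ∈ s, c t * F t (D.xp i * (y : G))) =
    ∑ t ∈ s, c t • fun y : D.K => F t (D.xp i * (y : G)) from funext fun y => by simp,
    classInner_sum_left]
  exact Finset.sum_congr rfl fun t _ => classInner_smul_left _ _ _

/-- An exponent outside the normaliser. -/
theorem exists_not_mem_expN (h : Nat.card D.expN + 1 < p) : ∃ a : (ZMod p)ˣ, a ∉ D.expN := by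
  by_contra hc
  push Not at hc
  have : D.expN = ⊤ := top_unique fun a _ => hc a
  rw [this, Subgroup.card_top, Nat.card_eq_fintype_card, ZMod.card_units_eq_totient,
    Nat.totient_prime (Fact.out : p.Prime)] at h
  have := (Fact.out : p.Prime).one_lt
  omega

/-- A normal subgroup containing `K` but not `Q`. -/
theorem exists_normal_ge_K {M : Ideal AlgInt} [M.IsMaximal] (hM : IsPModular p M) {χ : IrrCharacter G}
    {j₀ : (ZMod p)ˣ}
    (hsupp : ∀ j : ZMod p, D.aP (χ : G → ℂ) j ≠ 0 ↔ ∃ r ∈ D.expN, j = ((r * j₀ : (ZMod p)ˣ) : ZMod p))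
    (hep : Nat.card D.expN + 1 < p) :
    ∃ W : Subgroup G, W.Normal ∧ D.K ≤ W ∧ ¬ D.Q ≤ W := by
  classical
  have hp : p.Prime := Fact.out
  have := Fintype.ofFinite (IrrCharacter G)
  obtain ⟨a, ha⟩ := D.exists_not_mem_expN hep
  obtain ⟨ψ, hψ, hψreg, hψaP⟩ := D.exists_twist_char χ a
  let D1 := D.withChar (oneChar D.K)
  let _ : Fintype D1.K := ‹Fintype D.K›
  let _ : Fintype (Subgroup.centralizer (D1.Q : Set G)) :=
    ‹Fintype (Subgroup.centralizer (D.Q : Set G))›
  have := Fintype.ofFinite (IrrCharacter D1.K)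
  have htriv : ∀ y, (D1.φ : D1.K → ℂ) y = 1 := fun _ => rfl
  have hcard : Nat.card D.Q = p ^ (Nat.card G).factorization p := by
    rw [factorization_eq_one D.dvd_card D.hsq, pow_one, D.hQ]
  have hBD := D1.blockData_principal hM (P := Sylow.ofCard D.Q hcard) rfl htriv
  set Φ : G → ℂ := fun g => (χ : G → ℂ) g * conj (ψ g) with hΦdef
  have hΦ : IsCharacter G Φ := isCharacter_mul (isCharacter_irr χ) (isCharacter_conj hψ)
  choose nn hnn using fun θ : IrrCharacter G => classInner_isCharacter hΦ (isCharacter_irr θ)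
  have hΦexp : Φ = fun g => ∑ θ, (nn θ : ℂ) * (θ : G → ℂ) g := funext fun g => by
    have h := congrFun (classFun_expand (isClassFunction_of_isCharacter hΦ)) g
    rw [Finset.sum_apply] at h
    rw [h]
    exact Finset.sum_congr rfl fun θ _ => by rw [Pi.smul_apply, smul_eq_mul, hnn θ]
  choose aa haa using fun θ : IrrCharacter G => D.aP_nat (isCharacter_irr θ) 0
  have hA0 : D.aP Φ 0 = 0 := by
    rw [hΦdef, D.aP_mul_conj]
    refine Finset.sum_eq_zero fun s _ => ?_
    by_cases h1 : D.aP (χ : G → ℂ) s = 0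
    · rw [h1, zero_mul]
    refine mul_eq_zero_of_right _ ?_
    rw [sub_zero, hψaP, map_eq_zero]
    by_contra h2
    obtain ⟨r, hr, rfl⟩ := (hsupp s).mp h1
    obtain ⟨r', hr', he⟩ := (hsupp _).mp h2
    rw [← Units.val_mul] at he
    have e := Units.ext he
    rw [← mul_assoc] at e
    have e' : a⁻¹ = r' * r⁻¹ := eq_mul_inv_of_mul_eq (mul_right_cancel e)
    exact ha (inv_mem_iff.mp (e' ▸ mul_mem hr' (inv_mem hr)))
  have hd0 : D1.dval Φ 0 ≠ 0 := by
    intro h0
    have e : D1.dval Φ 0 = classInner (fun y : D.K => (χ : G → ℂ) (y : G))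
        (fun y : D.K => (χ : G → ℂ) (y : G)) := by
      rw [coe_withChar_dval, secMult, classInner, classInner]
      congr 1
      refine Finset.sum_congr rfl fun y _ => ?_
      rw [D.xp_zero, one_mul, hΦdef, show (oneChar D.K : D.K → ℂ) y = 1 from rfl, map_one, mul_one]
      show (χ : G → ℂ) (y : G) * conj (ψ (y : G)) = _
      rw [hψreg _ (regular_mem D.hQ D.hK y).2]
    rw [e] at h0
    have := congrFun (classInner_self_eq_zero h0) 1
    exact irr_one_ne_zero χ this
  obtain ⟨θ, hθn, hθd⟩ : ∃ θ : IrrCharacter G, nn θ ≠ 0 ∧ D1.dval (θ : G → ℂ) 0 ≠ 0 := by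
    by_contra hc
    push Not at hc
    refine hd0 ?_
    rw [hΦexp, dval_finsum]
    refine Finset.sum_eq_zero fun θ _ => ?_
    by_cases h0 : nn θ = 0
    · rw [h0, Nat.cast_zero, zero_mul]
    · rw [hc θ h0, mul_zero]
  have hθ0 : aa θ = 0 := by
    rw [hΦexp, aP_finsum] at hA0
    have h' : ((∑ t, nn t * aa t : ℕ) : ℂ) = 0 := by
      rw [← hA0]
      push_cast
      exact Finset.sum_congr rfl fun t _ => by rw [haa t]
    have h'' : ∑ t, nn t * aa t = 0 := by exact_mod_cast h'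
    have := (Finset.sum_eq_zero_iff.mp h'') θ (Finset.mem_univ θ)
    exact (Nat.mul_eq_zero.mp this).resolve_left hθn
  choose mm hmm using fun φ' : IrrCharacter D1.K => (D1.withChar φ').mult_nat (isCharacter_irr θ) 0
  have hmm0 : ∀ φ', mm φ' = 0 := by
    have e := D1.aP_eq_sum_mult (isClassFunction_irr θ) 0
    rw [show D1.aP (θ : G → ℂ) 0 = D.aP (θ : G → ℂ) 0 from rfl, haa, hθ0] at e
    have h' : ((∑ φ' : IrrCharacter D1.K, charDegree (φ' : D1.K → ℂ) * mm φ' : ℕ) : ℂ) = 0 := by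
      rw [Nat.cast_zero] at e
      rw [e, Nat.cast_sum]
      exact Finset.sum_congr rfl fun φ' _ => by rw [hmm, (charDegree_eq φ').1]; push_cast; rfl
    have h'' : ∑ φ' : IrrCharacter D1.K, charDegree (φ' : D1.K → ℂ) * mm φ' = 0 := by exact_mod_cast h'
    exact fun φ' => (Nat.mul_eq_zero.mp (Finset.sum_eq_zero_iff.mp h'' φ' (Finset.mem_univ φ'))).resolve_left
      (charDegree_eq φ').2
  have hmultz : ∀ φ' : IrrCharacter D1.K,
      (∀ i : ZMod p, i ≠ 0 → secMult (θ : G → ℂ) (φ' : D1.K → ℂ) (D1.xp i) = 0) →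
      secMult (θ : G → ℂ) (φ' : D1.K → ℂ) (D1.xp 0) = 0 := by
    intro φ' hz
    have e := hmm φ'
    rw [hmm0, mult, Finset.sum_eq_single (0 : ZMod p) (fun i _ hi => by
      rw [coe_withChar_dval, hz i hi, mul_zero]) (by simp), zero_mul, neg_zero, AddChar.map_zero_eq_one,
      one_mul, coe_withChar_dval, Nat.cast_zero] at e
    exact (mul_eq_zero.mp e).resolve_left (inv_ne_zero (Nat.cast_ne_zero.mpr hp.ne_zero))
  have hθp : θ ∈ principalBlock M G := by
    by_contra h
    exact hθd (hmultz (oneChar D1.K) fun i hi => hBD.dval_out θ h i hi)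
  have hθK : ∀ y : D.K, (θ : G → ℂ) (y : G) = (θ : G → ℂ) 1 := by
    have hv : ∀ y : D1.K, (θ : G → ℂ) (y : G) =
        secMult (θ : G → ℂ) (D1.φ : D1.K → ℂ) (D1.xp 0) := fun y => by
      have e := value_eq_sum D1.hQ D1.hK (isClassFunction_irr θ) (D1.xp_mem 0) y
      rw [D1.xp_zero, one_mul] at e
      rw [e, Finset.sum_eq_single D1.φ, htriv, mul_one, D1.xp_zero]
      · intro φ' _ hne
        have h1 : secMult (θ : G → ℂ) (φ' : D1.K → ℂ) (D1.xp 0) = 0 :=
          hmultz φ' fun i hi => hBD.sec_out θ hθp φ' (fun ho => hne (D1.inOrbit_eq htriv ho)) i hi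
        rw [D1.xp_zero] at h1
        rw [h1, zero_mul]
      · exact fun h => absurd (Finset.mem_univ _) h
    intro y
    rw [hv y, ← hv 1, OneMemClass.coe_one]
  -- the kernel
  obtain ⟨n, ρ, hρ, hρθ⟩ := θ.2
  set W := ρ.ker with hW
  have hKW : D.K ≤ W := fun y hy => by
    rw [hW, MonoidHom.mem_ker, Module.End.one_eq_id, ← char_eq_degree_iff, ← Representation.char_one ρ, hρθ]
    exact hθK ⟨y, hy⟩
  have hQW : ¬ D.Q ≤ W := by
    intro hle
    have hval : ∀ i, (θ : G → ℂ) (D.xp i) = (θ : G → ℂ) 1 := fun i => by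
      rw [← hρθ, Representation.char_one, char_eq_degree_iff, ← Module.End.one_eq_id]
      exact hle (D.xp_mem i)
    have e := haa θ
    rw [hθ0, aP, Finset.sum_congr rfl fun i _ => by rw [hval i, mul_zero, neg_zero, AddChar.map_zero_eq_one, one_mul],
      Finset.sum_const, Finset.card_univ, ZMod.card, nsmul_eq_mul, ← mul_assoc,
      inv_mul_cancel₀ (Nat.cast_ne_zero.mpr hp.ne_zero), one_mul, Nat.cast_zero] at e
    exact irr_one_ne_zero θ e
  exact ⟨W, inferInstance, hKW, hQW⟩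

include hsub hnot in
/-- The `p'`-part is central. -/
theorem K_le_center {M : Ideal AlgInt} [M.IsMaximal] (hM : IsPModular p M) {χ : IrrCharacter G}
    {j₀ : (ZMod p)ˣ}
    (hsupp : ∀ j : ZMod p, D.aP (χ : G → ℂ) j ≠ 0 ↔ ∃ r ∈ D.expN, j = ((r * j₀ : (ZMod p)ˣ) : ZMod p))
    (he2 : 2 ≤ Nat.card D.expN) (hep : Nat.card D.expN + 1 < p) :
    D.K ≤ Subgroup.center G := by
  classical
  have hp : p.Prime := Fact.out
  obtain ⟨W, hWn, hKW, hQW⟩ := D.exists_normal_ge_K hM hsupp hep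
  have hQW1 : ∀ u ∈ D.Q, u ∈ W → u = 1 := by
    intro u hu huW
    by_contra hu1
    refine hQW ?_
    have hz : Subgroup.zpowers u = D.Q := Subgroup.eq_of_le_of_card_ge (Subgroup.zpowers_le.mpr hu)
      (by rw [D.hQ, Nat.card_zpowers, orderOf_eq_p D.hQ hu hu1])
    rw [← hz]
    exact Subgroup.zpowers_le.mpr huW
  have hWC : ∀ w ∈ W, w ∈ Subgroup.normalizer (D.Q : Set G) → w ∈ D.C := by
    intro w hw hwN
    refine Subgroup.mem_centralizer_iff.mpr fun u hu => ?_
    have h1 : w * u * w⁻¹ * u⁻¹ ∈ W := by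
      rw [show w * u * w⁻¹ * u⁻¹ = w * (u * w⁻¹ * u⁻¹) by group]
      exact mul_mem hw ((inferInstance : W.Normal).conj_mem _ (inv_mem hw) u)
    have h2 : w * u * w⁻¹ * u⁻¹ ∈ D.Q :=
      mul_mem ((Subgroup.mem_normalizer_iff.mp hwN u).mp hu) (inv_mem hu)
    have h3 := hQW1 _ h2 h1
    exact (mul_inv_eq_iff_eq_mul.mp (mul_inv_eq_one.mp h3)).symm
  have hne : W ⊔ D.Q ≠ ⊤ := by
    intro htop
    have hle : Subgroup.normalizer (D.Q : Set G) ≤ D.C := by
      intro g hg
      obtain ⟨w, hw, u, hu, rfl⟩ := Subgroup.mem_sup_of_normal_left.mp (htop ▸ Subgroup.mem_top g)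
      have hwN : w ∈ Subgroup.normalizer (D.Q : Set G) := by
        have := mul_mem hg (inv_mem (D.Q.le_normalizer hu))
        rwa [mul_inv_cancel_right] at this
      exact mul_mem (hWC w hw hwN) (D.Q_le_C hu)
    rw [D.card_expN, Subgroup.relIndex_eq_one.mpr hle] at he2
    omega
  have hWK : W ≤ D.K := by
    intro w hw
    have hwC : w ∈ D.C := hWC w hw (hsub _ le_sup_right hne (Subgroup.mem_sup_left hw))
    obtain ⟨i, hi⟩ := D.exists_xp_mul_proj ⟨w, hwC⟩
    have hi' : D.xp i ∈ W := by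
      have e : D.xp i = w * ((D.proj ⟨w, hwC⟩ : D.K) : G)⁻¹ :=
        eq_mul_inv_of_mul_eq hi.symm
      rw [e]
      exact mul_mem hw (inv_mem (hKW (D.proj ⟨w, hwC⟩).2))
    rw [show w = D.xp i * ((D.proj ⟨w, hwC⟩ : D.K) : G) from hi, hQW1 _ (D.xp_mem i) hi', one_mul]
    exact (D.proj ⟨w, hwC⟩).2
  have hnK : D.K.Normal := by
    rw [show D.K = W from le_antisymm hKW hWK]
    infer_instance
  have hcn : (Subgroup.centralizer (D.K : Set G)).Normal := by
    refine ⟨fun c hc g => Subgroup.mem_centralizer_iff.mpr fun k hk => ?_⟩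
    have hk' : g⁻¹ * k * g ∈ D.K := by simpa using hnK.conj_mem k hk g⁻¹
    have h := Subgroup.mem_centralizer_iff.mp hc _ hk'
    calc k * (g * c * g⁻¹) = g * (g⁻¹ * k * g * c) * g⁻¹ := by group
      _ = g * (c * (g⁻¹ * k * g)) * g⁻¹ := by rw [h]
      _ = g * c * g⁻¹ * k := by group
  have htop := D.normal_ge_eq_top hsub hnot (H := Subgroup.centralizer (D.K : Set G)) fun u hu =>
    Subgroup.mem_centralizer_iff.mpr fun k hk => (commute_K D.hQ D.hK hu ⟨k, hk⟩).eq.symm
  intro k hk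
  refine Subgroup.mem_center_iff.mpr fun g => ?_
  exact (Subgroup.mem_centralizer_iff.mp (htop ▸ Subgroup.mem_top g) k hk).symm

end CfsgLib.Block.Cyclic.CycSetup
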