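import Cfsg.Agent.Lib.Block.Cyclic.LocalMult

/-!
# Characters of degree less than `(p - 1)/2`

Such a character is scalar on the Sylow subgroup, or exceptional: its restriction to `Q` is a multiple
of the sum over one orbit of the normaliser.
-/

open Finset
open scoped ComplexConjugate

set_option linter.unusedSectionVars false

namespace CfsgLib.Block.Cyclic.CycSetup

open Cfsg CfsgLib.Char

universe u

variable {p : ℕ} [Fact p.Prime] {G : Type u} [Group G] [Fintype G] [DecidableEq G]
  (D : CycSetup p G) [Fintype D.K] [Fintype (Subgroup.centralizer (D.Q : Set G))]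

/-- The exponents of the whole normaliser. -/
noncomputable abbrev expN : Subgroup (ZMod p)ˣ := D.expo.range

theorem card_expN :
    Nat.card D.expN = (Subgroup.centralizer (D.Q : Set G)).relIndex (Subgroup.normalizer (D.Q : Set G)) := by
  rw [expN, ← Subgroup.index_ker, Subgroup.relIndex]
  congr 1
  ext t
  rw [MonoidHom.mem_ker, Subgroup.mem_subgroupOf]
  exact D.expo_eq_one_iff _

theorem expE_le_expN : D.expE ≤ D.expN := by
  rintro r ⟨t, rfl⟩
  exact ⟨_, rfl⟩

theorem aP_expN {F : G → ℂ} (hF : IsClassFunction G F) {r : (ZMod p)ˣ} (hr : r ∈ D.expN) (j : ZMod p) :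
    D.aP F ((r : ZMod p) * j) = D.aP F j := by
  obtain ⟨n, rfl⟩ := hr
  rw [D.coe_expo]
  exact D.aP_normalizer hF n j

theorem norm_eq_of_aP_single {χ : IrrCharacter G} (h : ∀ j, j ≠ 0 → D.aP (χ : G → ℂ) j = 0)
    (i : ZMod p) : ‖(χ : G → ℂ) (D.xp i)‖ = charDegree (χ : G → ℂ) := by
  have hs := D.sum_aP (χ : G → ℂ)
  rw [Finset.sum_eq_single (0 : ZMod p) (fun j _ hj => h j hj) (by simp)] at hs
  rw [D.value_xp_eq_sum (χ : G → ℂ), Finset.sum_eq_single (0 : ZMod p) (fun j _ hj => by rw [h j hj, mul_zero])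
    (by simp), mul_zero, AddChar.map_zero_eq_one, one_mul, hs, (charDegree_eq χ).1, Complex.norm_natCast]

/-- The shape of a character of degree less than `(p - 1)/2`. -/
theorem exceptional_shape {M : Ideal AlgInt} [M.IsMaximal] (hM : IsPModular p M)
    {B : Set (IrrCharacter G)} (h : D.BlockData M B) {χ : IrrCharacter G} (hχ : χ ∈ B)
    (hd : 2 * charDegree (χ : G → ℂ) + 1 < p) :
    (∀ i : ZMod p, ‖(χ : G → ℂ) (D.xp i)‖ = charDegree (χ : G → ℂ)) ∨
      ∃ j₀ : (ZMod p)ˣ,
        (∀ j : ZMod p, D.aP (χ : G → ℂ) j ≠ 0 ↔ ∃ r ∈ D.expN, j = ((r * j₀ : (ZMod p)ˣ) : ZMod p)) ∧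
        (∀ j : ZMod p, D.aP (χ : G → ℂ) j ≠ 0 →
          D.aP (χ : G → ℂ) j = (charDegree (D.φ : D.K → ℂ) : ℂ)) ∧
        charDegree (χ : G → ℂ) = charDegree (D.φ : D.K → ℂ) * Nat.card D.expN := by
  classical
  have hp : p.Prime := Fact.out
  have := Fintype.ofFinite (IrrCharacter D.K)
  obtain ⟨E⟩ := D.exists_exceptional_family hM h
  set x := charDegree (χ : G → ℂ) with hx
  set d := charDegree (D.φ : D.K → ℂ) with hdd
  set f := D.stab.relIndex (Subgroup.normalizer (D.Q : Set G)) with hf
  obtain ⟨m, hm⟩ := D.deg_eq h hχ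
  rw [← hf, ← hdd, ← hx] at hm
  have hm0 : m = 0 := by
    by_contra hne
    have := Nat.le_mul_of_pos_right p (Nat.pos_of_ne_zero hne)
    omega
  rw [hm0, mul_zero, add_zero] at hm
  have hd1 : 0 < d := Nat.pos_of_ne_zero (charDegree_eq D.φ).2
  have hf1 : 0 < f := by
    refine Nat.pos_of_ne_zero fun h0 => (charDegree_eq χ).2 ?_
    rw [← hx, hm, h0, zero_mul, zero_mul]
  set S := ∑ j : ZMod p, D.multN χ j with hS
  have hSx : S ≤ x := hm ▸ Nat.le_mul_of_pos_left _ (Nat.mul_pos hf1 hd1)
  choose mm hmm using fun (φ' : IrrCharacter D.K) (j : ZMod p) =>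
    (D.withChar φ').mult_nat (isCharacter_irr χ) j
  choose aa haa using fun j : ZMod p => D.aP_nat (isCharacter_irr χ) j
  have haeq : ∀ j, aa j = ∑ φ' : IrrCharacter D.K, charDegree (φ' : D.K → ℂ) * mm φ' j := fun j => by
    have e := D.aP_eq_sum_mult (isClassFunction_irr χ) j
    rw [haa] at e
    have e' : (aa j : ℂ) = ((∑ φ' : IrrCharacter D.K, charDegree (φ' : D.K → ℂ) * mm φ' j : ℕ) : ℂ) := by
      rw [e, Nat.cast_sum]
      exact Finset.sum_congr rfl fun φ' _ => by rw [hmm, (charDegree_eq φ').1]; push_cast; rfl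
    exact_mod_cast e'
  have hsum : ∑ j, aa j = x := by
    have e := D.sum_aP (χ : G → ℂ)
    rw [(charDegree_eq χ).1] at e
    have e' : ((∑ j, aa j : ℕ) : ℂ) = (x : ℂ) := by
      rw [Nat.cast_sum, ← e]
      exact Finset.sum_congr rfl fun j _ => (haa j).symm
    exact_mod_cast e'
  have hmN : ∀ j, mm D.φ j = D.multN χ j := fun j => by
    have e := (hmm D.φ j).symm.trans (D.mult_eq χ j)
    exact_mod_cast e
  -- outside the orbit there is nothing
  have hout : ∀ φ', ¬ D.InOrbit φ' → ∀ j, mm φ' j = 0 := by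
    intro φ' ho
    have hconst : ∀ j, mm φ' j = mm φ' 0 := fun j => by
      have e : ∀ j, (mm φ' j : ℂ) = (p : ℂ)⁻¹ * secMult (χ : G → ℂ) (φ' : D.K → ℂ) (D.xp 0) := fun j => by
        rw [← hmm, mult, Finset.sum_eq_single (0 : ZMod p) (fun i _ hi => by
          rw [coe_withChar_dval, h.sec_out χ hχ φ' ho i hi, mul_zero]) (by simp), zero_mul, neg_zero,
          AddChar.map_zero_eq_one, one_mul, coe_withChar_dval]
      exact_mod_cast (e j).trans (e 0).symm
    intro j
    rw [hconst]
    by_contra hne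
    have h1 : ∀ j, 1 ≤ aa j := fun j => by
      rw [haeq]
      refine le_trans ?_ (Finset.single_le_sum (fun _ _ => Nat.zero_le _) (Finset.mem_univ φ'))
      exact Nat.mul_pos (Nat.pos_of_ne_zero (charDegree_eq φ').2) (by rw [hconst]; exact Nat.pos_of_ne_zero hne)
    have h2 : (Finset.univ : Finset (ZMod p)).card • 1 ≤ ∑ j, aa j :=
      Finset.card_nsmul_le_sum _ _ 1 fun j _ => h1 j
    rw [Finset.card_univ, ZMod.card, smul_eq_mul, mul_one, hsum] at h2
    omega
  have hsupp : ∀ j, aa j ≠ 0 ↔ ∃ r ∈ D.expN, D.multN χ ((r : (ZMod p)ˣ) * j) ≠ 0 := by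
    intro j
    constructor
    · intro hne
      rw [haeq] at hne
      obtain ⟨φ', -, hφ'⟩ := Finset.exists_ne_zero_of_sum_ne_zero hne
      by_cases ho : D.InOrbit φ'
      · obtain ⟨n, hn, rfl⟩ := ho
        refine ⟨D.expo ⟨n, hn⟩, ⟨_, rfl⟩, fun h0 => hφ' ?_⟩
        have e := hmm (conjKChar D.hQ D.hK hn D.φ) j
        rw [D.mult_conj (isClassFunction_irr χ) hn, D.mult_eq, ← D.coe_expo, h0] at e
        rw [show mm (conjKChar D.hQ D.hK hn D.φ) j = 0 by exact_mod_cast e.symm, mul_zero]
      · exact absurd (by rw [hout φ' ho, mul_zero]) hφ'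
    · rintro ⟨r, hr, hne⟩
      have e : aa ((r : ZMod p) * j) = aa j := by
        have e1 := D.aP_expN (isClassFunction_irr χ) hr j
        rw [haa, haa] at e1
        exact_mod_cast e1
      rw [← e, haeq]
      refine ne_of_gt (lt_of_lt_of_le ?_ (Finset.single_le_sum (fun _ _ => Nat.zero_le _)
        (Finset.mem_univ D.φ)))
      rw [hmN]
      exact Nat.mul_pos hd1 (Nat.pos_of_ne_zero hne)
  have hsingle : (∀ j, j ≠ 0 → D.multN χ j = 0) →
      ∀ i : ZMod p, ‖(χ : G → ℂ) (D.xp i)‖ = charDegree (χ : G → ℂ) := fun hz =>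
    D.norm_eq_of_aP_single fun j hj => by
      rw [haa, Nat.cast_eq_zero]
      by_contra hne
      obtain ⟨r, -, hr⟩ := (hsupp j).mp hne
      exact hr (hz _ (mul_ne_zero r.ne_zero hj))
  have hmult : ∀ j : (ZMod p)ˣ, (D.multN χ j : ℤ) = D.multN χ 0 + D.vec χ j := fun j => by
    rw [vec]; ring
  have hSsplit : S = D.multN χ 0 + ∑ j : (ZMod p)ˣ, D.multN χ j := sum_zmod_split _
  have hcardU : Fintype.card (ZMod p)ˣ = p - 1 := by
    rw [ZMod.card_units_eq_totient, Nat.totient_prime hp]
  rcases (E.mem χ).mp hχ with hu | ⟨k, rfl⟩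
  · have hc : ∀ j : (ZMod p)ˣ, (D.multN χ j : ℤ) = D.multN χ 0 + E.u χ := fun j => by
      rw [hmult, E.vec_of_u hu]
    rcases (E.u_cases χ).resolve_left hu with e | e <;> simp only [e] at hc
    · exfalso
      have hge : (Finset.univ : Finset (ZMod p)ˣ).card • 1 ≤ ∑ j : (ZMod p)ˣ, D.multN χ j :=
        Finset.card_nsmul_le_sum _ _ 1 fun j _ => by have := hc j; omega
      rw [Finset.card_univ, hcardU, smul_eq_mul, mul_one] at hge
      omega
    · left
      refine hsingle fun j hj => ?_
      have hconst : ∀ j : (ZMod p)ˣ, D.multN χ j = D.multN χ 0 - 1 := fun j => by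
        have := hc j; omega
      rw [Finset.sum_congr rfl fun j _ => hconst j, Finset.sum_const, Finset.card_univ, hcardU,
        smul_eq_mul] at hSsplit
      have hm01 : D.multN χ 0 ≤ 1 := by
        by_contra h2
        have := Nat.le_mul_of_pos_right (p - 1) (show 0 < D.multN χ 0 - 1 by omega)
        omega
      have := hconst (Units.mk0 j hj)
      rw [Units.val_mk0] at this
      omega
  · set m0 := D.multN (E.Y k) 0 with hm0'
    have hc : ∀ j : (ZMod p)ˣ, (D.multN (E.Y k) j : ℤ) = m0 + E.δ * (if k = j then 1 else 0) :=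
      fun j => by rw [hmult, E.vec_Y]
    have hcoset : (Finset.univ.filter fun j : (ZMod p)ˣ => k = j).card = Nat.card D.expE := by
      rw [← Fintype.card_subtype, ← Nat.card_eq_fintype_card]
      obtain ⟨j₀, rfl⟩ := QuotientGroup.mk_surjective k
      exact Nat.card_congr
        { toFun := fun j => ⟨j₀⁻¹ * j.1, QuotientGroup.eq.mp j.2⟩
          invFun := fun r => ⟨j₀ * r.1, QuotientGroup.eq.mpr (by rw [inv_mul_cancel_left]; exact r.2)⟩
          left_inv := fun j => Subtype.ext (mul_inv_cancel_left _ _)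
          right_inv := fun r => Subtype.ext (inv_mul_cancel_left _ _) }
    have hSint : (∑ j : (ZMod p)ˣ, (D.multN (E.Y k) j : ℤ)) =
        ((p - 1 : ℕ) : ℤ) * m0 + E.δ * (Nat.card D.expE : ℤ) := by
      rw [Finset.sum_congr rfl fun j _ => hc j, Finset.sum_add_distrib, Finset.sum_const,
        Finset.card_univ, hcardU, ← Finset.mul_sum, Finset.sum_boole, hcoset, nsmul_eq_mul]
    have hSeq : (S : ℤ) = (p : ℤ) * m0 + E.δ * (Nat.card D.expE : ℤ) := by
      rw [hSsplit]
      push_cast
      rw [hSint, Nat.cast_sub hp.one_lt.le]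
      push_cast
      ring
    have hle : Nat.card D.expE ≤ p - 1 := by
      rw [← hcardU, ← Nat.card_eq_fintype_card]
      exact Subgroup.card_le_card_group _
    rcases E.sign with e | e <;> rw [e] at hSeq <;> simp only [e] at hc
    · -- the exceptional case
      right
      have hm00 : m0 = 0 := by
        by_contra hne
        have := Nat.le_mul_of_pos_right p (Nat.pos_of_ne_zero hne)
        have : (p : ℤ) ≤ (p : ℤ) * m0 := by exact_mod_cast this
        omega
      obtain ⟨j₀, rfl⟩ := QuotientGroup.mk_surjective k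
      have hiff : ∀ j, aa j ≠ 0 ↔ ∃ r ∈ D.expN, j = ((r * j₀ : (ZMod p)ˣ) : ZMod p) := by
        intro j
        rw [hsupp]
        constructor
        · rintro ⟨r, hr, hne⟩
          have hj : j ≠ 0 := by
            rintro rfl
            rw [mul_zero] at hne
            exact hne hm00
          have h1 := hc (r * Units.mk0 j hj)
          rw [Units.val_mul, Units.val_mk0, hm00] at h1
          split_ifs at h1 with heq
          · refine ⟨r⁻¹ * (j₀⁻¹ * (r * Units.mk0 j hj)),
              mul_mem (inv_mem hr) (D.expE_le_expN (QuotientGroup.eq.mp heq)), ?_⟩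
            have e' : r⁻¹ * (j₀⁻¹ * (r * Units.mk0 j hj)) * j₀ = Units.mk0 j hj := by
              rw [mul_comm j₀⁻¹ _, ← mul_assoc, inv_mul_cancel_left, inv_mul_cancel_right]
            rw [e', Units.val_mk0]
          · omega
        · rintro ⟨r, hr, rfl⟩
          refine ⟨r⁻¹, inv_mem hr, ?_⟩
          rw [← Units.val_mul, inv_mul_cancel_left]
          have h1 := hc j₀
          rw [if_pos rfl] at h1
          omega
      have hconst : ∀ j, aa j ≠ 0 → aa j = aa j₀ := fun j hj => by
        obtain ⟨r, hr, rfl⟩ := (hiff j).mp hj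
        have e1 := D.aP_expN (isClassFunction_irr (E.Y j₀)) hr (j₀ : ZMod p)
        rw [← Units.val_mul, haa, haa] at e1
        exact_mod_cast e1
      have hcardset : (Finset.univ.filter fun j => aa j ≠ 0).card = Nat.card D.expN := by
        rw [← Fintype.card_subtype, ← Nat.card_eq_fintype_card]
        refine (Nat.card_congr (Equiv.ofBijective (fun r : D.expN =>
          (⟨((r.1 * j₀ : (ZMod p)ˣ) : ZMod p), (hiff _).mpr ⟨r.1, r.2, rfl⟩⟩ : {j // aa j ≠ 0}))
          ⟨fun r s hrs => Subtype.ext (mul_right_cancel (Units.ext (congrArg Subtype.val hrs))),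
            fun j => ?_⟩)).symm
        obtain ⟨r, hr, hj⟩ := (hiff _).mp j.2
        exact ⟨⟨r, hr⟩, Subtype.ext hj.symm⟩
      have hxeq : x = d * Nat.card D.expN := by
        have hSe : S = Nat.card D.expE := by rw [hm00] at hSeq; omega
        rw [hm, hSe, D.card_expN, ← D.relIndex_mul, ← hf]
        ring
      have hx2 : x = Nat.card D.expN * aa j₀ := by
        rw [← hsum, ← Finset.sum_filter_ne_zero, Finset.sum_congr rfl fun j hj =>
          hconst j (Finset.mem_filter.mp hj).2, Finset.sum_const, hcardset, smul_eq_mul]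
      refine ⟨j₀, fun j => ?_, fun j hj => ?_, hxeq⟩
      · rw [haa, Nat.cast_ne_zero]
        exact hiff j
      · rw [haa] at hj ⊢
        rw [hconst j (by exact_mod_cast hj)]
        rw [hxeq, mul_comm] at hx2
        rw [(Nat.eq_of_mul_eq_mul_left Nat.card_pos hx2).symm]
    · left
      have hm01 : m0 = 1 := by
        have h2 : ¬ 2 ≤ m0 := fun h2 => by
          have : (p : ℤ) * 2 ≤ (p : ℤ) * m0 := by exact_mod_cast Nat.mul_le_mul_left p h2
          omega
        have h0 : m0 ≠ 0 := by
          intro h0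
          obtain ⟨j, rfl⟩ := QuotientGroup.mk_surjective k
          have h1 := hc j
          rw [if_pos rfl, h0] at h1
          omega
        omega
      have hall : Nat.card D.expE = p - 1 := by
        obtain ⟨t, ht⟩ : Nat.card D.expE ∣ p - 1 := by
          rw [← hcardU, ← Nat.card_eq_fintype_card]
          exact Subgroup.card_subgroup_dvd_card _
        by_contra hne
        have ht2 : 2 ≤ t := by
          rcases t with _ | _ | t
          · rw [mul_zero] at ht; have := hp.two_le; omega
          · rw [zero_add, mul_one] at ht; exact absurd ht.symm hne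
          · omega
        have := Nat.mul_le_mul_left (Nat.card D.expE) ht2
        rw [hm01] at hSeq
        omega
      have htop : D.expE = ⊤ := (Subgroup.card_eq_iff_eq_top _).mp (by
        rw [hall, Nat.card_eq_fintype_card, hcardU])
      refine hsingle fun j hj => ?_
      have h1 := hc (Units.mk0 j hj)
      obtain ⟨k', rfl⟩ := QuotientGroup.mk_surjective k
      rw [if_pos (QuotientGroup.eq.mpr (htop ▸ Subgroup.mem_top _)), hm01, Units.val_mk0] at h1
      omega

end CfsgLib.Block.Cyclic.CycSetup
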