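import Cfsg.Agent.Lib.Block.Cyclic.SylowGalois

/-!
# Multiplicities on the subgroup of order `p`

`aP F j` is the multiplicity of `ψ_j` in the restriction of `F` to `Q`; it is the sum over the characters
`φ'` of `K` of `φ' 1` times the multiplicity of `ψ_j × φ'`.
-/

open Finset
open scoped ComplexConjugate

set_option linter.unusedSectionVars false

namespace CfsgLib.Block.Cyclic

open Cfsg CfsgLib.Char

universe u

/-- The conjugate of a character by an automorphism of `ℂ` is a character. -/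
theorem isCharacter_autTwist {G : Type u} [Group G] {χ : G → ℂ} (h : IsCharacter G χ) (σ : ℂ ≃+* ℂ) :
    IsCharacter G (fun g => σ (χ g)) := by
  obtain ⟨n, ρ, rfl⟩ := h
  let mσ : Matrix (Fin n) (Fin n) ℂ →* Matrix (Fin n) (Fin n) ℂ := (σ.toRingHom.mapMatrix).toMonoidHom
  let τ : Representation ℂ G (Fin n → ℂ) :=
    (Matrix.toLinAlgEquiv' (R := ℂ) (n := Fin n)).toMonoidHom.comp
      (mσ.comp ((LinearMap.toMatrixAlgEquiv' (R := ℂ) (n := Fin n)).toMonoidHom.comp ρ))
  refine ⟨n, τ, funext fun g => ?_⟩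
  show LinearMap.trace ℂ _ (τ g) = σ (LinearMap.trace ℂ _ (ρ g))
  rw [LinearMap.trace_eq_matrix_trace ℂ (Pi.basisFun ℂ (Fin n)),
    LinearMap.trace_eq_matrix_trace ℂ (Pi.basisFun ℂ (Fin n)) (ρ g)]
  simp only [LinearMap.toMatrix_eq_toMatrix']
  show Matrix.trace (LinearMap.toMatrix' (Matrix.toLin' ((LinearMap.toMatrix' (ρ g)).map σ))) = _
  rw [LinearMap.toMatrix'_toLin']
  simp [Matrix.trace, Matrix.diag]

theorem coe_withChar_dval {p : ℕ} [Fact p.Prime] {G : Type u} [Group G] [Fintype G] [DecidableEq G]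
    (D : CycSetup p G) [Fintype D.K] (φ' : IrrCharacter D.K) (χ : G → ℂ) (i : ZMod p) :
    (D.withChar φ').dval χ i = secMult χ (φ' : D.K → ℂ) (D.xp i) := rfl

namespace CycSetup

variable {p : ℕ} [Fact p.Prime] {G : Type u} [Group G] [Fintype G] [DecidableEq G]
  (D : CycSetup p G) [Fintype D.K]

/-- The parametrisation of `Q`. -/
def qHom : Multiplicative (ZMod p) →* G where
  toFun a := D.xp a.toAdd
  map_one' := by simp [D.xp_zero]
  map_mul' a b := by
    show D.xp (a.toAdd + b.toAdd) = _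
    rw [D.xp_add]

/-- The multiplicity of `ψ_j` on `Q`. -/
noncomputable def aP (F : G → ℂ) (j : ZMod p) : ℂ :=
  (p : ℂ)⁻¹ * ∑ i : ZMod p, stdPsi p (-(i * j)) * F (D.xp i)

theorem aP_nat {F : G → ℂ} (hF : IsCharacter G F) (j : ZMod p) : ∃ m : ℕ, D.aP F j = m := by
  classical
  obtain ⟨m, hm⟩ := classInner_char_irr_nat (isCharacter_comp hF D.qHom)
    (⟨_, isIrrCharacter_lin (linChar j)⟩ : IrrCharacter (Multiplicative (ZMod p)))
  refine ⟨m, ?_⟩
  rw [← hm]
  simp only [classInner, aP, Nat.card_eq_fintype_card, Fintype.card_multiplicative, ZMod.card]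
  congr 1
  refine Fintype.sum_equiv Multiplicative.ofAdd _ _ fun i => ?_
  simp only [coe_linChar, conj_stdPsi, toAdd_ofAdd, mul_comm j i, qHom, MonoidHom.coe_mk, OneHom.coe_mk]
  ring

theorem value_xp_eq_sum (F : G → ℂ) (i : ZMod p) :
    F (D.xp i) = ∑ j : ZMod p, stdPsi p (i * j) * D.aP F j := by
  simp only [aP, Finset.mul_sum]
  rw [Finset.sum_comm]
  have h : ∀ k : ZMod p, ∑ j : ZMod p, stdPsi p (i * j) *
      ((p : ℂ)⁻¹ * (stdPsi p (-(k * j)) * F (D.xp k))) =
      (p : ℂ)⁻¹ * (if i = k then (p : ℂ) else 0) * F (D.xp k) := by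
    intro k
    rw [Finset.sum_congr rfl (g := fun j => (p : ℂ)⁻¹ * F (D.xp k) * stdPsi p (j * (i - k))) fun j _ => by
      rw [show j * (i - k) = i * j + -(k * j) by ring, AddChar.map_add_eq_mul]; ring,
      ← Finset.mul_sum, sum_stdPsi_mul]
    simp only [sub_eq_zero]
    ring
  rw [Finset.sum_congr rfl fun k _ => h k, Finset.sum_eq_single i]
  · rw [if_pos rfl, inv_mul_cancel₀ (Nat.cast_ne_zero.mpr (Fact.out : p.Prime).ne_zero), one_mul]
  · intro k _ hk
    rw [if_neg (Ne.symm hk), mul_zero, zero_mul]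
  · simp

theorem sum_aP (F : G → ℂ) : ∑ j : ZMod p, D.aP F j = F 1 := by
  have h := D.value_xp_eq_sum F 0
  simp only [zero_mul, AddChar.map_zero_eq_one, one_mul, D.xp_zero] at h
  exact h.symm

theorem aP_normalizer {F : G → ℂ} (hF : IsClassFunction G F) (n : Subgroup.normalizer (D.Q : Set G))
    (j : ZMod p) : D.aP F (D.expo0 n * j) = D.aP F j := by
  simp only [aP]
  congr 1
  refine Fintype.sum_equiv (Equiv.mulLeft₀ (D.expo0 n) (D.expo0_isUnit n).ne_zero) _ _ fun i => ?_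
  rw [Equiv.mulLeft₀_apply, ← D.conj_xp, hF]
  congr 2
  ring

theorem aP_eq_sum_mult [Fintype (IrrCharacter D.K)] {F : G → ℂ} (hF : IsClassFunction G F)
    (j : ZMod p) :
    D.aP F j = ∑ φ' : IrrCharacter D.K, (φ' : D.K → ℂ) 1 * (D.withChar φ').mult F j := by
  have hv : ∀ i, F (D.xp i) =
      ∑ φ' : IrrCharacter D.K, (D.withChar φ').dval F i * (φ' : D.K → ℂ) 1 := fun i => by
    have h := value_eq_sum D.hQ D.hK hF (D.xp_mem i) 1
    rw [OneMemClass.coe_one, mul_one] at h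
    exact h
  simp only [aP, mult, hv, Finset.mul_sum]
  rw [Finset.sum_comm]
  exact Finset.sum_congr rfl fun φ' _ => Finset.sum_congr rfl fun i _ => by ring

theorem mult_conj {F : G → ℂ} (hF : IsClassFunction G F) {n : G}
    (hn : n ∈ Subgroup.normalizer (D.Q : Set G)) (j : ZMod p) :
    (D.withChar (conjKChar D.hQ D.hK hn D.φ)).mult F j = D.mult F (D.expo0 ⟨n, hn⟩ * j) := by
  simp only [mult]
  congr 1
  refine Fintype.sum_equiv (Equiv.mulLeft₀ (D.expo0 ⟨n, hn⟩⁻¹) (D.expo0_isUnit _).ne_zero)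
    (fun i => stdPsi p (-(i * j)) * (D.withChar (conjKChar D.hQ D.hK hn D.φ)).dval F i)
    (fun i => stdPsi p (-(i * (D.expo0 ⟨n, hn⟩ * j))) * D.dval F i) fun i => ?_
  have hm : D.expo0 ⟨n, hn⟩ * D.expo0 ⟨n, hn⟩⁻¹ = 1 := by
    rw [← D.expo0_mul, mul_inv_cancel, D.expo0_one]
  rw [Equiv.mulLeft₀_apply, coe_withChar_dval, dval, show D.xp i =
    n * D.xp (D.expo0 ⟨n, hn⟩⁻¹ * i) * n⁻¹ from ?_, secMult_conj D.hQ D.hK hF hn]
  · congr 1
    congr 1
    linear_combination (i * j) * hm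
  · rw [← D.conj_xp]
    simp [mul_assoc]

/-- The convolution. -/
theorem aP_mul_conj (F F' : G → ℂ) (j : ZMod p) :
    D.aP (fun g => F g * conj (F' g)) j = ∑ s : ZMod p, D.aP F s * conj (D.aP F' (s - j)) := by
  have hp0 : (p : ℂ) ≠ 0 := Nat.cast_ne_zero.mpr (Fact.out : p.Prime).ne_zero
  rw [aP]
  rw [Finset.mul_sum, Finset.sum_congr rfl (g := fun i => ∑ s : ZMod p, ∑ t : ZMod p,
    (p : ℂ)⁻¹ * (stdPsi p (-(i * j)) *
      (stdPsi p (i * s) * D.aP F s * (stdPsi p (-(i * t)) * conj (D.aP F' t))))) fun i _ => by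
    rw [D.value_xp_eq_sum F, D.value_xp_eq_sum F', map_sum, Finset.sum_mul_sum, Finset.mul_sum,
      Finset.mul_sum]
    refine Finset.sum_congr rfl fun s _ => ?_
    rw [Finset.mul_sum, Finset.mul_sum]
    exact Finset.sum_congr rfl fun t _ => by rw [map_mul (starRingEnd ℂ), conj_stdPsi],
    Finset.sum_comm]
  refine Finset.sum_congr rfl fun s _ => ?_
  rw [Finset.sum_comm]
  rw [Finset.sum_congr rfl (g := fun t => (p : ℂ)⁻¹ * (D.aP F s * conj (D.aP F' t)) *
      ∑ i : ZMod p, stdPsi p (i * (s - t - j))) fun t _ => ?_]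
  · rw [Finset.sum_eq_single (s - j)]
    · rw [sum_stdPsi_mul, if_pos (by ring)]
      field_simp
    · intro t _ ht
      rw [sum_stdPsi_mul, if_neg, mul_zero]
      intro e
      exact ht (by linear_combination -e)
    · simp
  · rw [Finset.mul_sum]
    refine Finset.sum_congr rfl fun i _ => ?_
    rw [show i * (s - t - j) = -(i * j) + i * s + -(i * t) by ring, AddChar.map_add_eq_mul,
      AddChar.map_add_eq_mul]
    ring

/-- The degree in terms of the multiplicities. -/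
theorem deg_eq {M : Ideal AlgInt} {B : Set (IrrCharacter G)} (h : D.BlockData M B)
    [Fintype (Subgroup.centralizer (D.Q : Set G))] {χ : IrrCharacter G} (hχ : χ ∈ B) :
    ∃ m : ℕ, charDegree (χ : G → ℂ) = D.stab.relIndex (Subgroup.normalizer (D.Q : Set G)) *
      charDegree (D.φ : D.K → ℂ) * ∑ j : ZMod p, D.multN χ j + p * m := by
  classical
  have := Fintype.ofFinite (IrrCharacter D.K)
  set d := charDegree (D.φ : D.K → ℂ)
  set S := ∑ j : ZMod p, D.multN χ j with hS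
  have h0 : D.dval (χ : G → ℂ) 0 = (S : ℂ) := by
    rw [D.dval_eq_sum_mult, hS, Nat.cast_sum]
    exact Finset.sum_congr rfl fun j _ => by rw [zero_mul, AddChar.map_zero_eq_one, one_mul, D.mult_eq]
  have hterm : ∀ φ' : IrrCharacter D.K, ∃ m : ℕ,
      secMult (χ : G → ℂ) (φ' : D.K → ℂ) 1 * (φ' : D.K → ℂ) 1 =
        ((if D.InOrbit φ' then d * S else 0 : ℕ) : ℂ) + (p : ℂ) * (m : ℂ) := by
    intro φ'
    by_cases ho : D.InOrbit φ'
    · refine ⟨0, ?_⟩
      rw [D.secMult_one_orbit (isClassFunction_irr χ) ho, h0, if_pos ho]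
      obtain ⟨n, hn, rfl⟩ := ho
      rw [D.charDegree_conjKChar, (charDegree_eq D.φ).1]
      push_cast
      ring
    · obtain ⟨m, hm⟩ := D.secMult_one_zero χ φ' (h.sec_out χ hχ φ' ho)
      refine ⟨m * charDegree (φ' : D.K → ℂ), ?_⟩
      rw [hm, if_neg ho, (charDegree_eq φ').1]
      push_cast
      ring
  choose m hm using hterm
  refine ⟨∑ φ', m φ', ?_⟩
  have hsum : (χ : G → ℂ) 1 = ∑ φ' : IrrCharacter D.K,
      secMult (χ : G → ℂ) (φ' : D.K → ℂ) 1 * (φ' : D.K → ℂ) 1 := by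
    have hv := value_eq_sum D.hQ D.hK (isClassFunction_irr χ) D.Q.one_mem 1
    rwa [OneMemClass.coe_one, mul_one] at hv
  rw [Finset.sum_congr rfl fun φ' _ => hm φ', (charDegree_eq χ).1, Finset.sum_add_distrib,
    ← Finset.mul_sum, ← Nat.cast_sum, ← Nat.cast_sum, Finset.sum_ite, Finset.sum_const,
    Finset.sum_const_zero, add_zero, ← Fintype.card_subtype, ← Nat.card_eq_fintype_card,
    D.card_orbit, smul_eq_mul, ← mul_assoc] at hsum
  exact_mod_cast hsum

theorem mem_expE_iff (htriv : ∀ y, (D.φ : D.K → ℂ) y = 1) {r : (ZMod p)ˣ} :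
    r ∈ D.expE ↔ ∃ n : Subgroup.normalizer (D.Q : Set G), D.expo n = r := by
  constructor
  · rintro ⟨t, rfl⟩
    exact ⟨_, rfl⟩
  · rintro ⟨n, rfl⟩
    have hn : (n : G) ∈ D.stab := by rw [D.stab_eq_normalizer htriv]; exact n.2
    exact ⟨⟨n, hn⟩, rfl⟩

end CycSetup

end CfsgLib.Block.Cyclic
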