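import Mathlib.Algebra.BigOperators.Group.Finset.Basic
import Mathlib.Algebra.BigOperators.Ring.Finset
import Mathlib.Algebra.Order.BigOperators.Group.Finset
import Mathlib.Algebra.Order.Ring.Abs
import Mathlib.Algebra.Order.BigOperators.Ring.Finset
import Mathlib.Data.Fintype.BigOperators
import Mathlib.Data.Fintype.Card
import Mathlib.Tactic.Linarith
import Mathlib.Tactic.Ring

/-!
# Integral vectors with the inner products of a block with cyclic defect group

`exists_exceptional`: integral vectors `v k`, `k ∈ Q`, with `⟨v k, v l⟩ = e + [k = l]`, orthogonal to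
a positive vector, and with the multiplicities bounded by one, are `v k = u + δ · 1_{Y k}` with `u`
taking the values `±1` on `e` points and zero elsewhere.
-/

open Finset

set_option linter.unusedSectionVars false

namespace CfsgLib.Block.Cyclic

/-- An integral vector of square norm two orthogonal to a positive vector. -/
theorem exists_sub_of_norm_two {I : Type*} [Fintype I] [DecidableEq I] (w : I → ℤ)
    (deg : I → ℤ) (hdeg : ∀ i, 0 < deg i) (h2 : ∑ i, w i ^ 2 = 2) (h0 : ∑ i, w i * deg i = 0) :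
    ∃ a b, a ≠ b ∧ ∀ i, w i = (if i = a then 1 else 0) - (if i = b then 1 else 0) := by
  have hle : ∀ i, w i ^ 2 ≤ 2 := fun i =>
    h2 ▸ Finset.single_le_sum (fun j _ => sq_nonneg (w j)) (Finset.mem_univ i)
  have h1 : ∀ i, w i = 0 ∨ w i = 1 ∨ w i = -1 := by
    intro i
    have := hle i
    have hb : -1 ≤ w i ∧ w i ≤ 1 := by
      constructor <;> nlinarith [sq_nonneg (w i - 1), sq_nonneg (w i + 1)]
    omega
  obtain ⟨a, ha⟩ : ∃ a, w a = 1 := by
    by_contra h
    push Not at h
    have hall : ∀ i ∈ (Finset.univ : Finset I), w i * deg i = 0 := by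
      refine (Finset.sum_eq_zero_iff_of_nonpos fun i _ => ?_).mp h0
      rcases h1 i with e | e | e
      · simp [e]
      · exact absurd e (h i)
      · rw [e]; nlinarith [hdeg i]
    have hz : ∀ i, w i = 0 := fun i =>
      (mul_eq_zero.mp (hall i (Finset.mem_univ i))).resolve_right (hdeg i).ne'
    simp [hz] at h2
  obtain ⟨b, hb⟩ : ∃ b, w b = -1 := by
    by_contra h
    push Not at h
    have hall : ∀ i ∈ (Finset.univ : Finset I), w i * deg i = 0 := by
      refine (Finset.sum_eq_zero_iff_of_nonneg fun i _ => ?_).mp h0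
      rcases h1 i with e | e | e
      · simp [e]
      · rw [e]; nlinarith [hdeg i]
      · exact absurd e (h i)
    have := hall a (Finset.mem_univ a)
    rw [ha, one_mul] at this
    exact absurd this (hdeg a).ne'
  have hab : a ≠ b := fun h => by rw [h, hb] at ha; omega
  refine ⟨a, b, hab, fun i => ?_⟩
  have hrest : i ≠ a → i ≠ b → w i = 0 := by
    intro hia hib
    have hs : w a ^ 2 + (w b ^ 2 + w i ^ 2) ≤ 2 := by
      rw [← h2]
      calc w a ^ 2 + (w b ^ 2 + w i ^ 2) = ∑ j ∈ ({a, b, i} : Finset I), w j ^ 2 := by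
            rw [Finset.sum_insert (by simp [hab, Ne.symm hia]), Finset.sum_pair (Ne.symm hib)]
        _ ≤ _ := Finset.sum_le_sum_of_subset_of_nonneg (Finset.subset_univ _)
            fun j _ _ => sq_nonneg (w j)
    rw [ha, hb] at hs
    nlinarith [sq_nonneg (w i)]
  by_cases hia : i = a
  · subst hia
    simp [ha, hab]
  by_cases hib : i = b
  · subst hib
    simp [hb, hia]
  · simp [hia, hib, hrest hia hib]

variable {I Q : Type*} [Fintype I] [DecidableEq I] [Fintype Q] [DecidableEq Q]

/-- The inner product of two differences of unit vectors. -/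
theorem sum_sub_mul_sub (a b c d : I) :
    ∑ i, ((if i = a then (1 : ℤ) else 0) - (if i = b then 1 else 0)) *
        ((if i = c then 1 else 0) - (if i = d then 1 else 0)) =
      ((if a = c then 1 else 0) - (if a = d then 1 else 0)) -
        ((if b = c then 1 else 0) - (if b = d then 1 else 0)) := by
  simp [sub_mul, Finset.sum_sub_distrib]

/-- Vectors of square norm two with pairwise inner product one are a star, up to sign. -/
theorem exists_star (k₀ : Q) (w : Q → I → ℤ) (deg : I → ℤ) (hdeg : ∀ i, 0 < deg i)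
    (h0 : ∀ k, ∑ i, w k i * deg i = 0) (hw0 : ∀ i, w k₀ i = 0)
    (hip : ∀ k l, k ≠ k₀ → l ≠ k₀ → ∑ i, w k i * w l i = if k = l then 2 else 1)
    (hne : ∃ k, k ≠ k₀) :
    ∃ (Y : Q → I) (δ : ℤ), Function.Injective Y ∧ (δ = 1 ∨ δ = -1) ∧
      ∀ k i, w k i = δ * ((if i = Y k then 1 else 0) - (if i = Y k₀ then 1 else 0)) := by
  classical
  have hpm : ∀ k, k ≠ k₀ → ∃ a b, a ≠ b ∧
      ∀ i, w k i = (if i = a then 1 else 0) - (if i = b then 1 else 0) := fun k hk =>
    exists_sub_of_norm_two (w k) deg hdeg (by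
      have := hip k k hk hk
      simpa [sq] using this) (h0 k)
  have : Nonempty I := by
    obtain ⟨k, hk⟩ := hne
    obtain ⟨a, -⟩ := hpm k hk
    exact ⟨a⟩
  choose! a b hab hw using hpm
  have hpair : ∀ k l, k ≠ k₀ → l ≠ k₀ → k ≠ l →
      (a k = a l ∧ b k ≠ b l) ∨ (b k = b l ∧ a k ≠ a l) := by
    intro k l hk hl hkl
    have h := hip k l hk hl
    rw [if_neg hkl, Finset.sum_congr rfl fun i _ => by rw [hw k hk i, hw l hl i],
      sum_sub_mul_sub] at h
    have h1 : ∀ x y z : I, x ≠ y → x = z → z ≠ y := fun x y z hxy hxz => hxz ▸ hxy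
    split_ifs at h with c1 c2 c3 c4 c5 c6 c7 c8 <;> grind
  obtain ⟨k₁, hk₁⟩ := hne
  have hcommon : (∀ k, k ≠ k₀ → a k = a k₁) ∨ (∀ k, k ≠ k₀ → b k = b k₁) := by
    by_contra h
    push Not at h
    obtain ⟨⟨k, hk, hka⟩, l, hl, hlb⟩ := h
    have hk1 : k ≠ k₁ := fun e => hka (e ▸ rfl)
    have hl1 : l ≠ k₁ := fun e => hlb (e ▸ rfl)
    have hbk : b k = b k₁ := ((hpair k k₁ hk hk₁ hk1).resolve_left fun e => hka e.1).1
    have hal : a l = a k₁ := ((hpair l k₁ hl hk₁ hl1).resolve_right fun e => hlb e.1).1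
    have hkl : k ≠ l := fun e => hka (e ▸ hal)
    rcases hpair k l hk hl hkl with e | e
    · exact hka (e.1.trans hal)
    · exact hlb (e.1.symm.trans hbk)
  rcases hcommon with h | h
  · refine ⟨fun k => if k = k₀ then a k₁ else b k, -1, fun k l hkl => ?_, Or.inr rfl, fun k i => ?_⟩
    · simp only at hkl
      split_ifs at hkl with h1 h2 h2
      · exact h1.trans h2.symm
      · exact absurd ((h l h2).trans hkl) (hab l h2)
      · exact absurd ((h k h1).trans hkl.symm) (hab k h1)
      · by_contra hne'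
        rcases hpair k l h1 h2 hne' with e | e
        · exact e.2 hkl
        · exact e.2 ((h k h1).trans (h l h2).symm)
    · simp only [if_pos rfl]
      by_cases hk : k = k₀
      · subst hk
        simp [hw0]
      · simp only [hk, ↓reduceIte]
        rw [hw k hk i, h k hk]
        ring
  · refine ⟨fun k => if k = k₀ then b k₁ else a k, 1, fun k l hkl => ?_, Or.inl rfl, fun k i => ?_⟩
    · simp only at hkl
      split_ifs at hkl with h1 h2 h2
      · exact h1.trans h2.symm
      · exact absurd ((h l h2).trans hkl).symm (hab l h2)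
      · exact absurd (hkl.trans (h k h1).symm) (hab k h1)
      · by_contra hne'
        rcases hpair k l h1 h2 hne' with e | e
        · exact e.2 ((h k h1).trans (h l h2).symm)
        · exact e.2 hkl
    · simp only [if_pos rfl, one_mul]
      by_cases hk : k = k₀
      · subst hk
        simp [hw0]
      · simp only [hk, ↓reduceIte]
        rw [hw k hk i, h k hk]

/-- The exceptional vectors. -/
theorem exists_exceptional [Nonempty Q] (v : Q → I → ℤ) (e : ℕ) (deg : I → ℤ)
    (hdeg : ∀ i, 0 < deg i) (h0 : ∀ k, ∑ i, v k i * deg i = 0)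
    (hip : ∀ k l, ∑ i, v k i * v l i = (e : ℤ) + if k = l then 1 else 0)
    (hone : ∀ i, (∀ k l, v k i = v l i) → ∀ k, |v k i| ≤ 1)
    (hfam : ∀ (Y : Q → I) (δ : ℤ), Function.Injective Y → (δ = 1 ∨ δ = -1) →
      (∀ k l i, v k i - v l i = δ * ((if i = Y k then 1 else 0) - (if i = Y l then 1 else 0))) →
      ∀ k, |∑ l, v k (Y l)| ≤ 1) :
    ∃ (Y : Q → I) (δ : ℤ) (u : I → ℤ), Function.Injective Y ∧ (δ = 1 ∨ δ = -1) ∧
      (∀ l, u (Y l) = 0) ∧ (∀ i, u i = 0 ∨ u i = 1 ∨ u i = -1) ∧
      (∀ k i, v k i = u i + δ * (if i = Y k then 1 else 0)) ∧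
      (Finset.univ.filter fun i => u i ≠ 0).card = e := by
  classical
  obtain ⟨k₀⟩ := ‹Nonempty Q›
  suffices hmain : ∃ (Y : Q → I) (δ : ℤ), Function.Injective Y ∧ (δ = 1 ∨ δ = -1) ∧
      (∀ l, v k₀ (Y l) = δ * (if l = k₀ then 1 else 0)) ∧
      ∀ k i, v k i = v k₀ i + δ * ((if i = Y k then 1 else 0) - (if i = Y k₀ then 1 else 0)) by
    obtain ⟨Y, δ, hY, hδ, hu, hv⟩ := hmain
    let u : I → ℤ := fun i => v k₀ i - δ * (if i = Y k₀ then 1 else 0)
    have hu0 : ∀ l, u (Y l) = 0 := fun l => by simp [u, hu, hY.eq_iff]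
    have hvu : ∀ k i, v k i = u i + δ * (if i = Y k then 1 else 0) := fun k i => by
      rw [hv k i]; simp only [u]; ring
    have hub : ∀ i, u i = 0 ∨ u i = 1 ∨ u i = -1 := by
      intro i
      by_cases hi : ∃ l, i = Y l
      · obtain ⟨l, rfl⟩ := hi
        exact Or.inl (hu0 l)
      · push Not at hi
        have hc : ∀ k, v k i = u i := fun k => by simp [hvu k i, hi k]
        have := hone i (fun k l => by rw [hc, hc]) k₀
        rw [hc, abs_le] at this
        omega
    refine ⟨Y, δ, u, hY, hδ, hu0, hub, hvu, ?_⟩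
    have h1 : ∑ i, u i ^ 2 = (e : ℤ) := by
      have h := hip k₀ k₀
      rw [if_pos rfl, Finset.sum_congr rfl (g := fun i => u i ^ 2 + if i = Y k₀ then (1 : ℤ) else 0)
        fun i _ => ?_, Finset.sum_add_distrib] at h
      · simpa using h
      · rw [hvu k₀ i]
        by_cases hi : i = Y k₀
        · subst hi
          rcases hδ with rfl | rfl <;> simp [hu0]
        · simp [hi, sq]
    rw [Finset.sum_congr rfl (g := fun i => if u i ≠ 0 then (1 : ℤ) else 0) fun i _ => by
      rcases hub i with h | h | h <;> simp [h], Finset.sum_boole] at h1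
    exact_mod_cast h1
  by_cases hne : ∃ k, k ≠ k₀
  swap
  · push Not at hne
    have hc : ∀ i k, |v k i| ≤ 1 := fun i k => hone i (fun k l => by rw [hne k, hne l]) k
    obtain ⟨i₀, hi₀⟩ : ∃ i, v k₀ i ≠ 0 := by
      by_contra h
      push Not at h
      have := hip k₀ k₀
      simp [h] at this
      omega
    refine ⟨fun _ => i₀, v k₀ i₀, fun k l _ => (hne k).trans (hne l).symm, ?_, fun l => ?_,
      fun k i => ?_⟩
    · have := abs_le.mp (hc i₀ k₀)
      omega
    · simp [hne l]
    · simp [hne k]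
  have hw : ∀ k l, k ≠ k₀ → l ≠ k₀ →
      ∑ i, (v k i - v k₀ i) * (v l i - v k₀ i) = if k = l then 2 else 1 := by
    intro k l hk hl
    simp only [sub_mul, mul_sub, Finset.sum_sub_distrib, hip, if_neg hk, if_neg (Ne.symm hl),
      if_pos]
    split_ifs <;> ring
  obtain ⟨Y, δ, hY, hδ, hY'⟩ := exists_star k₀ (fun k i => v k i - v k₀ i) deg hdeg
    (fun k => by simp only [sub_mul, Finset.sum_sub_distrib, h0, sub_self]) (fun i => sub_self _) hw
    hne
  have hδ2 : δ * δ = 1 := by rcases hδ with rfl | rfl <;> ring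
  have hstep : ∀ l, l ≠ k₀ → v k₀ (Y k₀) = v k₀ (Y l) + δ := by
    intro l hl
    have h1 : ∑ i, v k₀ i * (v l i - v k₀ i) = -1 := by
      simp only [mul_sub, Finset.sum_sub_distrib, hip, if_pos, if_neg (Ne.symm hl)]
      ring
    have h2 : ∑ i, v k₀ i * (v l i - v k₀ i) = δ * (v k₀ (Y l) - v k₀ (Y k₀)) := by
      rw [Finset.sum_congr rfl fun i _ => by rw [hY' l i]]
      simp only [mul_sub, mul_ite, mul_one, mul_zero, Finset.sum_sub_distrib, Finset.sum_ite_eq',
        Finset.mem_univ, if_true]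
      ring
    rw [h2] at h1
    rcases hδ with rfl | rfl <;> omega
  set u₀ := v k₀ (Y k₀) - δ with hu₀
  have hval : ∀ l, v k₀ (Y l) = u₀ + δ * (if l = k₀ then 1 else 0) := by
    intro l
    by_cases hl : l = k₀
    · subst hl; simp [u₀]
    · rw [if_neg hl, hu₀, hstep l hl]; ring
  have hv : ∀ k i, v k i = v k₀ i + δ * ((if i = Y k then 1 else 0) - (if i = Y k₀ then 1 else 0)) :=
    fun k i => by rw [← hY' k i]; ring
  have hb := hfam Y δ hY hδ (fun k l i => by rw [hv k i, hv l i]; ring) k₀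
  rw [Finset.sum_congr rfl fun l _ => hval l, Finset.sum_add_distrib, Finset.sum_const,
    Finset.card_univ, nsmul_eq_mul, ← Finset.mul_sum, Finset.sum_ite_eq', if_pos (Finset.mem_univ _),
    mul_one] at hb
  have hcard : 2 ≤ Fintype.card Q := by
    obtain ⟨k, hk⟩ := hne
    exact Fintype.one_lt_card_iff.mpr ⟨k, k₀, hk⟩
  have hcases : u₀ = 0 ∨ (Fintype.card Q = 2 ∧ u₀ = -δ) := by
    rw [abs_le] at hb
    have hm : (2 : ℤ) ≤ (Fintype.card Q : ℤ) := by exact_mod_cast hcard
    have hu : -1 ≤ u₀ ∧ u₀ ≤ 1 := by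
      rcases hδ with rfl | rfl <;> constructor <;> nlinarith
    rcases hδ with rfl | rfl
    · obtain h | h | h : u₀ = -1 ∨ u₀ = 0 ∨ u₀ = 1 := by omega
      · right
        rw [h] at hb
        exact ⟨by omega, by omega⟩
      · exact Or.inl h
      · rw [h] at hb; omega
    · obtain h | h | h : u₀ = -1 ∨ u₀ = 0 ∨ u₀ = 1 := by omega
      · rw [h] at hb; omega
      · exact Or.inl h
      · right
        rw [h] at hb
        exact ⟨by omega, by omega⟩
  rcases hcases with hu | ⟨h2, hu⟩
  · exact ⟨Y, δ, hY, hδ, fun l => by rw [hval l, hu, zero_add], hv⟩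
  · obtain ⟨k₁, hk₁⟩ := hne
    have hall : ∀ k, k = k₀ ∨ k = k₁ := by
      intro k
      by_contra h
      push Not at h
      have hc : ({k₀, k₁, k} : Finset Q).card ≤ Fintype.card Q := Finset.card_le_univ _
      rw [Finset.card_insert_of_notMem (by simp [Ne.symm hk₁, Ne.symm h.1]),
        Finset.card_pair (Ne.symm h.2)] at hc
      omega
    refine ⟨Y ∘ Equiv.swap k₀ k₁, -δ, hY.comp (Equiv.injective _), ?_, fun l => ?_, fun k i => ?_⟩
    · rcases hδ with rfl | rfl
      · exact Or.inr rfl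
      · exact Or.inl (neg_neg 1)
    · rcases hall l with rfl | rfl
      · simp [hval, hu, hk₁]
      · simp [hval, hu, hk₁]
    · rcases hall k with rfl | rfl
      · rw [hv]; simp
      · rw [hv]
        simp only [Function.comp_apply, Equiv.swap_apply_left, Equiv.swap_apply_right]
        ring

end CfsgLib.Block.Cyclic
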