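import Cfsg.Agent.Lib.Block.Lift
import Mathlib.FieldTheory.IsAlgClosed.Basic
import Mathlib.LinearAlgebra.Lagrange
import Mathlib.RingTheory.IntegralClosure.IsIntegralClosure.Basic
import Mathlib.LinearAlgebra.FiniteDimensional.Basic

/-!
# Spectral idempotents in a finite-dimensional algebra of characteristic `p`, and their lifts

`exists_spectral_idem`: orthogonal idempotents polynomial in `a`, one for each prescribed scalar;
`exists_lift_orth`: they lift to orthogonal idempotents over the local ring.
-/

open Finset Polynomial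

set_option linter.unusedSectionVars false

namespace CfsgLib.Block.Cyclic

theorem exists_spectral_idem {k : Type*} [Field k] [IsAlgClosed k] {p : ℕ} (hp : p.Prime) [CharP k p]
    {A : Type*} [Ring A] [Algebra k A] [FiniteDimensional k A] (a : A) (Λ : Finset k) :
    ∃ q : k → Polynomial k, (∀ μ ∈ Λ, IsIdempotentElem (aeval a (q μ))) ∧
      (∀ μ ∈ Λ, ∀ ν ∈ Λ, μ ≠ ν → aeval a (q μ) * aeval a (q ν) = 0) ∧
      ∀ μ ∈ Λ, (q μ).eval μ = 1 := by
  classical
  have : Fact p.Prime := ⟨hp⟩
  set m := minpoly k a
  have hm : m.Monic := minpoly.monic (Algebra.IsIntegral.isIntegral a)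
  set s := m.roots.toFinset ∪ Λ with hs
  set P : Polynomial k := ∏ r ∈ s, (X - C r) with hP
  obtain ⟨e, he⟩ : ∃ e, m.natDegree ≤ p ^ e := ⟨m.natDegree, (Nat.lt_pow_self hp.one_lt).le⟩
  have hzero : ∀ f : Polynomial k, (∀ r ∈ s, f.eval r = 0) → (aeval a f) ^ p ^ e = 0 := by
    intro f hf
    have hd : P ∣ f := Finset.prod_dvd_of_coprime
      (fun x _ y _ hxy => isCoprime_X_sub_C_of_isUnit_sub (sub_ne_zero.mpr hxy).isUnit)
      fun r hr => dvd_iff_isRoot.mpr (hf r hr)
    have hmd : m ∣ P ^ p ^ e := by
      have hspl : m = (m.roots.map fun r => X - C r).prod :=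
        (IsAlgClosed.splits m).eq_prod_roots_of_monic hm
      refine dvd_trans (dvd_of_eq hspl) ?_
      have hcard : Multiset.card m.roots ≤ p ^ e := (card_roots' m).trans he
      rw [hP, ← Finset.prod_pow, Finset.prod_multiset_map_count]
      refine (Finset.prod_dvd_prod_of_dvd _ _ fun r _ => ?_).trans
        (Finset.prod_dvd_prod_of_subset _ _ _ Finset.subset_union_left)
      exact pow_dvd_pow _ ((Multiset.count_le_card r _).trans hcard)
    obtain ⟨c, hc⟩ := hmd.trans (pow_dvd_pow_of_dvd hd _)
    rw [← map_pow, hc, map_mul, minpoly.aeval, zero_mul]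
  let ℓ : k → Polynomial k := fun μ => Lagrange.basis s id μ
  have hinj : Set.InjOn (id : k → k) s := Set.injOn_id _
  have hev : ∀ μ ∈ s, ∀ r ∈ s, (ℓ μ).eval r = if r = μ then 1 else 0 := by
    intro μ hμ r hr
    split_ifs with h
    · subst h
      exact Lagrange.eval_basis_self hinj hr
    · exact Lagrange.eval_basis_of_ne (v := (id : k → k)) (Ne.symm h) hr
  refine ⟨fun μ => ℓ μ ^ p ^ e, fun μ hμ => ?_, fun μ hμ ν hν hne => ?_, fun μ hμ => ?_⟩
  · have hμs : μ ∈ s := Finset.mem_union_right _ hμ
    have h := hzero (ℓ μ * ℓ μ - ℓ μ) fun r hr => by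
      rw [eval_sub, eval_mul, hev μ hμs r hr]
      split_ifs <;> simp
    rw [← map_pow, sub_pow_char_pow, mul_pow, map_sub, map_mul, sub_eq_zero] at h
    exact h
  · have h := hzero (ℓ μ * ℓ ν) fun r hr => by
      rw [eval_mul, hev μ (Finset.mem_union_right _ hμ) r hr, hev ν (Finset.mem_union_right _ hν) r hr]
      split_ifs with h1 h2
      · exact absurd (h1.symm.trans h2) hne
      all_goals simp
    rw [← map_pow, mul_pow, map_mul] at h
    exact h
  · rw [eval_pow, hev μ (Finset.mem_union_right _ hμ) μ (Finset.mem_union_right _ hμ), if_pos rfl,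
      one_pow]

universe u

variable {M : Ideal Cfsg.AlgInt} [M.IsMaximal] {A : Type u} [Group A] [Fintype A] [DecidableEq A]

/-- Orthogonal idempotents polynomial in a reduced element lift to orthogonal idempotents. -/
theorem exists_lift_orth {ι : Type*} (a : MonoidAlgebra (locRing M) A)
    (q : ι → Polynomial (ResField M)) (s : Finset ι)
    (hid : ∀ i ∈ s, IsIdempotentElem (aeval (toK M a) (q i)))
    (horth : ∀ i ∈ s, ∀ j ∈ s, i ≠ j → aeval (toK M a) (q i) * aeval (toK M a) (q j) = 0) :
    ∃ f : ι → MonoidAlgebra (locRing M) A,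
      (∀ i ∈ s, f i * f i = f i ∧ toK M (f i) = aeval (toK M a) (q i)) ∧
      ∀ i ∈ s, ∀ j ∈ s, i ≠ j → f i * f j = 0 := by
  classical
  suffices H : ∃ f : ι → MonoidAlgebra (locRing M) A,
      (∀ i ∈ s, f i * f i = f i ∧ toK M (f i) = aeval (toK M a) (q i) ∧
        f i ∈ Algebra.adjoin (locRing M) {a}) ∧
      ∀ i ∈ s, ∀ j ∈ s, i ≠ j → f i * f j = 0 by
    obtain ⟨f, h1, h2⟩ := H
    exact ⟨f, fun i hi => ⟨(h1 i hi).1, (h1 i hi).2.1⟩, h2⟩
  have hcomm : ∀ x ∈ Algebra.adjoin (locRing M) ({a} : Set (MonoidAlgebra (locRing M) A)),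
      ∀ y ∈ Algebra.adjoin (locRing M) ({a} : Set (MonoidAlgebra (locRing M) A)), x * y = y * x := by
    intro x hx y hy
    rw [Algebra.adjoin_singleton_eq_range_aeval] at hx hy
    obtain ⟨f, rfl⟩ := hx
    obtain ⟨g, rfl⟩ := hy
    show aeval a f * aeval a g = aeval a g * aeval a f
    rw [← map_mul, mul_comm, map_mul]
  induction s using Finset.induction_on with
  | empty => exact ⟨fun _ => 0, by simp, by simp⟩
  | insert i s his ih =>
    obtain ⟨f, hf, hfo⟩ := ih (fun j hj => hid j (Finset.mem_insert_of_mem hj))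
      fun j hj l hl => horth j (Finset.mem_insert_of_mem hj) l (Finset.mem_insert_of_mem hl)
    obtain ⟨q', hq'⟩ := Polynomial.map_surjective (res M) res_surjective (q i)
    have htok : toK M (aeval a q') = aeval (toK M a) (q i) := by rw [toK_aeval, hq']
    obtain ⟨r, hr, hr'⟩ := exists_lift_idem (aeval a q') (by rw [htok]; exact hid i (by simp))
    set e := aeval (aeval a q') r with he
    have hemem : e ∈ Algebra.adjoin (locRing M) {a} := by
      rw [he, ← aeval_comp, Algebra.adjoin_singleton_eq_range_aeval]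
      exact ⟨_, rfl⟩
    set S := ∑ j ∈ s, f j with hS
    have hSmem : S ∈ Algebra.adjoin (locRing M) {a} := sum_mem fun j hj => (hf j hj).2.2
    have hfS : ∀ j ∈ s, f j * S = f j := fun j hj => by
      rw [hS, Finset.mul_sum, Finset.sum_eq_single j (fun l hl hlj => hfo j hj l hl (Ne.symm hlj))
        (fun h => absurd hj h), (hf j hj).1]
    have hSS : S * S = S := by
      conv_lhs => rw [hS, Finset.sum_mul]
      exact Finset.sum_congr rfl fun j hj => hfS j hj
    have hSf : ∀ j ∈ s, S * f j = f j := fun j hj => by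
      rw [hcomm S hSmem (f j) (hf j hj).2.2, hfS j hj]
    set f' := e * (1 - S) with hf'
    have hmem : f' ∈ Algebra.adjoin (locRing M) {a} := mul_mem hemem (sub_mem (one_mem _) hSmem)
    have hz : ∀ j ∈ s, f' * f j = 0 := fun j hj => by
      rw [hf', mul_assoc, sub_mul, one_mul, hSf j hj, sub_self, mul_zero]
    have hf'2 : f' * f' = f' ∧ toK M f' = aeval (toK M a) (q i) := by
      constructor
      · have h2 : (1 - S) * (1 - S) = 1 - S := by
          rw [mul_sub, mul_one, sub_mul, one_mul, hSS, sub_self, sub_zero]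
        rw [hf', mul_assoc, ← mul_assoc (1 - S),
          hcomm (1 - S) (sub_mem (one_mem _) hSmem) e hemem, mul_assoc e (1 - S), h2,
          ← mul_assoc, hr]
      · rw [hf', map_mul, map_sub, map_one, hS, map_sum, hr', htok, mul_sub, mul_one,
          Finset.mul_sum, Finset.sum_eq_zero, sub_zero]
        intro l hl
        rw [(hf l hl).2.1]
        exact horth i (by simp) l (Finset.mem_insert_of_mem hl) fun h => his (h ▸ hl)
    refine ⟨fun j => if j = i then f' else f j, fun j hj => ?_, fun j hj l hl hjl => ?_⟩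
    · by_cases h : j = i
      · simp only [h, ↓reduceIte]
        exact ⟨hf'2.1, hf'2.2, hmem⟩
      · simp only [h, ↓reduceIte]
        exact hf j ((Finset.mem_insert.mp hj).resolve_left h)
    · by_cases h : j = i <;> by_cases h' : l = i
      · exact absurd (h.trans h'.symm) hjl
      · simp only [h, h', ↓reduceIte]
        exact hz l ((Finset.mem_insert.mp hl).resolve_left h')
      · simp only [h, h', ↓reduceIte]
        have hj' := (Finset.mem_insert.mp hj).resolve_left h
        rw [hcomm (f j) (hf j hj').2.2 f' hmem]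
        exact hz j hj'
      · simp only [h, h', ↓reduceIte]
        exact hfo j ((Finset.mem_insert.mp hj).resolve_left h) l
          ((Finset.mem_insert.mp hl).resolve_left h') hjl

end CfsgLib.Block.Cyclic
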