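import Cfsg.Agent.Lib.Block.Cyclic.SignFamily
import Cfsg.Agent.Lib.Block.Cyclic.SpectralIdem
import Mathlib.GroupTheory.GroupAction.Quotient
import Mathlib.LinearAlgebra.Isomorphisms

/-!
# The sign bound for a family of exceptional characters

For a subgroup `P` of order `p`, a `p'`-subgroup `ι Γ` of its normaliser with a character `φ` of a
normal subgroup centralising `P`, and a family `S` of characters of equal degree agreeing on the
`p`-regular elements: the multiplicity of `φ` in the values of the family at `x * K`, `x ≠ 1` in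
`P`, has absolute value at most one (`abs_mult_le_one`).
-/

open Finset MonoidAlgebra
open scoped ComplexConjugate

set_option linter.unusedSectionVars false

namespace CfsgLib.Block.Cyclic

open Cfsg CfsgLib.Char

universe u v

variable {p : ℕ} {M : Ideal AlgInt} [M.IsMaximal] {G : Type u} [Group G] [Fintype G] [DecidableEq G]
  {Γ : Type v} [Group Γ] [Fintype Γ] [DecidableEq Γ]
  {π z : MonoidAlgebra (unr p M) G} {V : Type*} [AddCommGroup V] [Module (ResField M) V]
  [IsPrincipalIdealRing (unr p M)] [RingHomSurjective (resU p M)]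

theorem opA_add (a b : MonoidAlgebra (unr p M) G) :
    opA π z (a + b) = opA π z a + opA π z b :=
  LinearMap.ext fun x => Subtype.ext (by
    rw [LinearMap.add_apply, Submodule.coe_add, coe_opA, coe_opA, coe_opA, mul_add, add_mul])

theorem opA_smul (c : unr p M) (b : MonoidAlgebra (unr p M) G) :
    opA π z (c • b) = c • opA π z b :=
  LinearMap.ext fun x => Subtype.ext (by
    rw [LinearMap.smul_apply, Submodule.coe_smul, coe_opA, coe_opA, mul_smul_comm, smul_mul_assoc])

theorem opA_self (hπ : π * π = π) : opA π z π = 1 :=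
  LinearMap.ext fun x => Subtype.ext (by
    rw [coe_opA, hπ, pi_mul_of_mem hπ x.2, Module.End.one_apply])

theorem opR_aeval (hz : ∀ b, Commute z b) (a : MonoidAlgebra (unr p M) G)
    (q : Polynomial (unr p M)) :
    Polynomial.aeval (opR π z hz a) q = opR π z hz (Polynomial.aeval a q) := by
  induction q using Polynomial.induction_on with
  | C c =>
    rw [Polynomial.aeval_C, Polynomial.aeval_C, Algebra.algebraMap_eq_smul_one,
      Algebra.algebraMap_eq_smul_one, opR_smul, opR_one]
  | add q r hq hr => rw [map_add, map_add, hq, hr, opR_add]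
  | monomial n c h =>
    rw [show (Polynomial.C c * Polynomial.X ^ (n + 1)) =
      Polynomial.X * (Polynomial.C c * Polynomial.X ^ n) by ring, map_mul (Polynomial.aeval (opR π z hz a)) Polynomial.X,
      map_mul (Polynomial.aeval a) Polynomial.X, Polynomial.aeval_X, Polynomial.aeval_X, h, opR_mul]
    congr 1
    have h2 := congrArg (Polynomial.aeval a) (mul_comm (Polynomial.C c * Polynomial.X ^ n) Polynomial.X)
    simpa using h2

theorem opR_comm_opA (hz : ∀ b, Commute z b) (a b : MonoidAlgebra (unr p M) G) :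
    Commute (opR π z hz a) (opA π z b) :=
  LinearMap.ext fun x => Subtype.ext (by
    rw [Module.End.mul_apply, Module.End.mul_apply, coe_opR, coe_opA, coe_opA, coe_opR]
    simp only [mul_assoc])

theorem opA_pow (hπ : π * π = π) {y : G} (hy : Commute π (single y 1)) (i : ℕ) :
    opA π z (single y 1) ^ i = opA π z (single (y ^ i) 1) := by
  induction i with
  | zero => rw [pow_zero, pow_zero, ← MonoidAlgebra.one_def, opA_one hπ]
  | succ i ih => rw [pow_succ', pow_succ', ih, opA_mul_left hπ hy, single_mul_single, mul_one]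

/-- A sum over a finite set stable under a fixed-point free permutation of period `p`. -/
theorem sum_free_orbits {α X : Type*} [DecidableEq α] [AddCommMonoid X] {p : ℕ} (hp : p.Prime)
    (σ : Equiv.Perm α) (hσ : σ ^ p = 1) (f : α → X) (Sub : AddSubmonoid X) (s : Finset α)
    (hs : ∀ a ∈ s, σ a ∈ s ∧ σ a ≠ a) (h : ∀ a ∈ s, ∑ i ∈ range p, f ((σ ^ i) a) ∈ Sub) :
    ∑ a ∈ s, f a ∈ Sub := by
  induction hn : s.card using Nat.strong_induction_on generalizing s with
  | _ n ih =>
    rcases s.eq_empty_or_nonempty with rfl | ⟨a, ha⟩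
    · simp
    have hmem : ∀ i : ℕ, (σ ^ i) a ∈ s := by
      intro i
      induction i with
      | zero => simpa using ha
      | succ i ih' => rw [pow_succ', Equiv.Perm.mul_apply]; exact (hs _ ih').1
    have hmin : Function.minimalPeriod σ a = p := by
      have : Fact p.Prime := ⟨hp⟩
      refine Function.minimalPeriod_eq_prime ?_ (hs a ha).2
      show σ^[p] a = a
      rw [Equiv.Perm.iterate_eq_pow, hσ]
      rfl
    have hinj : Set.InjOn (fun i => (σ ^ i) a) (range p : Finset ℕ) := by
      intro i hi j hj hij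
      refine Function.iterate_injOn_Iio_minimalPeriod (f := σ) (x := a) ?_ ?_ ?_
      · rw [hmin]; exact Finset.mem_range.mp hi
      · rw [hmin]; exact Finset.mem_range.mp hj
      · simpa [Equiv.Perm.iterate_eq_pow] using hij
    set o := (range p).image fun i => (σ ^ i) a with ho
    have hos : o ⊆ s := fun b hb => by
      obtain ⟨i, -, rfl⟩ := Finset.mem_image.mp hb
      exact hmem i
    have hso : ∀ b ∈ s \ o, σ b ∈ s \ o ∧ σ b ≠ b := by
      intro b hb
      obtain ⟨hbs, hbo⟩ := Finset.mem_sdiff.mp hb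
      refine ⟨Finset.mem_sdiff.mpr ⟨(hs b hbs).1, fun hc => hbo ?_⟩, (hs b hbs).2⟩
      obtain ⟨i, -, hi⟩ := Finset.mem_image.mp hc
      refine Finset.mem_image.mpr ⟨(i + (p - 1)) % p, Finset.mem_range.mpr (Nat.mod_lt _ hp.pos), ?_⟩
      rw [show σ ^ ((i + (p - 1)) % p) = σ ^ (i + (p - 1)) by
        conv_rhs => rw [← Nat.mod_add_div (i + (p - 1)) p, pow_add, pow_mul, hσ, one_pow, mul_one],
        add_comm, pow_add, Equiv.Perm.mul_apply, hi, ← Equiv.Perm.mul_apply, ← pow_succ,
        Nat.sub_add_cancel hp.one_le, hσ]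
      rfl
    rw [← Finset.sum_sdiff hos, Finset.sum_image hinj]
    refine Sub.add_mem (ih _ ?_ (s \ o) hso (fun b hb => h b (Finset.mem_sdiff.mp hb).1) rfl)
      (h a ha)
    rw [← hn]
    exact Finset.card_lt_card (Finset.sdiff_ssubset hos (Finset.image_nonempty.mpr
      (Finset.nonempty_range_iff.mpr hp.ne_zero)))

section bound

variable (hM : IsPModular p M)
  {S : Finset (IrrCharacter G)} (hval : ∀ g, ∑ θ ∈ S, (θ : G → ℂ) g ∈ unr p M)
  {Y1 : ℕ} (hdeg : ∀ θ ∈ S, (θ : G → ℂ) 1 = Y1)
  (hreg : ∀ θ ∈ S, ∀ θ' ∈ S, ∀ g, ¬ p ∣ orderOf g → (θ : G → ℂ) g = (θ' : G → ℂ) g)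
  (hne : S.Nonempty)

include hM hval hdeg hreg hne

/-- The number of spectral values is bounded by the common degree. -/
theorem card_le_degree (hπ : π * π = π) (Λ : Finset (ResField M))
    {n : ℕ} (snf : Module.Basis.SmithNormalForm (lat π (famElt p M S)) G n)
    (a : MonoidAlgebra (unr p M) G)
    (hΛ : ∀ μ ∈ Λ, ∀ q : Polynomial (unr p M),
      (q.map (resU p M)).eval μ = 1 → ∃ x : lat π (famElt p M S),
        redPi (resU p M) (Fin n) (snf.bN.equivFun
          (opR π (famElt p M S) (commute_famElt hval) (Polynomial.aeval a q) x)) ≠ 0) :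
    Λ.card ≤ Y1 := by
  classical
  have := Fintype.ofFinite (IrrCharacter G)
  have hchar := charP_resField hM
  have : IsAlgClosed (ResField M) := isAlgClosed_resField
  obtain ⟨q, hid, horth, hq1⟩ := exists_spectral_idem hM.1 (unrToK p M G a) Λ
  set aL : MonoidAlgebra (locRing M) G := mapRingHom G (unrIncl p M) a with haL
  have htoK : ∀ b : MonoidAlgebra (unr p M) G,
      toK M (mapRingHom G (unrIncl p M) b) = unrToK p M G b := fun b =>
    ga_ext fun g => by rw [coeff_toK, coeff_unrToK]; simp [resU_apply]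
  obtain ⟨f, hf, hfo⟩ := exists_lift_orth aL q Λ (by rw [haL, htoK]; exact hid)
    (by rw [haL, htoK]; exact horth)
  have hNnat : ∀ μ ∈ Λ, ∀ θ : IrrCharacter G, ∃ N : ℕ, evalGA (θ : G → ℂ) (f μ) = N :=
    fun μ hμ θ => exists_evalGA_eq_natCast (hf μ hμ).1 θ
  have hpolyK : ∀ Q : Polynomial (unr p M), unrToK p M G (Polynomial.aeval a Q) =
      Polynomial.aeval (unrToK p M G a) (Q.map (resU p M)) := fun Q => by
    induction Q using Polynomial.induction_on' with
    | add r s hr hs => simp only [Polynomial.map_add, map_add, hr, hs]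
    | monomial i c =>
      rw [Polynomial.map_monomial, Polynomial.aeval_monomial, Polynomial.aeval_monomial,
        ← Algebra.smul_def, ← Algebra.smul_def, ← map_pow]
      refine ga_ext fun g => ?_
      simp only [coeff_unrToK, MonoidAlgebra.coeff_smul, Finsupp.smul_apply, smul_eq_mul, map_mul]
  obtain ⟨θ₀, hθ₀⟩ := hne
  have hpos : ∀ μ ∈ Λ, evalGA (θ₀ : G → ℂ) (f μ) ≠ 0 := by
    intro μ hμ h0
    have hall : ∀ θ ∈ S, evalGA (θ : G → ℂ) (f μ) = 0 := fun θ hθ => by
      have hd := evalGA_eq_zero_of_regular hM (hf μ hμ).1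
        (f := fun g => (θ : G → ℂ) g - (θ₀ : G → ℂ) g)
        (fun g h => by simp only [isClassFunction_irr θ g h, isClassFunction_irr θ₀ g h])
        (fun t ht => sub_eq_zero.mpr (hreg θ hθ θ₀ hθ₀ t ht))
      simp only [evalGA, mul_sub, Finset.sum_sub_distrib, sub_eq_zero] at hd
      rw [← h0]
      exact hd
    obtain ⟨Q, hQ⟩ := Polynomial.map_surjective (resU p M) (resU_surjective hM) (q μ)
    obtain ⟨x, hx⟩ := hΛ μ hμ Q (by rw [hQ]; exact hq1 μ hμ)
    apply hx
    obtain ⟨w, hw⟩ := mem_lat.mp x.2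
    set b := Polynomial.aeval a Q with hb
    let xt : G → lat π (famElt p M S) := fun t =>
      opR π (famElt p M S) (commute_famElt hval) (single t 1) x
    have hrel : ∀ v : G, ∑ t, ((f μ).coeff t : ℂ) *
        (((xt t : lat π (famElt p M S)) : MonoidAlgebra (unr p M) G).coeff v : ℂ) = 0 := fun v => by
      simp only [xt, coe_opR, ← hw]
      exact mul_famElt_eq_zero hval (hf μ hμ).1 hall (π * w) v
    have hcoef : ∀ t, resU p M (b.coeff t) = res M ((f μ).coeff t) := fun t => by
      have e1 : unrToK p M G b = toK M (f μ) := by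
        rw [(hf μ hμ).2, haL, htoK, hb, ← hQ, hpolyK]
      rw [← coeff_unrToK, e1, coeff_toK]
    funext i
    show resU p M (snf.bN.equivFun _ i) = 0
    have hsum : opR π (famElt p M S) (commute_famElt hval) b x = ∑ t, b.coeff t • xt t := by
      refine Subtype.ext ?_
      rw [Submodule.coe_sum]
      simp only [xt, Submodule.coe_smul, coe_opR]
      conv_lhs => rw [show b = ∑ t, b.coeff t • single t (1 : unr p M) from ga_ext fun t => by
        rw [coeff_sum_apply, Finset.sum_eq_single t] <;> simp +contextual]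
      rw [Finset.mul_sum]
      simp only [mul_smul_comm]
    rw [hsum, map_sum, Finset.sum_apply, map_sum]
    simp only [map_smul, Pi.smul_apply, smul_eq_mul, map_mul, hcoef, Module.Basis.equivFun_apply]
    rw [show (0 : ResField M) = res M (∑ t, (f μ).coeff t * unrIncl p M (snf.bN.repr (xt t) i)) from ?_,
      map_sum]
    · simp only [map_mul, resU_apply]
    · rw [show (∑ t, (f μ).coeff t * unrIncl p M (snf.bN.repr (xt t) i)) = 0 from Subtype.ext (by
        push_cast
        simp only [coe_unrIncl]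
        exact coord_sum_eq_zero snf Finset.univ (fun t => ((f μ).coeff t : ℂ)) xt hrel i), map_zero]
  set ftot := ∑ μ ∈ Λ, f μ with hftot
  have hidem : (1 - ftot) * (1 - ftot) = 1 - ftot := by
    have h : ftot * ftot = ftot := by
      conv_lhs => rw [hftot, Finset.sum_mul]
      refine Finset.sum_congr rfl fun μ hμ => ?_
      rw [Finset.mul_sum, Finset.sum_eq_single μ (fun ν hν hne' => hfo μ hμ ν hν (Ne.symm hne'))
        (fun h => absurd hμ h), (hf μ hμ).1]
    rw [mul_sub, mul_one, sub_mul, one_mul, h, sub_self, sub_zero]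
  obtain ⟨N0, hN0⟩ := exists_evalGA_eq_natCast hidem θ₀
  choose! N hN using fun μ hμ => hNnat μ hμ θ₀
  have hsum : evalGA (θ₀ : G → ℂ) (1 - ftot) = (Y1 : ℂ) - ∑ μ ∈ Λ, (N μ : ℂ) := by
    rw [← Finset.sum_congr rfl hN, ← hdeg θ₀ hθ₀]
    simp only [evalGA, hftot, MonoidAlgebra.coeff_sub, Finsupp.sub_apply, coeff_sum_apply]
    push_cast
    simp only [sub_mul, Finset.sum_sub_distrib, Finset.sum_mul]
    congr 1
    · rw [Finset.sum_eq_single 1] <;> simp +contextual [MonoidAlgebra.one_def, Finsupp.single_apply]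
    · rw [Finset.sum_comm]
  rw [hN0, eq_sub_iff_add_eq] at hsum
  have hle : ∑ μ ∈ Λ, N μ ≤ Y1 := by
    have : N0 + ∑ μ ∈ Λ, N μ = Y1 := by exact_mod_cast hsum
    omega
  refine le_trans ?_ hle
  rw [Finset.card_eq_sum_ones]
  refine Finset.sum_le_sum fun μ hμ => ?_
  rcases Nat.eq_zero_or_pos (N μ) with h | h
  · exact absurd (by rw [hN μ hμ, h, Nat.cast_zero]) (hpos μ hμ)
  · exact h

end bound

end CfsgLib.Block.Cyclic
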