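import Cfsg.Agent.Lib.Block.Cyclic.SignLattice
import Cfsg.Agent.Lib.Block.Cyclic.CoprimeChar
import Cfsg.Agent.Lib.Block.Transfer

/-!
# The central element of a family of characters, and the reduction of a sublattice

`famElt S = ∑ θ ∈ S, ∑ g, θ g⁻¹ g` over the unramified ring, for a family with values there;
`mul_famElt_eq_zero`: idempotents at which the family vanishes annihilate it;
`isRed_repr`, `coord_sum_eq_zero`: coordinates of a sublattice of the group algebra.
-/

open Finset MonoidAlgebra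
open scoped ComplexConjugate

set_option linter.unusedSectionVars false

namespace CfsgLib.Block.Cyclic

open Cfsg CfsgLib.Char

universe u

variable {p : ℕ} {M : Ideal AlgInt} [M.IsMaximal] {G : Type u} [Group G] [Fintype G] [DecidableEq G]

variable (p M) in
/-- The central element of a family. -/
noncomputable def famElt (S : Finset (IrrCharacter G)) : MonoidAlgebra (unr p M) G :=
  gaOfFun fun g => toUnr p M (∑ θ ∈ S, (θ : G → ℂ) g⁻¹)

variable {S : Finset (IrrCharacter G)} (hval : ∀ g, ∑ θ ∈ S, (θ : G → ℂ) g ∈ unr p M)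
include hval

theorem coe_coeff_famElt (g : G) :
    (((famElt p M S).coeff g : unr p M) : ℂ) = ∑ θ ∈ S, (θ : G → ℂ) g⁻¹ := by
  rw [famElt, coeff_gaOfFun, coe_toUnr M (hval g⁻¹)]

theorem isClassElt_famElt : IsClassElt (famElt p M S) := fun g h => Subtype.ext (by
  rw [coe_coeff_famElt hval, coe_coeff_famElt hval]
  refine Finset.sum_congr rfl fun θ _ => ?_
  rw [show (h * g * h⁻¹)⁻¹ = h * g⁻¹ * h⁻¹ by group]
  exact isClassFunction_irr θ g⁻¹ h)

theorem commute_famElt (b : MonoidAlgebra (unr p M) G) : Commute (famElt p M S) b :=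
  IsClassElt.commute (isClassElt_famElt hval) b

theorem famElt_sq {Y1 : ℕ} (hdeg : ∀ θ ∈ S, (θ : G → ℂ) 1 = Y1) :
    (Y1 : unr p M) • (famElt p M S * famElt p M S) = (Fintype.card G : unr p M) • famElt p M S := by
  classical
  apply unrToC_injective
  have hc : IsClassElt (unrToC p M G (famElt p M S)) := (isClassElt_famElt hval).map _
  have hsmul : ∀ (c : unr p M) (a : MonoidAlgebra (unr p M) G),
      unrToC p M G (c • a) = (c : ℂ) • unrToC p M G a := fun c a => ga_ext fun g => by
    simp [coeff_unrToC]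
  rw [hsmul, hsmul, map_mul]
  push_cast
  have hom : ∀ ψ : IrrCharacter G, omega (ψ : G → ℂ) (unrToC p M G (famElt p M S)) =
      (Fintype.card G : ℂ) / (ψ : G → ℂ) 1 * (if ψ ∈ S then 1 else 0) := by
    intro ψ
    rw [omega, Finset.sum_congr rfl fun g _ => by
      rw [coeff_unrToC, coe_coeff_famElt hval, Finset.sum_mul], Finset.sum_comm, div_mul_eq_mul_div]
    congr 1
    rw [Finset.sum_congr rfl (g := fun θ => (Fintype.card G : ℂ) * if ψ = θ then 1 else 0) fun θ _ => ?_]
    · rw [← Finset.mul_sum, Finset.sum_ite_eq]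
    · rw [← classInner_irr, classInner, Nat.card_eq_fintype_card, ← mul_assoc,
        mul_inv_cancel₀ (Nat.cast_ne_zero.mpr Fintype.card_ne_zero), one_mul]
      exact Finset.sum_congr rfl fun g _ => by rw [irr_inv]; ring
  refine classElt_ext (fun g h => ?_) (fun g h => ?_) fun ψ => ?_
  · simp only [MonoidAlgebra.coeff_smul, Finsupp.smul_apply, (hc.mul hc) g h]
  · simp only [MonoidAlgebra.coeff_smul, Finsupp.smul_apply, hc g h]
  rw [omega_smul, omega_smul, omega_mul ψ.2 hc hc, hom]
  split_ifs with h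
  · have h1 : (ψ : G → ℂ) 1 ≠ 0 := irr_one_ne_zero ψ
    rw [← hdeg ψ h]
    field_simp
  · ring

/-- The two-sided trace against the family element. -/
theorem biTrace_famElt (b : MonoidAlgebra (unr p M) G) :
    ((biTrace b (famElt p M S) : unr p M) : ℂ) =
      (Fintype.card G : ℂ) * ∑ s, (b.coeff s : ℂ) * ∑ θ ∈ S, (θ : G → ℂ) s := by
  rw [biTrace_eq]
  push_cast
  rw [Finset.sum_congr rfl (g := fun _ => ∑ s, (b.coeff s : ℂ) * ∑ θ ∈ S, (θ : G → ℂ) s) fun v _ => ?_,
    Finset.sum_const, Finset.card_univ, nsmul_eq_mul]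
  refine Finset.sum_congr rfl fun s _ => ?_
  rw [coe_coeff_famElt hval, show (v⁻¹ * s⁻¹ * v)⁻¹ = v⁻¹ * s * v⁻¹⁻¹ by group]
  exact congrArg _ (Finset.sum_congr rfl fun θ _ => isClassFunction_irr θ s v⁻¹)

omit hval in
/-- An idempotent with value zero at an irreducible character acts as zero. -/
theorem evalGA_mul_eq_zero {c : MonoidAlgebra (locRing M) G} (hc : c * c = c) (η : IrrCharacter G)
    (h0 : evalGA (η : G → ℂ) c = 0) (w : G) :
    ∑ t, (c.coeff t : ℂ) * (η : G → ℂ) (t * w) = 0 := by
  classical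
  obtain ⟨m, ρ, -, hη⟩ := η.2
  set f := ∑ t, (c.coeff t : ℂ) • ρ t with hf
  have hfz : f = ρ.asAlgebraHom (toC M c) := by
    rw [Representation.asAlgebraHom_def, MonoidAlgebra.lift_apply,
      Finsupp.sum_fintype _ _ (fun g => by simp), hf]
    exact Finset.sum_congr rfl fun t _ => by rw [coeff_toC]
  have hff : f * f = f := by rw [hfz, ← map_mul, ← map_mul, hc]
  have hproj : LinearMap.IsProj (LinearMap.range f) f :=
    ⟨fun v => ⟨v, rfl⟩, fun v ⟨w, hw⟩ => by rw [← hw]; exact LinearMap.congr_fun hff w⟩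
  have htr : LinearMap.trace ℂ (Fin m → ℂ) f = 0 := by
    rw [hf, map_sum, ← h0, evalGA]
    exact Finset.sum_congr rfl fun t _ => by rw [map_smul, smul_eq_mul, ← hη]; rfl
  rw [hproj.trace, Nat.cast_eq_zero, Submodule.finrank_eq_zero, LinearMap.range_eq_bot] at htr
  calc ∑ t, (c.coeff t : ℂ) * (η : G → ℂ) (t * w) = LinearMap.trace ℂ _ (f * ρ w) := by
        rw [hf, Finset.sum_mul, map_sum]
        refine Finset.sum_congr rfl fun t _ => ?_
        rw [smul_mul_assoc, map_smul, smul_eq_mul, ← map_mul, ← hη]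
        rfl
    _ = 0 := by rw [htr, zero_mul, map_zero]

/-- An idempotent at which all members vanish annihilates multiples of the family element. -/
theorem mul_famElt_eq_zero {c : MonoidAlgebra (locRing M) G} (hc : c * c = c)
    (h0 : ∀ θ ∈ S, evalGA (θ : G → ℂ) c = 0) (u : MonoidAlgebra (unr p M) G) (v : G) :
    ∑ t, (c.coeff t : ℂ) * (((u * famElt p M S) * single t 1).coeff v : ℂ) = 0 := by
  classical
  simp only [mul_assoc u, coeff_mul_sum u]
  push_cast
  simp only [coeff_mul_single', mul_one, coe_coeff_famElt hval, Finset.mul_sum]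
  rw [Finset.sum_comm]
  refine Finset.sum_eq_zero fun h _ => ?_
  rw [Finset.sum_comm]
  refine Finset.sum_eq_zero fun θ hθ => ?_
  have e := evalGA_mul_eq_zero hc θ (h0 θ hθ) (h⁻¹ * v)⁻¹
  rw [← mul_zero ((u.coeff h : unr p M) : ℂ), ← e, Finset.mul_sum]
  refine Finset.sum_congr rfl fun t _ => ?_
  rw [show (h⁻¹ * v * t⁻¹)⁻¹ = t * (h⁻¹ * v)⁻¹ by group]
  ring

omit hval

section repr

variable {k : Type*} [Field k] {O : Type*} [CommRing O] [IsDomain O] [IsPrincipalIdealRing O] [CharZero O]
  {res : O →+* k}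

/-- Reduction in coordinates. -/
theorem isRed_repr {L : Type*} [AddCommGroup L] [Module O L] {ι : Type*} [Fintype ι]
    [RingHomSurjective res] (hp : p.Prime) (hker : ∀ a : O, res a = 0 ↔ (p : O) ∣ a)
    (b : Module.Basis ι O L) :
    IsRed p res ((redPi res ι).comp b.equivFun.toLinearMap) := by
  have h := isRed_redPi hp hker (res := res) ι
  refine ⟨hp, hker, h.surj.comp b.equivFun.surjective, fun x => (h.ker _).trans ?_⟩
  constructor
  · rintro ⟨y, hy⟩
    exact ⟨b.equivFun.symm y, b.equivFun.injective (by rw [map_smul, LinearEquiv.apply_symm_apply]; exact hy)⟩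
  · rintro ⟨y, rfl⟩
    exact ⟨b.equivFun y, by simp⟩

end repr

/-- Complex relations between members of a sublattice hold for its coordinates. -/
theorem coord_sum_eq_zero {N : Submodule (unr p M) (MonoidAlgebra (unr p M) G)} {n : ℕ}
    (snf : Module.Basis.SmithNormalForm N G n) {ι : Type*} (s : Finset ι) (e : ι → ℂ) (x : ι → N)
    (h : ∀ v : G, ∑ t ∈ s, e t * (((x t : N) : MonoidAlgebra (unr p M) G).coeff v : ℂ) = 0)
    (i : Fin n) : ∑ t ∈ s, e t * ((snf.bN.repr (x t) i : unr p M) : ℂ) = 0 := by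
  classical
  have ha : snf.a i ≠ 0 := fun h0 => snf.bN.ne_zero i (Subtype.ext (by rw [snf.snf, h0, zero_smul]; rfl))
  have key : ∀ y : N, snf.a i * snf.bN.repr y i =
      ∑ v : G, (y : MonoidAlgebra (unr p M) G).coeff v * snf.bM.coord (snf.f i) (single v 1) := by
    intro y
    have h1 := LinearMap.congr_fun (snf.coord_apply_embedding_eq_smul_coord (i := i)) y
    simp only [LinearMap.comp_apply, Submodule.coe_subtype, LinearMap.smul_apply, smul_eq_mul,
      Module.Basis.coord_apply] at h1
    rw [← h1]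
    have hu : (y : MonoidAlgebra (unr p M) G) =
        ∑ v, (y : MonoidAlgebra (unr p M) G).coeff v • single v (1 : unr p M) := ga_ext fun t => by
      rw [coeff_sum_apply, Finset.sum_eq_single t] <;> simp +contextual
    conv_lhs => rw [hu, map_sum, Finsupp.finsetSum_apply]
    refine Finset.sum_congr rfl fun v _ => ?_
    rw [map_smul, Finsupp.smul_apply, smul_eq_mul, Module.Basis.coord_apply]
  refine (mul_eq_zero.mp ?_).resolve_left (fun h0 : ((snf.a i : unr p M) : ℂ) = 0 =>
    ha (Subtype.ext h0))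
  rw [Finset.mul_sum]
  calc ∑ t ∈ s, ((snf.a i : unr p M) : ℂ) * (e t * ((snf.bN.repr (x t) i : unr p M) : ℂ))
      = ∑ t ∈ s, ∑ v : G, e t * (((x t : N) : MonoidAlgebra (unr p M) G).coeff v : ℂ) *
          ((snf.bM.coord (snf.f i) (single v 1) : unr p M) : ℂ) := by
        refine Finset.sum_congr rfl fun t _ => ?_
        rw [mul_left_comm, ← Subring.coe_mul, key]
        push_cast
        rw [Finset.mul_sum]
        exact Finset.sum_congr rfl fun v _ => by ring
    _ = 0 := by
        rw [Finset.sum_comm]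
        refine Finset.sum_eq_zero fun v _ => ?_
        rw [← Finset.sum_mul, h v, zero_mul]

end CfsgLib.Block.Cyclic
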