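import Cfsg.Agent.Lib.Block.Cyclic.CoprimeModule
import Cfsg.Agent.Lib.Block.GroupAlg
import Mathlib.LinearAlgebra.FreeModule.PID
import Mathlib.GroupTheory.GroupAction.Quotient

/-!
# The lattice `π · A · z` and its operators

`π` is an idempotent, `z` a central element of the group algebra `A`.  Left multiplication by
`g` compressed by `π`, and right multiplication, act on the lattice; sums of compressed
endomorphisms over the cosets of a subgroup are right multiplications.
-/

open Finset MonoidAlgebra

set_option linter.unusedSectionVars false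

namespace CfsgLib.Block.Cyclic

universe u v

variable {O : Type u} [CommRing O] [IsDomain O] [IsPrincipalIdealRing O]
  {G : Type v} [Group G] [Fintype G] [DecidableEq G]

variable (π z : MonoidAlgebra O G)

/-- The map `u ↦ π u z`. -/
noncomputable def latMap : MonoidAlgebra O G →ₗ[O] MonoidAlgebra O G :=
  LinearMap.mulLeft O π ∘ₗ LinearMap.mulRight O z

/-- The lattice `π A z`. -/
noncomputable def lat : Submodule O (MonoidAlgebra O G) := LinearMap.range (latMap π z)

variable {π z}

theorem latMap_apply (u : MonoidAlgebra O G) : latMap π z u = π * u * z :=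
  (mul_assoc π u z).symm

theorem mem_lat {x : MonoidAlgebra O G} : x ∈ lat π z ↔ ∃ u, π * u * z = x := by
  simp only [lat, LinearMap.mem_range, latMap_apply]

theorem latMap_mem (u : MonoidAlgebra O G) : π * u * z ∈ lat π z := mem_lat.mpr ⟨u, rfl⟩

theorem pi_mul_of_mem (hπ : π * π = π) {x : MonoidAlgebra O G} (hx : x ∈ lat π z) : π * x = x := by
  obtain ⟨u, rfl⟩ := mem_lat.mp hx
  rw [← mul_assoc, ← mul_assoc, hπ]

variable (π z) in
/-- The element `π u z`, in the lattice. -/
noncomputable def latElt : MonoidAlgebra O G →ₗ[O] lat π z :=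
  LinearMap.rangeRestrict (latMap π z)

theorem coe_latElt (u : MonoidAlgebra O G) :
    ((latElt π z u : lat π z) : MonoidAlgebra O G) = π * u * z := latMap_apply u

theorem latElt_surjective : Function.Surjective (latElt π z) :=
  LinearMap.surjective_rangeRestrict _

variable (π z) in
/-- Compressed left multiplication. -/
noncomputable def opA (b : MonoidAlgebra O G) : Module.End O (lat π z) :=
  ((LinearMap.mulLeft O (π * b)) ∘ₗ (lat π z).subtype).codRestrict (lat π z) fun x => by
    obtain ⟨u, hu⟩ := mem_lat.mp x.2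
    show π * b * (x : MonoidAlgebra O G) ∈ _
    rw [← hu, show π * b * (π * u * z) = π * (b * (π * u)) * z by simp only [mul_assoc]]
    exact latMap_mem _

theorem coe_opA (b : MonoidAlgebra O G) (x : lat π z) :
    ((opA π z b x : lat π z) : MonoidAlgebra O G) = π * b * x := rfl

theorem opA_mul_left (hπ : π * π = π) {a : MonoidAlgebra O G} (ha : Commute π a)
    (b : MonoidAlgebra O G) : opA π z a * opA π z b = opA π z (a * b) :=
  LinearMap.ext fun x => Subtype.ext (by
    rw [Module.End.mul_apply, coe_opA, coe_opA, coe_opA]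
    rw [show π * a * (π * b * (x : MonoidAlgebra O G)) = π * (a * π) * b * x by simp only [mul_assoc],
      ← ha.eq, ← mul_assoc π π a, hπ]
    simp only [mul_assoc])

theorem opA_mul_right (hπ : π * π = π) {b : MonoidAlgebra O G} (hb : Commute π b)
    (a : MonoidAlgebra O G) : opA π z a * opA π z b = opA π z (a * b) :=
  LinearMap.ext fun x => Subtype.ext (by
    rw [Module.End.mul_apply, coe_opA, coe_opA, coe_opA]
    rw [hb.eq, mul_assoc b, pi_mul_of_mem hπ x.2]
    simp only [mul_assoc])

theorem opA_one (hπ : π * π = π) : opA π z 1 = 1 :=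
  LinearMap.ext fun x => Subtype.ext (by
    rw [coe_opA, mul_one, pi_mul_of_mem hπ x.2, Module.End.one_apply])

theorem opA_eq_zero {b : MonoidAlgebra O G} (hπ : π * π = π) (hb : π * b * π = 0) :
    opA π z b = 0 :=
  LinearMap.ext fun x => Subtype.ext (by
    rw [coe_opA, ← pi_mul_of_mem hπ x.2, ← mul_assoc, hb, zero_mul]
    rfl)

theorem opA_latElt (b u : MonoidAlgebra O G) :
    opA π z b (latElt π z u) = latElt π z (b * π * u) :=
  Subtype.ext (by
    rw [coe_opA, coe_latElt, coe_latElt]
    simp only [mul_assoc])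

variable (π z) in
/-- Right multiplication. -/
noncomputable def opR (hz : ∀ b, Commute z b) (b : MonoidAlgebra O G) :
    Module.End O (lat π z) :=
  ((LinearMap.mulRight O b) ∘ₗ (lat π z).subtype).codRestrict (lat π z) fun x => by
    obtain ⟨u, hu⟩ := mem_lat.mp x.2
    show (x : MonoidAlgebra O G) * b ∈ _
    rw [← hu, mul_assoc, (hz b).eq, ← mul_assoc, mul_assoc π u b]
    exact latMap_mem _

theorem coe_opR (hz : ∀ b, Commute z b) (b : MonoidAlgebra O G) (x : lat π z) :
    ((opR π z hz b x : lat π z) : MonoidAlgebra O G) = x * b := rfl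

theorem opR_mul (hz : ∀ b, Commute z b) (a b : MonoidAlgebra O G) :
    opR π z hz b * opR π z hz a = opR π z hz (a * b) :=
  LinearMap.ext fun x => Subtype.ext (by
    rw [Module.End.mul_apply, coe_opR, coe_opR, coe_opR, mul_assoc])

theorem opR_one (hz : ∀ b, Commute z b) : opR π z hz 1 = 1 :=
  LinearMap.ext fun x => Subtype.ext (by rw [coe_opR, mul_one]; rfl)

theorem opR_add (hz : ∀ b, Commute z b) (a b : MonoidAlgebra O G) :
    opR π z hz (a + b) = opR π z hz a + opR π z hz b :=
  LinearMap.ext fun x => Subtype.ext (mul_add _ _ _)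

theorem opR_smul (hz : ∀ b, Commute z b) (c : O) (b : MonoidAlgebra O G) :
    opR π z hz (c • b) = c • opR π z hz b :=
  LinearMap.ext fun x => Subtype.ext (mul_smul_comm _ _ _)

theorem opR_zero (hz : ∀ b, Commute z b) : opR π z hz 0 = 0 :=
  LinearMap.ext fun x => Subtype.ext (mul_zero _)

/-- The trace of a compressed left multiplication. -/
theorem trace_opA (hπ : π * π = π) (hz : ∀ b, Commute z b) {Y1 n : O}
    (hzz : Y1 • (z * z) = n • z) {b : MonoidAlgebra O G} (hb : Commute π b) :
    n * LinearMap.trace O (lat π z) (opA π z b) = Y1 * biTrace (π * b) z := by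
  classical
  have : Module.Finite O (lat π z) := Module.Finite.range (latMap π z)
  let q : MonoidAlgebra O G →ₗ[O] lat π z := (opA π z b) ∘ₗ latElt π z
  have h1 : Y1 • (q ∘ₗ (lat π z).subtype) = n • opA π z b := by
    refine LinearMap.ext fun x => Subtype.ext ?_
    simp only [q, LinearMap.smul_apply, LinearMap.comp_apply, Submodule.coe_smul, coe_opA,
      coe_latElt, Submodule.coe_subtype]
    rw [pi_mul_of_mem hπ x.2, ← mul_assoc, ← smul_mul_assoc]
    obtain ⟨u, hu⟩ := mem_lat.mp x.2
    rw [← hu, smul_mul_assoc, show π * b * (π * u * z) * z = π * b * π * u * (z * z) by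
      simp only [mul_assoc], ← mul_smul_comm, hzz, mul_smul_comm]
    simp only [mul_assoc]
  have h2 : LinearMap.trace O (MonoidAlgebra O G) ((lat π z).subtype ∘ₗ q) = biTrace (π * b) z := by
    rw [LinearMap.trace_eq_matrix_trace O (MonoidAlgebra.basis G O), Matrix.trace, biTrace]
    refine Finset.sum_congr rfl fun v _ => ?_
    rw [Matrix.diag_apply, LinearMap.toMatrix_apply]
    simp only [q, LinearMap.comp_apply, Submodule.coe_subtype, coe_opA, coe_latElt,
      MonoidAlgebra.basis_apply]
    rw [show π * b * (π * single v 1 * z) = π * (b * π) * single v 1 * z by simp only [mul_assoc],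
      ← hb.eq, ← mul_assoc π π b, hπ]
    rfl
  have h3 := congrArg (LinearMap.trace O (lat π z)) h1
  rw [map_smul, map_smul, smul_eq_mul, smul_eq_mul, ← LinearMap.trace_comp_comm' q, h2] at h3
  exact h3.symm

variable (π z) in
/-- The term of a coset in the averaged endomorphism. -/
noncomputable def cosetTerm (F : Module.End O (lat π z)) (g : G) (u : MonoidAlgebra O G) :
    MonoidAlgebra O G :=
  single g 1 * ((F (latElt π z (single g⁻¹ 1 * u)) : lat π z) : MonoidAlgebra O G)

variable (P : Subgroup G)

theorem cosetTerm_mul (hπ : π * π = π) (hP : ∀ x ∈ P, Commute π (single x 1))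
    (F : Module.End O (lat π z)) (hF : ∀ x ∈ P, Commute F (opA π z (single x 1)))
    (g : G) {x : G} (hx : x ∈ P) (u : MonoidAlgebra O G) :
    cosetTerm π z F (g * x) u = cosetTerm π z F g u := by
  have hx' : x⁻¹ ∈ P := P.inv_mem hx
  have h1 : latElt π z (single (g * x)⁻¹ 1 * u) =
      opA π z (single x⁻¹ 1) (latElt π z (single g⁻¹ 1 * u)) := by
    refine Subtype.ext ?_
    have hs : single (g * x)⁻¹ (1 : O) = single x⁻¹ 1 * single g⁻¹ 1 := by
      rw [single_mul_single, mul_one, mul_inv_rev]
    rw [coe_opA, coe_latElt, coe_latElt, hs, (hP _ hx').eq,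
      show single x⁻¹ 1 * π * (π * (single g⁻¹ 1 * u) * z) =
        single x⁻¹ 1 * (π * π) * (single g⁻¹ 1 * u) * z by simp only [mul_assoc], hπ, ← (hP _ hx').eq]
    simp only [mul_assoc]
  rw [cosetTerm, cosetTerm, h1, ← Module.End.mul_apply, (hF _ hx').eq, Module.End.mul_apply,
    coe_opA, (hP _ hx').eq, mul_assoc (single x⁻¹ (1 : O)), pi_mul_of_mem hπ (Subtype.coe_prop _),
    ← mul_assoc, single_mul_single, mul_one, mul_inv_cancel_right]

/-- The averaged endomorphism is right multiplication by an element of the group algebra. -/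
theorem exists_opR_eq (hπ : π * π = π) (hz : ∀ b, Commute z b)
    (hP : ∀ x ∈ P, Commute π (single x 1)) [Fintype (G ⧸ P)]
    (F : Module.End O (lat π z)) (hF : ∀ x ∈ P, Commute F (opA π z (single x 1))) :
    ∃ a : MonoidAlgebra O G, opR π z hz a =
      ∑ q : G ⧸ P, opA π z (single q.out 1) * F * opA π z (single q.out⁻¹ 1) := by
  classical
  let H : MonoidAlgebra O G →ₗ[O] MonoidAlgebra O G :=
    ∑ q : G ⧸ P, LinearMap.mulLeft O (single q.out 1) ∘ₗ (lat π z).subtype ∘ₗ F ∘ₗ
      latElt π z ∘ₗ LinearMap.mulLeft O (single q.out⁻¹ 1)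
  have hH : ∀ u, H u = ∑ q : G ⧸ P, cosetTerm π z F q.out u := fun u => by
    simp [H, cosetTerm, LinearMap.sum_apply]
  have hrep : ∀ (g : G) u, cosetTerm π z F (g : G ⧸ P).out u = cosetTerm π z F g u := fun g u => by
    obtain ⟨h, hh⟩ := QuotientGroup.mk_out_eq_mul P g
    rw [hh]
    exact cosetTerm_mul P hπ hP F hF g h.2 u
  have hequiv : ∀ (t : G) (u : MonoidAlgebra O G), H (single t 1 * u) = single t 1 * H u := by
    intro t u
    rw [hH, hH, Finset.mul_sum]
    refine (Fintype.sum_bijective (fun q => t • q) (MulAction.bijective t) _ _ fun q => ?_).symm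
    conv_rhs => rw [← QuotientGroup.out_eq' q, MulAction.Quotient.smul_coe, hrep]
    simp only [cosetTerm, smul_eq_mul]
    rw [← mul_assoc (single t (1 : O)), single_mul_single, mul_one, ← mul_assoc (single (t * _)⁻¹ (1 : O)),
      single_mul_single, mul_one, mul_inv_rev, inv_mul_cancel_right]
  have hH1 : ∀ u, H u = u * H 1 := by
    intro u
    have hu : u = ∑ t, u.coeff t • single t (1 : O) := ga_ext fun t => by
      rw [coeff_sum_apply, Finset.sum_eq_single t] <;> simp +contextual
    conv_lhs => rw [hu, map_sum]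
    conv_rhs => rw [hu, Finset.sum_mul]
    refine Finset.sum_congr rfl fun t _ => ?_
    rw [map_smul, smul_mul_assoc, ← hequiv, mul_one]
  obtain ⟨a, ha⟩ : ∃ a, a * z = H 1 := by
    refine ⟨∑ q : G ⧸ P, single q.out 1 *
      (π * (Classical.choose (mem_lat.mp (F (latElt π z (single q.out⁻¹ 1 * 1))).2))), ?_⟩
    rw [hH, Finset.sum_mul]
    refine Finset.sum_congr rfl fun q _ => ?_
    rw [mul_assoc, Classical.choose_spec (mem_lat.mp (F (latElt π z (single q.out⁻¹ 1 * 1))).2)]
    rfl
  refine ⟨a, LinearMap.ext fun x => Subtype.ext ?_⟩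
  obtain ⟨w, rfl⟩ := latElt_surjective x
  rw [coe_opR, coe_latElt, mul_assoc, (hz a).eq, ha]
  have : π * w * H 1 = π * H (π * w) := by rw [hH1 (π * w), ← mul_assoc, ← mul_assoc, hπ]
  rw [this, hH, Finset.mul_sum,
    LinearMap.sum_apply, Submodule.coe_sum]
  refine Finset.sum_congr rfl fun q _ => ?_
  rw [Module.End.mul_apply, Module.End.mul_apply, coe_opA, opA_latElt, cosetTerm,
    mul_assoc π (single q.out (1 : O)), mul_assoc (single q.out⁻¹ (1 : O))]

end CfsgLib.Block.Cyclic
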