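import Cfsg.Agent.Lib.Block.Cyclic.SignQuot

/-!
# The sign bound

`SignData.abs_le_one`: the multiplicity of `φ` in the values of the family on `x * K` lies in
`{-1, 0, 1}`.
-/

open Finset MonoidAlgebra
open scoped ComplexConjugate

set_option linter.unusedSectionVars false

namespace CfsgLib.Block.Cyclic

open Cfsg CfsgLib.Char

universe u v

variable {p : ℕ} {M : Ideal AlgInt} [M.IsMaximal] {G : Type u} [Group G] [Fintype G] [DecidableEq G]
  {Γ : Type v} [Group Γ] [Fintype Γ] [DecidableEq Γ]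

namespace SignData

variable [IsPrincipalIdealRing (unr p M)] [RingHomSurjective (resU p M)] (D : SignData p M G Γ)

theorem conj_y_mem (γ : Γ) : (D.ι γ)⁻¹ * D.y * D.ι γ ∈ D.P := by
  have := (Subgroup.mem_normalizer_iff.mp (inv_mem (D.hιN γ)) D.y).mp D.hy
  simpa using this

theorem opA_ι_commute_normOp (γ : Γ) :
    Commute (opA D.piG (famElt p M D.S) (single (D.ι γ) 1)) (normOp p D.opY) := by
  classical
  have hp := D.hM.1
  have : Fact p.Prime := ⟨hp⟩
  have hπ := D.piG_idem
  have ho : orderOf D.y = p := orderOf_eq_prime D.y_pow D.hy1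
  have hsum : normOp p D.opY =
      ∑ u : D.P, opA D.piG (famElt p M D.S) (single (u : G) 1) := by
    rw [normOp]
    refine Finset.sum_bij (fun i _ => (⟨D.y ^ i, D.P.pow_mem D.hy i⟩ : D.P))
      (fun i _ => Finset.mem_univ _) (fun i hi j hj h => ?_) (fun u _ => ?_) (fun i _ => ?_)
    · exact pow_injOn_Iio_orderOf (by rw [ho]; exact Finset.mem_range.mp hi)
        (by rw [ho]; exact Finset.mem_range.mp hj) (congrArg Subtype.val h)
    · obtain ⟨i, hi, h⟩ := D.exists_pow_eq u.2
      exact ⟨i, Finset.mem_range.mpr hi, Subtype.ext h⟩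
    · exact D.opY_pow i
  show _ * _ = _ * _
  rw [hsum, Finset.mul_sum, Finset.sum_mul]
  have hmem : ∀ u : D.P, D.ι γ * (u : G) * (D.ι γ)⁻¹ ∈ D.P := fun u =>
    (Subgroup.mem_normalizer_iff.mp (D.hιN γ) _).mp u.2
  refine Fintype.sum_bijective (fun u : D.P => (⟨_, hmem u⟩ : D.P)) ?_ _ _ fun u => ?_
  · refine (Finite.injective_iff_bijective).mp fun u u' h => Subtype.ext ?_
    simpa using congrArg Subtype.val h
  · rw [opA_mul_left hπ (D.commute_piG_ι γ), opA_mul_left hπ (D.commute_piG_P (hmem u)),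
      single_mul_single, single_mul_single, inv_mul_cancel_right]

theorem opA_ι_mem_ker (γ : Γ) {x : D.latt} (hx : x ∈ LinearMap.ker (D.opY - (1 : Module.End (unr p M) D.latt))) :
    opA D.piG (famElt p M D.S) (single (D.ι γ) 1) x ∈ LinearMap.ker (D.opY - (1 : Module.End (unr p M) D.latt)) := by
  have hπ := D.piG_idem
  obtain ⟨j, -, hj⟩ := D.exists_pow_eq (D.conj_y_mem γ)
  have h : D.opY * opA D.piG (famElt p M D.S) (single (D.ι γ) 1) =
      opA D.piG (famElt p M D.S) (single (D.ι γ) 1) * D.opY ^ j := by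
    rw [opY, ← opY, opY_pow, hj, opY, opA_mul_left hπ (D.commute_piG_P D.hy),
      opA_mul_left hπ (D.commute_piG_ι γ), single_mul_single, single_mul_single]
    congr 2
    group
  rw [LinearMap.mem_ker, LinearMap.sub_apply, Module.End.one_apply, ← Module.End.mul_apply, h,
    Module.End.mul_apply, pow_apply_eq_self (apply_eq_self_of_mem_ker hx) j, sub_self]

theorem exists_conj_sub_one (γ : Γ) : ∃ R : Module.End (unr p M) D.latt,
    opA D.piG (famElt p M D.S) (single (D.ι γ) 1) * (D.opY - (1 : Module.End (unr p M) D.latt)) = (D.opY - (1 : Module.End (unr p M) D.latt)) * R := by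
  have hπ := D.piG_idem
  obtain ⟨j, -, hj⟩ := D.exists_pow_eq ((Subgroup.mem_normalizer_iff.mp (D.hιN γ) D.y).mp D.hy)
  refine ⟨(∑ i ∈ range j, D.opY ^ i) * opA D.piG (famElt p M D.S) (single (D.ι γ) 1), ?_⟩
  have h : opA D.piG (famElt p M D.S) (single (D.ι γ) 1) * D.opY =
      D.opY ^ j * opA D.piG (famElt p M D.S) (single (D.ι γ) 1) := by
    rw [opY_pow, hj, opY, opA_mul_left hπ (D.commute_piG_ι γ),
      opA_mul_left hπ (D.commute_piG_P ((Subgroup.mem_normalizer_iff.mp (D.hιN γ) D.y).mp D.hy)),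
      single_mul_single, single_mul_single, inv_mul_cancel_right]
  refine LinearMap.ext fun x => ?_
  have h1 := LinearMap.congr_fun h x
  have h2 := LinearMap.congr_fun (geom_sum_succ (x := D.opY) (n := j)) (opA D.piG (famElt p M D.S) (single (D.ι γ) 1) x)
  have h3 := LinearMap.congr_fun (geom_sum_succ' (x := D.opY) (n := j)) (opA D.piG (famElt p M D.S) (single (D.ι γ) 1) x)
  simp only [Module.End.mul_apply, Module.End.one_apply, LinearMap.sub_apply, LinearMap.add_apply,
    map_sub] at h1 h2 h3 ⊢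
  rw [h1, sub_eq_sub_iff_add_eq_add, ← h3, ← h2]

/-- The trace of `A_x`. -/
theorem trace_opA_P {c : ℤ} [hK : Fintype D.K]
    (hc : ∀ x ∈ D.P, x ≠ 1 → ∑ s : D.K, conj ((D.φ : D.K → ℂ) s) *
      ∑ θ ∈ D.S, (θ : G → ℂ) (x * D.ι s) = (Fintype.card D.K : ℂ) * c)
    {x : G} (hx : x ∈ D.P) (hx1 : x ≠ 1) :
    LinearMap.trace (unr p M) D.latt (opA D.piG (famElt p M D.S) (single x 1)) =
      (((D.Y1 : ℤ) * D.d * c : ℤ) : unr p M) := by
  classical
  have hKp : ¬ p ∣ Fintype.card D.K := fun h => D.hΓ (h.trans (by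
    rw [← Nat.card_eq_fintype_card, ← Nat.card_eq_fintype_card]
    exact D.K.card_subgroup_dvd_card))
  have h := trace_opA D.piG_idem (commute_famElt D.hval) (famElt_sq D.hval D.hdeg)
    (D.commute_piG_P hx)
  refine mul_left_cancel₀ (Nat.cast_ne_zero.mpr (Fintype.card_ne_zero (α := G))) (h.trans ?_)
  apply Subtype.ext
  push_cast
  rw [biTrace_famElt D.hval, D.piG_eq_sum, Finset.sum_mul]
  simp only [single_mul_single, mul_one, coeff_sum_apply]
  have hswap : ∑ g, ((∑ s : D.K, (single (D.ι s * x) ((idemU p M (D.φ : D.K → ℂ)).coeff s)).coeff g :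
      unr p M) : ℂ) * ∑ θ ∈ D.S, (θ : G → ℂ) g =
      ∑ s : D.K, ((idemU p M (D.φ : D.K → ℂ)).coeff s : ℂ) * ∑ θ ∈ D.S, (θ : G → ℂ) (D.ι s * x) := by
    push_cast
    simp only [Finset.sum_mul]
    rw [Finset.sum_comm]
    refine Finset.sum_congr rfl fun s _ => ?_
    rw [Finset.sum_eq_single (D.ι s * x)]
    · simp
    · intro g _ hg
      simp [Finsupp.single_eq_of_ne hg]
    · simp
  rw [hswap]
  have hK0 : (Fintype.card D.K : ℂ) ≠ 0 := Nat.cast_ne_zero.mpr Fintype.card_ne_zero
  rw [Finset.sum_congr rfl (g := fun s : D.K => (D.d : ℂ) / (Fintype.card D.K : ℂ) *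
      (conj ((D.φ : D.K → ℂ) s) * ∑ θ ∈ D.S, (θ : G → ℂ) (x * D.ι s))) fun s _ => ?_,
    ← Finset.mul_sum, hc x hx hx1]
  · field_simp
  · rw [← coeff_unrToC, coe_idemU D.hM hKp, charIdem, coeff_gaOfFun, D.hd, Nat.card_eq_fintype_card,
      Subgroup.mem_centralizer_iff.mp (D.hKC s) x hx]
    ring

/-- The sign bound. -/
theorem abs_le_one {c : ℤ} [hK : Fintype D.K]
    (hc : ∀ x ∈ D.P, x ≠ 1 → ∑ s : D.K, conj ((D.φ : D.K → ℂ) s) *
      ∑ θ ∈ D.S, (θ : G → ℂ) (x * D.ι s) = (Fintype.card D.K : ℂ) * c)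
    (hd0 : D.d ≠ 0) (hY0 : D.Y1 ≠ 0) : |c| ≤ 1 := by
  classical
  have hM := D.hM
  have hp := hM.1
  have : Fact p.Prime := ⟨hp⟩
  have hY := D.opY_pow_p
  obtain ⟨n, snf⟩ := D.latt.smithNormalForm (MonoidAlgebra.basis G (unr p M))
  have hβ := isRed_repr (L := D.latt) hp (resU_eq_zero_iff hM) snf.bN
  set β := (redPi (resU p M) (Fin n)).comp snf.bN.equivFun.toLinearMap with hβdef
  have : Module.Finite (unr p M) D.latt := Module.Finite.range (latMap D.piG (famElt p M D.S))
  have : Module.Free (unr p M) D.latt := Module.Free.of_basis snf.bN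
  set B0 := LinearMap.range (hβ.redEnd (normOp p D.opY)) with hB0
  set B1 := LinearMap.range (hβ.redEnd (D.opY - (1 : Module.End (unr p M) D.latt))) with hB1
  have h0 := D.finrank_quot_le snf hβ (fun x => rfl) (LinearMap.ker (D.opY - (1 : Module.End (unr p M) D.latt))) B0
    (by
      rintro _ ⟨v, rfl⟩
      obtain ⟨x, rfl⟩ := hβ.surj v
      exact ⟨normOp p D.opY x, by
        show (D.opY - (1 : Module.End (unr p M) D.latt)) (normOp p D.opY x) = 0
        rw [← Module.End.mul_apply, sub_one_mul_normOp hY]; rfl, (hβ.redEnd_apply _ _).symm⟩)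
    (fun γ x hx => D.opA_ι_mem_ker γ hx)
    (fun γ v hv => by
      obtain ⟨w, rfl⟩ := hv
      refine ⟨hβ.redEnd (opA D.piG (famElt p M D.S) (single (D.ι γ) 1)) w, ?_⟩
      rw [← Module.End.mul_apply, ← Module.End.mul_apply, ← hβ.redEnd_mul, ← hβ.redEnd_mul,
        (D.opA_ι_commute_normOp γ).eq])
    (fun F hF x hx => by
      rw [LinearMap.mem_ker] at hx ⊢
      rw [LinearMap.sub_apply, Module.End.one_apply] at hx ⊢
      rw [← Module.End.mul_apply, ← hF.eq, Module.End.mul_apply, ← map_sub, hx, map_zero])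
    (fun H x hx => orbit_sum_zero hβ hY H hx)
    (fun ψ hψ hψ0 => by
      obtain ⟨F, hF, h⟩ := exists_lift_zero hβ hY ψ hψ hψ0
      exact ⟨F, hF, fun x hx => by rw [h x hx, sub_self]; exact zero_mem _⟩)
  have h1 := D.finrank_quot_le snf hβ (fun x => rfl) (LinearMap.ker (normOp p D.opY)) B1
    (by
      rintro _ ⟨v, rfl⟩
      obtain ⟨x, rfl⟩ := hβ.surj v
      exact ⟨(D.opY - (1 : Module.End (unr p M) D.latt)) x, by
        show normOp p D.opY ((D.opY - (1 : Module.End (unr p M) D.latt)) x) = 0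
        rw [← Module.End.mul_apply, normOp_mul_sub_one hY]; rfl, (hβ.redEnd_apply _ _).symm⟩)
    (fun γ x hx => by
      rw [LinearMap.mem_ker] at hx ⊢
      rw [← Module.End.mul_apply, ← (D.opA_ι_commute_normOp γ).eq, Module.End.mul_apply, hx, map_zero])
    (fun γ v hv => by
      obtain ⟨w, rfl⟩ := hv
      obtain ⟨R, hR⟩ := D.exists_conj_sub_one γ
      refine ⟨hβ.redEnd R w, ?_⟩
      rw [← Module.End.mul_apply, ← Module.End.mul_apply, ← hβ.redEnd_mul, ← hβ.redEnd_mul, hR])
    (fun F hF x hx => by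
      have hc' : Commute (normOp p D.opY) F := Commute.sum_left _ _ _ fun i _ => (hF.pow_right i).symm
      rw [LinearMap.mem_ker] at hx ⊢
      rw [← Module.End.mul_apply, hc'.eq, Module.End.mul_apply, hx, map_zero])
    (fun H x hx => orbit_sum_one hβ hY H hx)
    (fun ψ hψ hψ0 => by
      obtain ⟨F, hF, h⟩ := exists_lift_one hβ hY ψ hψ hψ0
      refine ⟨-F, LinearMap.ext fun x => ?_, fun x hx => ?_⟩
      · simp only [Module.End.mul_apply, LinearMap.neg_apply, map_neg]
        rw [← Module.End.mul_apply, ← Module.End.mul_apply, hF.eq]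
      rw [LinearMap.neg_apply, map_neg, show -β (F x) - ψ (β x) = -(β (F x) + ψ (β x)) by abel]
      exact neg_mem (h x hx))
  have hb0 : Module.finrank (ResField M) B0 ≤
      Module.finrank (ResField M) ((LinearMap.ker (D.opY - (1 : Module.End (unr p M) D.latt))).map β) := by
    refine Submodule.finrank_mono ?_
    rintro _ ⟨v, rfl⟩
    obtain ⟨x, rfl⟩ := hβ.surj v
    exact ⟨normOp p D.opY x, by
      show (D.opY - (1 : Module.End (unr p M) D.latt)) (normOp p D.opY x) = 0
      rw [← Module.End.mul_apply, sub_one_mul_normOp hY]; rfl, (hβ.redEnd_apply _ _).symm⟩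
  have hb1 : Module.finrank (ResField M) B1 ≤
      Module.finrank (ResField M) ((LinearMap.ker (normOp p D.opY)).map β) := by
    refine Submodule.finrank_mono ?_
    rintro _ ⟨v, rfl⟩
    obtain ⟨x, rfl⟩ := hβ.surj v
    exact ⟨(D.opY - (1 : Module.End (unr p M) D.latt)) x, by
      show normOp p D.opY ((D.opY - (1 : Module.End (unr p M) D.latt)) x) = 0
      rw [← Module.End.mul_apply, normOp_mul_sub_one hY]; rfl, (hβ.redEnd_apply _ _).symm⟩
  have htr := finrank_tate_sub hβ hY (t := (((D.Y1 : ℤ) * D.d * c : ℤ) : unr p M)) fun i hi hip => by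
    rw [opY_pow]
    exact D.trace_opA_P hc (D.P.pow_mem D.hy i) fun h => by
      have ho : orderOf D.y = p := orderOf_eq_prime D.y_pow D.hy1
      have := Nat.le_of_dvd hi (orderOf_dvd_of_pow_eq_one h)
      omega
  have hkey := Int.cast_injective htr
  have hpos : (0 : ℤ) < (D.Y1 : ℤ) * D.d := by positivity
  have hb : |(D.Y1 : ℤ) * D.d * c| ≤ (D.Y1 : ℤ) * D.d := by
    rw [← hkey, abs_le]
    push_cast at *
    constructor <;> linarith [(by exact_mod_cast h0 :
      (Module.finrank (ResField M) ((LinearMap.ker (D.opY - (1 : Module.End (unr p M) D.latt))).map β) : ℤ) ≤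
        Module.finrank (ResField M) B0 + D.d * D.Y1),
      (by exact_mod_cast h1 :
      (Module.finrank (ResField M) ((LinearMap.ker (normOp p D.opY)).map β) : ℤ) ≤
        Module.finrank (ResField M) B1 + D.d * D.Y1),
      (Int.ofNat_le.mpr hb0), (Int.ofNat_le.mpr hb1)]
  rw [abs_mul, abs_of_pos hpos] at hb
  exact le_of_mul_le_mul_left (by rw [mul_one]; exact hb) hpos

end SignData

end CfsgLib.Block.Cyclic
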