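import Cfsg.Agent.Lib.Block.Cyclic.SignBound

/-!
# The bound on a Tate quotient of the lattice of a family

`finrank_quot_le`: a quotient `Z̄ / B` of the reduced lattice, stable under the normaliser part `Γ`,
trivial for `P` and killed by free orbit sums, has dimension at most `φ 1 · Y1`.
-/

open Finset MonoidAlgebra
open scoped ComplexConjugate

set_option linter.unusedSectionVars false

namespace CfsgLib.Block.Cyclic

open Cfsg CfsgLib.Char

universe u v

variable {p : ℕ} {M : Ideal AlgInt} [M.IsMaximal] {G : Type u} [Group G] [Fintype G] [DecidableEq G]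
  {Γ : Type v} [Group Γ] [Fintype Γ] [DecidableEq Γ]
  [IsPrincipalIdealRing (unr p M)] [RingHomSurjective (resU p M)]

/-- The data of a family with a character of a normaliser part. -/
structure SignData (p : ℕ) (M : Ideal AlgInt) [M.IsMaximal] (G : Type u) [Group G] [Fintype G]
    [DecidableEq G] (Γ : Type v) [Group Γ] [Fintype Γ] [DecidableEq Γ] where
  /-- the family -/
  S : Finset (IrrCharacter G)
  /-- its common degree -/
  Y1 : ℕ
  /-- the subgroup of order `p` -/
  P : Subgroup G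
  /-- a generator -/
  y : G
  /-- the normaliser part -/
  ι : Γ →* G
  /-- the normal subgroup -/
  K : Subgroup Γ
  /-- its character -/
  φ : IrrCharacter K
  /-- the degree of the character -/
  d : ℕ
  hM : IsPModular p M
  hval : ∀ g, ∑ θ ∈ S, (θ : G → ℂ) g ∈ unr p M
  hdeg : ∀ θ ∈ S, (θ : G → ℂ) 1 = Y1
  hreg : ∀ θ ∈ S, ∀ θ' ∈ S, ∀ g, ¬ p ∣ orderOf g → (θ : G → ℂ) g = (θ' : G → ℂ) g
  hne : S.Nonempty
  hPcard : Nat.card P = p
  hy : y ∈ P
  hy1 : y ≠ 1
  hΓ : ¬ p ∣ Fintype.card Γ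
  hι : Function.Injective ι
  hιN : ∀ γ, ι γ ∈ Subgroup.normalizer (P : Set G)
  hKn : K.Normal
  hcyc : IsCyclic (Γ ⧸ K)
  hinv : ∀ (g : Γ) (n : K), (φ : K → ℂ) ⟨g * n * g⁻¹, hKn.conj_mem (n : Γ) n.2 g⟩ = (φ : K → ℂ) n
  hKC : ∀ s : K, ι s ∈ Subgroup.centralizer (P : Set G)
  hd : (φ : K → ℂ) 1 = d
  hN : ∀ g ∈ Subgroup.normalizer (P : Set G), (∃ γ, ∃ x ∈ P, g = ι γ * x) ∨
    MonoidAlgebra.mapDomainRingHom (unr p M) ι
        (@idemUp Γ _ K (Fintype.ofFinite _) p M _ (φ : K → ℂ)) *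
      single g 1 *
      MonoidAlgebra.mapDomainRingHom (unr p M) ι
        (@idemUp Γ _ K (Fintype.ofFinite _) p M _ (φ : K → ℂ)) = 0

namespace SignData

variable (D : SignData p M G Γ)

/-- The idempotent in `Γ`. -/
noncomputable def piΓ : MonoidAlgebra (unr p M) Γ :=
  @idemUp Γ _ D.K (Fintype.ofFinite _) p M _ (D.φ : D.K → ℂ)

/-- The idempotent in `G`. -/
noncomputable def piG : MonoidAlgebra (unr p M) G :=
  MonoidAlgebra.mapDomainRingHom (unr p M) D.ι D.piΓ

/-- The lattice. -/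
noncomputable abbrev latt : Submodule (unr p M) (MonoidAlgebra (unr p M) G) :=
  lat D.piG (famElt p M D.S)

theorem piΓ_spec : D.piΓ * D.piΓ = D.piΓ ∧ ∀ γ : Γ, Commute (single γ 1) D.piΓ := by
  classical
  have := Fintype.ofFinite (IrrCharacter Γ)
  have := D.hKn
  let _ : Fintype D.K := Fintype.ofFinite _
  let _ : DecidableEq D.K := Classical.decEq _
  have hid := idemUp_eq_sum D.K D.hM D.hΓ D.hcyc D.φ D.hinv
  refine ⟨?_, fun γ => ?_⟩
  · show idemUp D.K p M (D.φ : D.K → ℂ) * idemUp D.K p M (D.φ : D.K → ℂ) = idemUp D.K p M _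
    rw [hid, Finset.sum_mul]
    refine Finset.sum_congr rfl fun ξ hξ => ?_
    rw [Finset.mul_sum, Finset.sum_eq_single ξ]
    · exact idemU_mul_self D.hM D.hΓ ξ
    · intro ψ _ hψ
      apply unrToC_injective
      rw [map_mul, map_zero, coe_idemU D.hM D.hΓ, coe_idemU D.hM D.hΓ]
      have hc := fun χ : IrrCharacter Γ => isClassElt_charIdem (isClassFunction_irr χ)
      refine classElt_ext ((hc ξ).mul (hc ψ)) (fun g h => by simp) fun χ => ?_
      rw [omega_mul χ.2 (hc ξ) (hc ψ), omega_charIdem, omega_charIdem]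
      simp only [omega, MonoidAlgebra.coeff_zero, Finsupp.coe_zero, Pi.zero_apply, zero_mul,
        Finset.sum_const_zero, zero_div]
      split_ifs with h1 h2 <;> simp
      exact hψ (h2.symm.trans h1)
    · exact fun h => absurd hξ h
  · show Commute _ (idemUp D.K p M (D.φ : D.K → ℂ))
    rw [hid]
    exact Commute.sum_right _ _ _ fun ξ _ => commute_idemU D.hM D.hΓ ξ γ

theorem piG_idem : D.piG * D.piG = D.piG := by rw [piG, ← map_mul, D.piΓ_spec.1]

theorem commute_piG_ι (γ : Γ) : Commute D.piG (single (D.ι γ) 1) := by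
  have h := (D.piΓ_spec.2 γ).symm.map (MonoidAlgebra.mapDomainRingHom (unr p M) D.ι)
  rw [piG]
  simpa [MonoidAlgebra.mapDomainRingHom_apply, MonoidAlgebra.mapDomain_single] using h

theorem piG_eq_sum [hK : Fintype D.K] : D.piG = ∑ s : D.K,
    single (D.ι s) ((idemU p M (D.φ : D.K → ℂ) (Γ := D.K)).coeff s) := by
  classical
  obtain rfl : hK = Fintype.ofFinite D.K := Subsingleton.elim _ _
  rw [piG, piΓ, idemUp, map_sum]
  refine Finset.sum_congr rfl fun s _ => ?_
  simp [MonoidAlgebra.mapDomainRingHom_apply, MonoidAlgebra.mapDomain_single]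

theorem commute_piG_P {x : G} (hx : x ∈ D.P) : Commute D.piG (single x 1) := by
  classical
  let _ : Fintype D.K := Fintype.ofFinite _
  rw [piG_eq_sum]
  refine Commute.sum_left _ _ _ fun s _ => ?_
  show _ * _ = _ * _
  rw [single_mul_single, single_mul_single, mul_one, one_mul,
    Subgroup.mem_centralizer_iff.mp (D.hKC s) x hx]

theorem y_pow : D.y ^ p = 1 := by
  have h : (⟨D.y, D.hy⟩ : D.P) ^ Nat.card D.P = 1 := pow_card_eq_one'
  rw [D.hPcard] at h
  exact congrArg Subtype.val h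

theorem exists_pow_eq {x : G} (hx : x ∈ D.P) : ∃ i < p, D.y ^ i = x := by
  have hp := D.hM.1
  have : Fact p.Prime := ⟨hp⟩
  have ho : orderOf D.y = p := orderOf_eq_prime D.y_pow D.hy1
  have hz : Subgroup.zpowers D.y = D.P := Subgroup.eq_of_le_of_card_ge
    (Subgroup.zpowers_le.mpr D.hy) (by rw [D.hPcard, Nat.card_zpowers, ho])
  obtain ⟨i, hi⟩ := (mem_powers_iff_mem_zpowers (x := D.y)).mpr (hz.symm ▸ hx)
  refine ⟨i % p, Nat.mod_lt _ hp.pos, Eq.trans ?_ hi⟩
  show D.y ^ (i % p) = D.y ^ i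
  conv_rhs => rw [← Nat.mod_add_div i p, pow_add, pow_mul, y_pow, one_pow, mul_one]

/-- The operator of the generator. -/
noncomputable def opY : Module.End (unr p M) D.latt := opA D.piG (famElt p M D.S) (single D.y 1)

theorem opY_pow (i : ℕ) :
    D.opY ^ i = opA D.piG (famElt p M D.S) (single (D.y ^ i) 1) :=
  opA_pow D.piG_idem (D.commute_piG_P D.hy) i

theorem opY_pow_p : D.opY ^ p = 1 := by
  rw [opY_pow, y_pow, ← MonoidAlgebra.one_def, opA_one D.piG_idem]

theorem commute_of_opY {F : Module.End (unr p M) D.latt} (hF : Commute F D.opY) {x : G}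
    (hx : x ∈ D.P) : Commute F (opA D.piG (famElt p M D.S) (single x 1)) := by
  obtain ⟨i, -, rfl⟩ := D.exists_pow_eq hx
  rw [← opY_pow]
  exact hF.pow_right i

/-- The compressed conjugate of `F`. -/
noncomputable def conjF (F : Module.End (unr p M) D.latt) (g : G) :
    Module.End (unr p M) D.latt :=
  opA D.piG (famElt p M D.S) (single g 1) * F * opA D.piG (famElt p M D.S) (single g⁻¹ 1)

theorem conjF_mul_right {F : Module.End (unr p M) D.latt} (hF : Commute F D.opY) (g : G) {x : G}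
    (hx : x ∈ D.P) : D.conjF F (g * x) = D.conjF F g := by
  have hπ := D.piG_idem
  have hx' : x⁻¹ ∈ D.P := D.P.inv_mem hx
  have h1 : opA D.piG (famElt p M D.S) (single (g * x) 1) =
      opA D.piG (famElt p M D.S) (single g 1) * opA D.piG (famElt p M D.S) (single x 1) := by
    rw [opA_mul_right hπ (D.commute_piG_P hx), single_mul_single, mul_one]
  have h2 : opA D.piG (famElt p M D.S) (single (g * x)⁻¹ 1) =
      opA D.piG (famElt p M D.S) (single x⁻¹ 1) * opA D.piG (famElt p M D.S) (single g⁻¹ 1) := by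
    rw [opA_mul_left hπ (D.commute_piG_P hx'), single_mul_single, mul_one, mul_inv_rev]
  have h3 : opA D.piG (famElt p M D.S) (single x 1) * F *
      opA D.piG (famElt p M D.S) (single x⁻¹ 1) = F := by
    rw [← (D.commute_of_opY hF hx).eq, mul_assoc, opA_mul_left hπ (D.commute_piG_P hx),
      single_mul_single, mul_one, mul_inv_cancel, ← MonoidAlgebra.one_def, opA_one hπ, mul_one]
  rw [conjF, conjF, h1, h2]
  rw [show ∀ a b c d : Module.End (unr p M) D.latt, a * b * F * (c * d) = a * (b * F * c) * d from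
    fun a b c d => by simp only [mul_assoc], h3]

theorem conjF_pow_left (F : Module.End (unr p M) D.latt) (g : G) {i : ℕ} (hi : i ≤ p) :
    D.conjF F (D.y ^ i * g) = D.opY ^ i * D.conjF F g * D.opY ^ (p - i) := by
  have hπ := D.piG_idem
  have hm : ∀ j : ℕ, D.y ^ j ∈ D.P := fun j => D.P.pow_mem D.hy j
  have hinv : (D.y ^ i)⁻¹ = D.y ^ (p - i) := inv_eq_of_mul_eq_one_right (by
    rw [← pow_add, Nat.add_sub_cancel' hi, y_pow])
  rw [conjF, conjF, opY_pow, opY_pow, mul_inv_rev, hinv]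
  have h1 : opA D.piG (famElt p M D.S) (single (D.y ^ i * g) 1) =
      opA D.piG (famElt p M D.S) (single (D.y ^ i) 1) * opA D.piG (famElt p M D.S) (single g 1) := by
    rw [opA_mul_left hπ (D.commute_piG_P (hm i)), single_mul_single, mul_one]
  have h2 : opA D.piG (famElt p M D.S) (single (g⁻¹ * D.y ^ (p - i)) 1) =
      opA D.piG (famElt p M D.S) (single g⁻¹ 1) *
        opA D.piG (famElt p M D.S) (single (D.y ^ (p - i)) 1) := by
    rw [opA_mul_right hπ (D.commute_piG_P (hm _)), single_mul_single, mul_one]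
  rw [h1, h2]
  simp only [mul_assoc]

/-- The averaged endomorphism on a class modulo `B`. -/
theorem sum_conjF_mem {F : Module.End (unr p M) D.latt} (hF : Commute F D.opY) [Fintype (G ⧸ D.P)]
    {V : Type*} [AddCommGroup V] [Module (ResField M) V] {β : D.latt →ₛₗ[resU p M] V}
    (B : Submodule (ResField M) V) (x : D.latt)
    (horb : ∀ H : Module.End (unr p M) D.latt,
      β ((∑ i ∈ range p, D.opY ^ i * H * D.opY ^ (p - i)) x) ∈ B) :
    β ((∑ q : G ⧸ D.P, D.conjF F q.out) x) - ∑ γ : Γ, β (D.conjF F (D.ι γ) x) ∈ B := by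
  classical
  have hp := D.hM.1
  have hπ := D.piG_idem
  have hterm : ∀ g : G, D.conjF F (g : G ⧸ D.P).out = D.conjF F g := fun g => by
    obtain ⟨h, hh⟩ := QuotientGroup.mk_out_eq_mul D.P g
    rw [hh]
    exact D.conjF_mul_right hF g h.2
  set σ : Equiv.Perm (G ⧸ D.P) := MulAction.toPermHom G (G ⧸ D.P) D.y with hσ
  have hσp : σ ^ p = 1 := by rw [hσ, ← map_pow, y_pow, map_one]
  have hσi : ∀ (i : ℕ) (g : G), (σ ^ i) (g : G ⧸ D.P) = ((D.y ^ i * g : G) : G ⧸ D.P) := fun i g => by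
    rw [hσ, ← map_pow]
    rfl
  let f : G ⧸ D.P → V := fun q => β (D.conjF F q.out x)
  have hf : ∀ g : G, f (g : G ⧸ D.P) = β (D.conjF F g x) := fun g => by
    show β (D.conjF F _ x) = _
    rw [hterm g]
  set mv := Finset.univ.filter (fun q : G ⧸ D.P => σ q ≠ q) with hmv
  set fx := Finset.univ.filter (fun q : G ⧸ D.P => ¬ σ q ≠ q) with hfx
  have hmoved : ∑ q ∈ mv, f q ∈ B := by
    refine sum_free_orbits hp σ hσp f B.toAddSubmonoid mv (fun q hq => ?_) fun q _ => ?_
    · have hq' := (Finset.mem_filter.mp hq).2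
      exact ⟨Finset.mem_filter.mpr ⟨Finset.mem_univ _, fun h => hq' (σ.injective h)⟩, hq'⟩
    · obtain ⟨g, rfl⟩ := QuotientGroup.mk_surjective q
      have e : ∑ i ∈ range p, f ((σ ^ i) (g : G ⧸ D.P)) =
          β ((∑ i ∈ range p, D.opY ^ i * D.conjF F g * D.opY ^ (p - i)) x) := by
        rw [LinearMap.sum_apply, map_sum]
        refine Finset.sum_congr rfl fun i hi => ?_
        rw [hσi, hf, D.conjF_pow_left F g (Finset.mem_range.mp hi).le]
      rw [e]
      exact horb _
  have hfix : ∑ q ∈ fx, f q = ∑ γ : Γ, β (D.conjF F (D.ι γ) x) := by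
    have hyg : ∀ g : G, σ (g : G ⧸ D.P) = g ↔ g⁻¹ * D.y * g ∈ D.P := fun g => by
      rw [← pow_one σ, hσi, pow_one, QuotientGroup.eq, mul_inv_rev]
      constructor
      · intro h
        have := D.P.inv_mem h
        simpa [mul_assoc] using this
      · intro h
        have := D.P.inv_mem h
        simpa [mul_assoc] using this
    have hinj : Function.Injective (fun γ : Γ => ((D.ι γ : G) : G ⧸ D.P)) := by
      intro γ γ' h
      have hm : D.ι (γ⁻¹ * γ') ∈ D.P := by
        rw [map_mul, map_inv]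
        exact QuotientGroup.eq.mp h
      have h1 : orderOf (D.ι (γ⁻¹ * γ')) ∣ p := by
        have := orderOf_dvd_natCard (⟨_, hm⟩ : D.P)
        rwa [D.hPcard, ← Subgroup.orderOf_coe] at this
      rw [orderOf_injective D.ι D.hι] at h1
      have h2 : orderOf (γ⁻¹ * γ') = 1 := ((Nat.dvd_prime hp).mp h1).resolve_right fun he =>
        D.hΓ (he ▸ orderOf_dvd_card)
      rw [orderOf_eq_one_iff, inv_mul_eq_one] at h2
      exact h2
    have hsub : Finset.univ.image (fun γ : Γ => ((D.ι γ : G) : G ⧸ D.P)) ⊆ fx := by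
      intro q hq
      obtain ⟨γ, -, rfl⟩ := Finset.mem_image.mp hq
      refine Finset.mem_filter.mpr ⟨Finset.mem_univ _, not_not.mpr ((hyg _).mpr ?_)⟩
      have := (Subgroup.mem_normalizer_iff.mp (inv_mem (D.hιN γ)) D.y).mp D.hy
      simpa using this
    rw [← Finset.sum_subset hsub, Finset.sum_image hinj.injOn]
    · exact Finset.sum_congr rfl fun γ _ => hf _
    · intro q hq hnot
      obtain ⟨g, rfl⟩ := QuotientGroup.mk_surjective q
      have hfix' := (hyg g).mp (not_not.mp (Finset.mem_filter.mp hq).2)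
      have hgN : g⁻¹ ∈ Subgroup.normalizer (D.P : Set G) := by
        refine Subgroup.mem_normalizer_fintype (S := (D.P : Set G)) fun n hn => ?_
        obtain ⟨i, -, rfl⟩ := D.exists_pow_eq hn
        rw [← conj_pow]
        simpa using D.P.pow_mem hfix' i
      rcases D.hN g (by simpa using inv_mem hgN) with ⟨γ, z, hz, rfl⟩ | h0
      · exfalso
        exact hnot (Finset.mem_image.mpr ⟨γ, Finset.mem_univ _, (QuotientGroup.mk_mul_of_mem _ hz).symm⟩)
      · rw [hf, conjF]
        rw [show opA D.piG (famElt p M D.S) (single g 1) = 0 from opA_eq_zero hπ h0, zero_mul,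
          zero_mul, LinearMap.zero_apply, map_zero]
  rw [LinearMap.sum_apply, map_sum, ← Finset.sum_filter_add_sum_filter_not Finset.univ
    (fun q : G ⧸ D.P => σ q ≠ q), ← hfix]
  show ∑ q ∈ mv, f q + ∑ q ∈ fx, f q - ∑ q ∈ fx, f q ∈ B
  rw [add_sub_cancel_right]
  exact hmoved

/-- The linear map `a ↦ A_{ι a}`. -/
theorem redEnd_opA_sum {V : Type*} [AddCommGroup V] [Module (ResField M) V]
    {β : D.latt →ₛₗ[resU p M] V} (hβ : IsRed p (resU p M) β) (a : MonoidAlgebra (unr p M) Γ)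
    (x : D.latt) :
    ∑ γ : Γ, resU p M (a.coeff γ) • hβ.redEnd (opA D.piG (famElt p M D.S) (single (D.ι γ) 1)) (β x) =
      β (opA D.piG (famElt p M D.S) (MonoidAlgebra.mapDomainRingHom (unr p M) D.ι a) x) := by
  induction a using MonoidAlgebra.induction_linear with
  | zero =>
    simp only [MonoidAlgebra.coeff_zero, Finsupp.coe_zero, Pi.zero_apply, map_zero, zero_smul,
      Finset.sum_const_zero]
    rw [show opA D.piG (famElt p M D.S) 0 = 0 from LinearMap.ext fun x => Subtype.ext (by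
      rw [coe_opA, mul_zero, zero_mul]; rfl), LinearMap.zero_apply, map_zero]
  | add a b ha hb =>
    simp only [MonoidAlgebra.coeff_add, Finsupp.add_apply, map_add, add_smul,
      Finset.sum_add_distrib, ha, hb, opA_add, LinearMap.add_apply]
  | single γ c =>
    rw [Finset.sum_eq_single γ]
    · simp only [MonoidAlgebra.coeff_single, Finsupp.single_eq_same, hβ.redEnd_apply,
        MonoidAlgebra.mapDomainRingHom_apply, MonoidAlgebra.mapDomain_single]
      rw [show single (D.ι γ) c = c • single (D.ι γ) (1 : unr p M) by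
          rw [MonoidAlgebra.smul_single, smul_eq_mul, mul_one],
        opA_smul, LinearMap.smul_apply, LinearMap.map_smulₛₗ]
    · intro δ _ hδ
      simp [Finsupp.single_eq_of_ne hδ]
    · simp

/-- The dimension bound on a Tate quotient. -/
theorem finrank_quot_le {n : ℕ} (snf : Module.Basis.SmithNormalForm D.latt G n)
    {β : D.latt →ₛₗ[resU p M] (Fin n → ResField M)} (hβ : IsRed p (resU p M) β)
    (hβdef : ∀ x, β x = redPi (resU p M) (Fin n) (snf.bN.equivFun x))
    (Z : Submodule (unr p M) D.latt) (B : Submodule (ResField M) (Fin n → ResField M))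
    (hBZ : B ≤ Z.map β)
    (hZA : ∀ γ, ∀ x ∈ Z, opA D.piG (famElt p M D.S) (single (D.ι γ) 1) x ∈ Z)
    (hBA : ∀ γ, ∀ v ∈ B, hβ.redEnd (opA D.piG (famElt p M D.S) (single (D.ι γ) 1)) v ∈ B)
    (hZF : ∀ F : Module.End (unr p M) D.latt, Commute F D.opY → ∀ x ∈ Z, F x ∈ Z)
    (horb : ∀ (H : Module.End (unr p M) D.latt), ∀ x ∈ Z,
      β ((∑ i ∈ range p, D.opY ^ i * H * D.opY ^ (p - i)) x) ∈ B)
    (hlift : ∀ ψ : Module.End (ResField M) (Fin n → ResField M), (∀ v, ψ v ∈ Z.map β) →
      (∀ v ∈ B, ψ v = 0) → ∃ F : Module.End (unr p M) D.latt, Commute F D.opY ∧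
        ∀ x ∈ Z, β (F x) - ψ (β x) ∈ B) :
    Module.finrank (ResField M) (Z.map β) ≤ Module.finrank (ResField M) B + D.d * D.Y1 := by
  classical
  have hπ := D.piG_idem
  have hp := D.hM.1
  have := D.hKn
  have hchar := charP_resField D.hM
  have hcardΓ : (Fintype.card Γ : ResField M) ≠ 0 := by
    rw [Ne, CharP.cast_eq_zero_iff (ResField M) p]
    exact D.hΓ
  let _ : Fintype D.K := Fintype.ofFinite _
  let _ : DecidableEq D.K := Classical.decEq _
  have : Fintype (G ⧸ D.P) := Fintype.ofFinite _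
  set Zb := Z.map β with hZb
  let Bs : Submodule (ResField M) Zb := B.comap Zb.subtype
  let A : Γ → Module.End (ResField M) (Fin n → ResField M) := fun γ =>
    hβ.redEnd (opA D.piG (famElt p M D.S) (single (D.ι γ) 1))
  have hAZ : ∀ γ, ∀ v ∈ Zb, A γ v ∈ Zb := by
    rintro γ _ ⟨x, hx, rfl⟩
    exact ⟨_, hZA γ x hx, (hβ.redEnd_apply _ x).symm⟩
  have hAmul : ∀ γ δ, A (γ * δ) = A γ * A δ := fun γ δ => by
    show hβ.redEnd _ = hβ.redEnd _ * hβ.redEnd _
    rw [← hβ.redEnd_mul, opA_mul_left hπ (D.commute_piG_ι γ), single_mul_single, mul_one, map_mul]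
  have hA1 : A 1 = 1 := by
    show hβ.redEnd _ = 1
    rw [map_one, ← MonoidAlgebra.one_def, opA_one hπ, hβ.redEnd_one]
  let ρ : Representation (ResField M) Γ (Zb ⧸ Bs) :=
    { toFun := fun γ => Bs.mapQ Bs ((A γ).restrict (hAZ γ)) (fun v hv => hBA γ _ hv)
      map_one' := LinearMap.ext fun w => by
        obtain ⟨v, rfl⟩ := Submodule.Quotient.mk_surjective _ w
        show Submodule.Quotient.mk _ = Submodule.Quotient.mk v
        exact congrArg _ (Subtype.ext (by rw [LinearMap.restrict_coe_apply, hA1]; rfl))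
      map_mul' := fun γ δ => LinearMap.ext fun w => by
        obtain ⟨v, rfl⟩ := Submodule.Quotient.mk_surjective _ w
        show Submodule.Quotient.mk _ = Submodule.Quotient.mk _
        exact congrArg _ (Subtype.ext (by
          simp only [LinearMap.restrict_coe_apply, hAmul, Module.End.mul_apply])) }
  let cl : Z → Zb ⧸ Bs := fun x =>
    Submodule.Quotient.mk (⟨β x, Submodule.mem_map_of_mem x.2⟩ : Zb)
  have hcl : ∀ x y : Z, β (x : D.latt) - β (y : D.latt) ∈ B → cl x = cl y := fun x y h =>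
    (Submodule.Quotient.eq Bs).mpr h
  have hclsurj : ∀ w, ∃ x, cl x = w := fun w => by
    obtain ⟨⟨_, x, hx, rfl⟩, rfl⟩ := Submodule.Quotient.mk_surjective _ w
    exact ⟨⟨x, hx⟩, rfl⟩
  have hρcl : ∀ γ (x : Z), ρ γ (cl x) = cl ⟨_, hZA γ x x.2⟩ := fun γ x => by
    refine congrArg (Submodule.Quotient.mk (p := Bs)) (Subtype.ext ?_)
    exact hβ.redEnd_apply _ _
  have hW : ρ.asAlgebraHom (unrToK p M Γ D.piΓ) = 1 := LinearMap.ext fun w => by
    obtain ⟨x, rfl⟩ := hclsurj w
    rw [Representation.asAlgebraHom_def, MonoidAlgebra.lift_apply,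
      Finsupp.sum_fintype _ _ (fun g => by simp), LinearMap.sum_apply, Module.End.one_apply]
    simp only [LinearMap.smul_apply, coeff_unrToK, hρcl, cl, ← Submodule.Quotient.mk_smul]
    rw [← Submodule.mkQ_apply, ← Finset.sum_congr rfl fun γ _ => Submodule.mkQ_apply Bs _,
      ← map_sum]
    refine congrArg _ (Subtype.ext ?_)
    rw [Submodule.coe_sum]
    simp only [Submodule.coe_smul, ← hβ.redEnd_apply]
    rw [D.redEnd_opA_sum hβ D.piΓ x, show MonoidAlgebra.mapDomainRingHom (unr p M) D.ι D.piΓ = D.piG from rfl,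
      opA_self hπ, Module.End.one_apply]
  obtain ⟨Φ, Λ, hΦ, hev, hdim⟩ := exists_spectral_of_cyclic D.K D.hM D.hΓ D.hcyc D.φ D.hinv ρ D.hd hW
  -- lift `Φ`
  obtain ⟨pr, hpr⟩ := Zb.subtype.exists_leftInverse_of_injective Zb.ker_subtype
  obtain ⟨sec, hsec⟩ := Bs.mkQ.exists_rightInverse_of_surjective Bs.range_mkQ
  let ψ : Module.End (ResField M) (Fin n → ResField M) :=
    Zb.subtype ∘ₗ sec ∘ₗ Φ ∘ₗ Bs.mkQ ∘ₗ pr
  have hpr' : ∀ v : Zb, pr (v : Fin n → ResField M) = v := fun v => LinearMap.congr_fun hpr v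
  have hψ0 : ∀ v ∈ B, ψ v = 0 := fun v hv => by
    have h1 : Bs.mkQ (pr v) = 0 := by
      have h2 := hpr' ⟨v, hBZ hv⟩
      simp only at h2
      rw [h2, Submodule.mkQ_apply, Submodule.Quotient.mk_eq_zero]
      exact hv
    show Zb.subtype (sec (Φ (Bs.mkQ (pr v)))) = 0
    rw [h1, map_zero, map_zero, map_zero]
  obtain ⟨F, hFY, hF⟩ := hlift ψ (fun v => (sec _).2) hψ0
  have hFΦ : ∀ x : Z, cl ⟨F x, hZF F hFY x x.2⟩ = Φ (cl x) := fun x => by
    have h1 := hF x x.2
    have h2 : ψ (β (x : D.latt)) = ((sec (Φ (cl x)) : Zb) : Fin n → ResField M) := by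
      show Zb.subtype (sec (Φ (Bs.mkQ (pr _)))) = _
      rw [show pr (β (x : D.latt)) = ⟨β x, Submodule.mem_map_of_mem x.2⟩ from
        hpr' ⟨β x, Submodule.mem_map_of_mem x.2⟩]
      rfl
    rw [h2] at h1
    have h3 : Bs.mkQ (sec (Φ (cl x))) = Φ (cl x) := LinearMap.congr_fun hsec _
    rw [← h3]
    exact (Submodule.Quotient.eq Bs).mpr h1
  obtain ⟨a, ha⟩ := exists_opR_eq D.P hπ (commute_famElt D.hval) (fun x hx => D.commute_piG_P hx) F
    (fun x hx => D.commute_of_opY hFY hx)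
  set R := opR D.piG (famElt p M D.S) (commute_famElt D.hval) a with hR
  have hRZ : ∀ x : Z, R x ∈ Z := fun x => hZF R (opR_comm_opA _ a _) x x.2
  have hclR : ∀ x : Z, cl ⟨R x, hRZ x⟩ = (Fintype.card Γ : ResField M) • Φ (cl x) := by
    intro x
    have hconj : ∀ γ, D.conjF F (D.ι γ) (x : D.latt) ∈ Z := fun γ => by
      rw [conjF, Module.End.mul_apply, Module.End.mul_apply, ← map_inv]
      exact hZA γ _ (hZF F hFY _ (hZA γ⁻¹ _ x.2))
    have h1 := D.sum_conjF_mem hFY B (x : D.latt) (fun H => horb H x x.2)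
    have h2 : ∑ q : G ⧸ D.P, D.conjF F q.out = R := ha.symm
    rw [h2, ← map_sum] at h1
    rw [hcl _ ⟨∑ γ, D.conjF F (D.ι γ) (x : D.latt), Z.sum_mem fun γ _ => hconj γ⟩ h1]
    have h3 : ∀ γ, cl ⟨_, hconj γ⟩ = Φ (cl x) := fun γ => by
      have e : (⟨_, hconj γ⟩ : Z) = ⟨_, hZA γ _ (hZF F hFY _ (hZA γ⁻¹ _ x.2))⟩ :=
        Subtype.ext (by simp [conjF])
      rw [e, ← hρcl γ ⟨_, hZF F hFY _ (hZA γ⁻¹ _ x.2)⟩, hFΦ ⟨_, hZA γ⁻¹ _ x.2⟩, ← hρcl γ⁻¹ x,
        ← Module.End.mul_apply, ← (hΦ γ).eq, Module.End.mul_apply, ← Module.End.mul_apply (ρ γ),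
        ← map_mul, mul_inv_cancel, map_one, Module.End.one_apply]
    rw [Nat.cast_smul_eq_nsmul, ← Finset.card_univ, ← Finset.sum_const,
      ← Finset.sum_congr rfl fun γ _ => h3 γ]
    show Bs.mkQ ⟨β _, _⟩ = ∑ γ, Bs.mkQ ⟨β _, _⟩
    rw [← map_sum]
    refine congrArg _ (Subtype.ext ?_)
    rw [Submodule.coe_sum]
    exact map_sum β _ _
  -- the spectral values
  set Λ' := Λ.image (fun l => (Fintype.card Γ : ResField M) * l) with hΛ'
  have hcard : Λ'.card = Λ.card :=
    Finset.card_image_of_injective _ (mul_right_injective₀ hcardΓ)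
  have hle : Λ'.card ≤ D.Y1 := by
    refine card_le_degree D.hM D.hval D.hdeg D.hreg D.hne hπ Λ' snf a fun μ hμ Q hQ => ?_
    obtain ⟨l, hl, rfl⟩ := Finset.mem_image.mp hμ
    obtain ⟨w, hw, hwl⟩ := hev l hl
    obtain ⟨x, rfl⟩ := hclsurj w
    have hpow : ∀ (i : ℕ), ∃ h : (R ^ i) (x : D.latt) ∈ Z,
        cl ⟨_, h⟩ = ((Fintype.card Γ : ResField M) * l) ^ i • cl x := by
      intro i
      induction i with
      | zero => exact ⟨by simpa using x.2, by simp⟩
      | succ i ih =>
        obtain ⟨h, hi⟩ := ih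
        refine ⟨by rw [pow_succ', Module.End.mul_apply]; exact hRZ ⟨_, h⟩, ?_⟩
        have e : cl ⟨(R ^ (i + 1)) (x : D.latt), by
            rw [pow_succ', Module.End.mul_apply]; exact hRZ ⟨_, h⟩⟩ = cl ⟨_, hRZ ⟨_, h⟩⟩ :=
          congrArg cl (Subtype.ext (LinearMap.congr_fun (pow_succ' R i) (x : D.latt)))
        rw [e, hclR, hi, map_smul, hwl, smul_smul, smul_smul, pow_succ]
        ring_nf
    have hpoly : ∀ Q : Polynomial (unr p M), ∃ h : Polynomial.aeval R Q (x : D.latt) ∈ Z,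
        cl ⟨_, h⟩ = (Q.map (resU p M)).eval ((Fintype.card Γ : ResField M) * l) • cl x := by
      intro Q
      induction Q using Polynomial.induction_on' with
      | add r s hr hs =>
        obtain ⟨hr1, hr2⟩ := hr
        obtain ⟨hs1, hs2⟩ := hs
        refine ⟨by rw [map_add]; exact Z.add_mem hr1 hs1, ?_⟩
        rw [Polynomial.map_add, Polynomial.eval_add, add_smul, ← hr2, ← hs2]
        refine congrArg (Submodule.Quotient.mk (p := Bs)) (Subtype.ext ?_)
        show β (Polynomial.aeval R (r + s) (x : D.latt)) =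
          β (Polynomial.aeval R r (x : D.latt)) + β (Polynomial.aeval R s (x : D.latt))
        rw [← map_add β, map_add (Polynomial.aeval R), LinearMap.add_apply]
      | monomial i c =>
        obtain ⟨h, hi⟩ := hpow i
        have e : Polynomial.aeval R (Polynomial.monomial i c) = c • R ^ i := by
          rw [Polynomial.aeval_monomial, ← Algebra.smul_def]
        refine ⟨by rw [e]; exact Z.smul_mem _ h, ?_⟩
        rw [Polynomial.map_monomial, Polynomial.eval_monomial, mul_smul, ← hi]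
        refine congrArg (Submodule.Quotient.mk (p := Bs)) (Subtype.ext ?_)
        show β (Polynomial.aeval R (Polynomial.monomial i c) (x : D.latt)) =
          resU p M c • β ((R ^ i) (x : D.latt))
        rw [e, LinearMap.smul_apply, LinearMap.map_smulₛₗ]
    obtain ⟨h, hh⟩ := hpoly Q
    refine ⟨x, fun h0 => hw ?_⟩
    rw [hQ, one_smul] at hh
    rw [← hh]
    refine (Submodule.Quotient.mk_eq_zero Bs).mpr ?_
    rw [← opR_aeval, ← hβdef] at h0
    show β _ ∈ B
    rw [h0]
    exact B.zero_mem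
  have hq := Submodule.finrank_quotient_add_finrank Bs
  have hBs : Module.finrank (ResField M) Bs = Module.finrank (ResField M) B :=
    (Submodule.comapSubtypeEquivOfLe hBZ).finrank_eq
  have hΛY : D.d * Λ.card ≤ D.d * D.Y1 := Nat.mul_le_mul_left _ (hcard ▸ hle)
  omega

end SignData

end CfsgLib.Block.Cyclic
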