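import Cfsg.Agent.Lib.Block.Cyclic.SylowVectors

/-!
# Fourier transform of the sections

`mult χ j` is the natural multiplicity of `ψ_j × φ` in `χ`, `vec χ j = mult χ j - mult χ 0`.
-/

open Finset
open scoped ComplexConjugate

set_option linter.unusedSectionVars false

namespace CfsgLib.Block.Cyclic

open Cfsg CfsgLib.Char

universe u

/-- A primitive additive character modulo `p`. -/
noncomputable def stdPsi (p : ℕ) [NeZero p] : AddChar (ZMod p) ℂ :=
  AddChar.zmodChar p ((IsPrimitiveRoot.iff_def _ p).mp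
    (Complex.isPrimitiveRoot_exp p (NeZero.ne p))).1

theorem stdPsi_primitive (p : ℕ) [NeZero p] : (stdPsi p).IsPrimitive :=
  AddChar.zmodChar_primitive_of_primitive_root p (Complex.isPrimitiveRoot_exp p (NeZero.ne p))

theorem stdPsi_pow (p : ℕ) [NeZero p] (a : ZMod p) : stdPsi p a ^ p = 1 := by
  rw [← AddChar.map_nsmul_eq_pow, show p • a = 0 by rw [nsmul_eq_mul, ZMod.natCast_self, zero_mul],
    AddChar.map_zero_eq_one]

theorem conj_stdPsi (p : ℕ) [NeZero p] (a : ZMod p) : conj (stdPsi p a) = stdPsi p (-a) := by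
  rw [conj_eq_inv_of_pow_eq_one (NeZero.ne p) (stdPsi_pow p a), AddChar.map_neg_eq_inv]

theorem sum_stdPsi_mul {p : ℕ} [Fact p.Prime] (b : ZMod p) :
    ∑ i : ZMod p, stdPsi p (i * b) = if b = 0 then (p : ℂ) else 0 := by
  rw [AddChar.sum_mulShift b (stdPsi_primitive p), ZMod.card]
  split_ifs <;> simp

namespace CycSetup

variable {p : ℕ} [Fact p.Prime] {G : Type u} [Group G] [Fintype G] [DecidableEq G]
  (D : CycSetup p G) [Fintype D.K]

/-- The map from `ZMod p × K`. -/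
noncomputable def prodHom : Multiplicative (ZMod p) × D.K →* G where
  toFun q := D.xp q.1.toAdd * (q.2 : G)
  map_one' := by simp [D.xp_zero]
  map_mul' a b := by
    show D.xp (a.1.toAdd + b.1.toAdd) * ((a.2 * b.2 : D.K) : G) = _
    rw [D.xp_add, Subgroup.coe_mul]
    simp only [mul_assoc]
    rw [← mul_assoc (D.xp b.1.toAdd) (a.2 : G), (commute_K D.hQ D.hK (D.xp_mem _) a.2).eq, mul_assoc]

/-- The `j`-th linear character of `ZMod p`. -/
noncomputable def linChar (j : ZMod p) : Multiplicative (ZMod p) →* ℂˣ :=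
  MonoidHom.toHomUnits (AddChar.toMonoidHom (AddChar.mulShift (stdPsi p) j))

theorem coe_linChar (j : ZMod p) (i : Multiplicative (ZMod p)) :
    (linChar j i : ℂ) = stdPsi p (j * i.toAdd) := rfl

/-- The multiplicity of `ψ_j × φ`. -/
noncomputable def mult (χ : G → ℂ) (j : ZMod p) : ℂ :=
  (p : ℂ)⁻¹ * ∑ i : ZMod p, stdPsi p (-(i * j)) * D.dval χ i

theorem mult_nat {χ : G → ℂ} (hχ : IsCharacter G χ) (j : ZMod p) :
    ∃ m : ℕ, D.mult χ j = m := by
  classical
  obtain ⟨m, hm⟩ := classInner_char_irr_nat (isCharacter_comp hχ D.prodHom)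
    (⟨_, isIrrCharacter_prod ⟨_, isIrrCharacter_lin (linChar j)⟩ D.φ⟩ :
      IrrCharacter (Multiplicative (ZMod p) × D.K))
  refine ⟨m, ?_⟩
  rw [← hm]
  simp only [classInner, mult, dval, secMult, Nat.card_prod, Nat.cast_mul, mul_inv,
    Fintype.sum_prod_type, Nat.card_eq_fintype_card (α := Multiplicative (ZMod p))]
  rw [Fintype.card_multiplicative, ZMod.card, mul_assoc]
  congr 1
  rw [Finset.mul_sum]
  refine Fintype.sum_equiv Multiplicative.ofAdd _ _ fun i => ?_
  rw [mul_left_comm]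
  congr 1
  rw [Finset.mul_sum]
  refine Finset.sum_congr rfl fun y _ => ?_
  simp only [coe_linChar, map_mul, conj_stdPsi, toAdd_ofAdd, mul_comm j i, prodHom,
    MonoidHom.coe_mk, OneHom.coe_mk]
  ring

/-- The inversion formula. -/
theorem dval_eq_sum_mult (χ : G → ℂ) (i : ZMod p) :
    D.dval χ i = ∑ j : ZMod p, stdPsi p (i * j) * D.mult χ j := by
  simp only [mult, Finset.mul_sum]
  rw [Finset.sum_comm]
  have h : ∀ k : ZMod p, ∑ j : ZMod p, stdPsi p (i * j) *
      ((p : ℂ)⁻¹ * (stdPsi p (-(k * j)) * D.dval χ k)) =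
      (p : ℂ)⁻¹ * (if i = k then (p : ℂ) else 0) * D.dval χ k := by
    intro k
    rw [Finset.sum_congr rfl (g := fun j => (p : ℂ)⁻¹ * D.dval χ k * stdPsi p (j * (i - k))) fun j _ => by
      rw [show j * (i - k) = i * j + -(k * j) by ring, AddChar.map_add_eq_mul]; ring,
      ← Finset.mul_sum, sum_stdPsi_mul]
    simp only [sub_eq_zero]
    ring
  rw [Finset.sum_congr rfl fun k _ => h k, Finset.sum_eq_single i]
  · rw [if_pos rfl, inv_mul_cancel₀ (Nat.cast_ne_zero.mpr (Fact.out : p.Prime).ne_zero), one_mul]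
  · intro k _ hk
    rw [if_neg (Ne.symm hk), mul_zero, zero_mul]
  · simp

theorem mult_smul_expE {χ : G → ℂ} (hχ : IsClassFunction G χ) {r : (ZMod p)ˣ} (hr : r ∈ D.expE)
    (j : ZMod p) : D.mult χ ((r : ZMod p) * j) = D.mult χ j := by
  simp only [mult]
  congr 1
  refine Fintype.sum_equiv (Equiv.mulLeft₀ (r : ZMod p) r.ne_zero) _ _ fun i => ?_
  rw [Equiv.mulLeft₀_apply, D.dval_smul_expE hχ hr]
  congr 2
  ring

/-- The natural multiplicity. -/
noncomputable def multN (χ : IrrCharacter G) (j : ZMod p) : ℕ :=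
  (D.mult_nat (isCharacter_irr χ) j).choose

theorem mult_eq (χ : IrrCharacter G) (j : ZMod p) : D.mult (χ : G → ℂ) j = D.multN χ j :=
  (D.mult_nat (isCharacter_irr χ) j).choose_spec

/-- The difference of two multiplicities. -/
noncomputable def vec (χ : IrrCharacter G) (j : ZMod p) : ℤ := (D.multN χ j : ℤ) - D.multN χ 0

theorem coe_vec (χ : IrrCharacter G) (j : ZMod p) :
    (D.vec χ j : ℂ) = (p : ℂ)⁻¹ * ∑ i : ZMod p, (stdPsi p (-(i * j)) - 1) * D.dval (χ : G → ℂ) i := by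
  rw [vec]
  push_cast
  rw [← D.mult_eq, ← D.mult_eq, mult, mult, ← mul_sub, ← Finset.sum_sub_distrib]
  congr 1
  refine Finset.sum_congr rfl fun i _ => ?_
  rw [mul_zero, neg_zero, AddChar.map_zero_eq_one]
  ring

theorem vec_zero (χ : IrrCharacter G) : D.vec χ 0 = 0 := by rw [vec, sub_self]

theorem vec_smul_expE (χ : IrrCharacter G) {r : (ZMod p)ˣ} (hr : r ∈ D.expE) (j : ZMod p) :
    D.vec χ ((r : ZMod p) * j) = D.vec χ j := by
  rw [vec, vec]
  congr 2
  exact_mod_cast (D.mult_eq χ _).symm.trans ((D.mult_smul_expE (isClassFunction_irr χ) hr j).trans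
    (D.mult_eq χ j))

theorem dval_eq_sum_vec (χ : IrrCharacter G) {i : ZMod p} (hi : i ≠ 0) :
    D.dval (χ : G → ℂ) i = ∑ j : ZMod p, stdPsi p (i * j) * (D.vec χ j : ℂ) := by
  rw [D.dval_eq_sum_mult]
  have h : ∑ j : ZMod p, stdPsi p (i * j) = 0 := by
    rw [Finset.sum_congr rfl fun j _ => by rw [mul_comm i j], sum_stdPsi_mul, if_neg hi]
  conv_rhs =>
    rw [Finset.sum_congr rfl (g := fun j => stdPsi p (i * j) * D.mult (χ : G → ℂ) j -
      stdPsi p (i * j) * D.mult (χ : G → ℂ) 0) fun j _ => by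
        rw [vec, D.mult_eq, D.mult_eq]; push_cast; ring]
    rw [Finset.sum_sub_distrib, ← Finset.sum_mul, h, zero_mul, sub_zero]

theorem sum_vec_regular [Fintype (IrrCharacter G)] (j : ZMod p) {g : G} (hg : ¬ p ∣ orderOf g) :
    ∑ χ : IrrCharacter G, (D.vec χ j : ℂ) * (χ : G → ℂ) g = 0 := by
  simp only [coe_vec, Finset.mul_sum, Finset.sum_mul]
  rw [Finset.sum_comm]
  refine Finset.sum_eq_zero fun i _ => ?_
  by_cases hi : i = 0
  · subst hi
    simp [AddChar.map_zero_eq_one]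
  · rw [Finset.sum_congr rfl (g := fun χ : IrrCharacter G => (p : ℂ)⁻¹ * (stdPsi p (-(i * j)) - 1) *
      (D.dval (χ : G → ℂ) i * conj ((χ : G → ℂ) g⁻¹))) fun χ _ => by
        rw [irr_inv, Complex.conj_conj]; ring,
      ← Finset.mul_sum]
    refine mul_eq_zero_of_right _ ?_
    exact sum_secMult_regular D.hQ D.hK (D.xp_mem i) (D.xp_ne_one hi) _ (by rwa [orderOf_inv])

/-- The inner products of the vectors. -/
theorem sum_vec_mul_vec [Fintype (IrrCharacter G)] {j k : ZMod p} (hj : j ≠ 0) (hk : k ≠ 0)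
    [Decidable (∃ r ∈ D.expE, ((r : (ZMod p)ˣ) : ZMod p) * k = j)] :
    ∑ χ : IrrCharacter G, D.vec χ j * D.vec χ k =
      (Nat.card D.expE : ℤ) + if ∃ r ∈ D.expE, ((r : (ZMod p)ˣ) : ZMod p) * k = j then 1 else 0 := by
  classical
  let _ : Fintype D.expE := Fintype.ofFinite _
  have hp0 : (p : ℂ) ≠ 0 := Nat.cast_ne_zero.mpr (Fact.out : p.Prime).ne_zero
  apply Int.cast_injective (α := ℂ)
  push_cast
  have hconj : ∀ χ : IrrCharacter G, (D.vec χ k : ℂ) =
      (p : ℂ)⁻¹ * ∑ i : ZMod p, (stdPsi p (i * k) - 1) * conj (D.dval (χ : G → ℂ) i) := by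
    intro χ
    rw [← map_intCast (starRingEnd ℂ), coe_vec, map_mul, map_inv₀, map_natCast, map_sum]
    congr 1
    refine Finset.sum_congr rfl fun i _ => ?_
    rw [map_mul, map_sub, map_one, conj_stdPsi, neg_neg]
  rw [Finset.sum_congr rfl (g := fun χ : IrrCharacter G => ∑ i : ZMod p, ∑ i' : ZMod p,
    ((p : ℂ)⁻¹ * (stdPsi p (-(i * j)) - 1)) * ((p : ℂ)⁻¹ * (stdPsi p (i' * k) - 1)) *
      (D.dval (χ : G → ℂ) i * conj (D.dval (χ : G → ℂ) i'))) fun χ _ => by
    rw [coe_vec, hconj, Finset.mul_sum, Finset.mul_sum, Finset.sum_mul_sum]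
    exact Finset.sum_congr rfl fun i _ => Finset.sum_congr rfl fun i' _ => by ring,
    Finset.sum_comm]
  have hinner : ∀ i : ZMod p, ∑ χ : IrrCharacter G, ∑ i' : ZMod p,
      ((p : ℂ)⁻¹ * (stdPsi p (-(i * j)) - 1)) * ((p : ℂ)⁻¹ * (stdPsi p (i' * k) - 1)) *
        (D.dval (χ : G → ℂ) i * conj (D.dval (χ : G → ℂ) i')) =
      ∑ r : D.expE, ((p : ℂ)⁻¹ * (stdPsi p (-(i * j)) - 1)) *
        (stdPsi p (((r : (ZMod p)ˣ) : ZMod p) * i * k) - 1) := by
    intro i
    by_cases hi : i = 0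
    · subst hi
      simp [AddChar.map_zero_eq_one]
    rw [Finset.sum_comm]
    rw [← Finset.sum_subset (Finset.subset_univ (Finset.univ.image
      fun r : D.expE => ((r : (ZMod p)ˣ) : ZMod p) * i))
      (fun i' _ hi' => by
        rw [← Finset.mul_sum]
        by_cases h0 : i' = 0
        · subst h0
          simp [AddChar.map_zero_eq_one]
        · rw [D.sum_dval_mul hi h0, if_neg, mul_zero]
          rintro ⟨r, hr, rfl⟩
          exact hi' (Finset.mem_image.mpr ⟨⟨r, hr⟩, Finset.mem_univ _, rfl⟩)),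
      Finset.sum_image (fun a _ b _ h => Subtype.ext (Units.ext (mul_right_cancel₀ hi h)))]
    refine Finset.sum_congr rfl fun r _ => ?_
    rw [← Finset.mul_sum, D.sum_dval_mul hi (mul_ne_zero (Units.ne_zero _) hi), if_pos ⟨r, r.2, rfl⟩]
    field_simp
  rw [Finset.sum_congr rfl fun i _ => hinner i, Finset.sum_comm]
  have hr : ∀ r : D.expE, ∑ i : ZMod p, ((p : ℂ)⁻¹ * (stdPsi p (-(i * j)) - 1)) *
      (stdPsi p (((r : (ZMod p)ˣ) : ZMod p) * i * k) - 1) =
      (if ((r : (ZMod p)ˣ) : ZMod p) * k = j then 1 else 0) + 1 := by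
    intro r
    set a := ((r : (ZMod p)ˣ) : ZMod p)
    rw [Finset.sum_congr rfl (g := fun i => (p : ℂ)⁻¹ * ((stdPsi p (i * (a * k - j)) -
      stdPsi p (i * -j)) - (stdPsi p (i * (a * k)) - stdPsi p (i * 0)))) fun i _ => by
      rw [show i * (a * k - j) = -(i * j) + a * i * k by ring, AddChar.map_add_eq_mul,
        show i * -j = -(i * j) by ring, show i * (a * k) = a * i * k by ring, mul_zero,
        AddChar.map_zero_eq_one]
      ring,
      ← Finset.mul_sum]
    simp only [Finset.sum_sub_distrib, sum_stdPsi_mul, sub_eq_zero, neg_eq_zero, if_neg hj,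
      if_neg (mul_ne_zero (Units.ne_zero _) hk : a * k ≠ 0), if_pos]
    split_ifs <;> field_simp <;> ring
  rw [Finset.sum_congr rfl fun r _ => hr r, Finset.sum_add_distrib, Finset.sum_const,
    Finset.card_univ, nsmul_one, ← Nat.card_eq_fintype_card, add_comm]
  congr 1
  by_cases h : ∃ r ∈ D.expE, ((r : (ZMod p)ˣ) : ZMod p) * k = j
  · rw [if_pos h]
    obtain ⟨r, hr', hrk⟩ := h
    rw [Finset.sum_eq_single ⟨r, hr'⟩]
    · rw [if_pos hrk]
    · intro s _ hs
      rw [if_neg fun hs' => hs (Subtype.ext (Units.ext (mul_right_cancel₀ hk (hs'.trans hrk.symm))))]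
    · simp
  · rw [if_neg h]
    exact Finset.sum_eq_zero fun r _ => if_neg fun hr' => h ⟨r, r.2, hr'⟩

end CycSetup

end CfsgLib.Block.Cyclic
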