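import Cfsg.Agent.Lib.Block.Cyclic.SylowFamily
import Cfsg.Agent.Lib.Block.Cyclic.SylowMult
import Cfsg.Agent.Lib.Block.CoprimeKernel
import Cfsg.Agent.Lib.Block.CyclicPairs

/-!
# The blocks of the centraliser of a Sylow subgroup of order `p`

`infl φ'` is the inflation of `φ'` to `C_G(Q) = Q × K`; the blocks of `C_G(Q)` are
`inflBlock φ' = blockOf (infl φ')`, and a character outside the block induced by `inflBlock φ'` has
no `φ'` in its sections.
-/

open Finset
open scoped ComplexConjugate

set_option linter.unusedSectionVars false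

namespace CfsgLib.Block.Cyclic

open Cfsg CfsgLib.Char

universe u

/-- The inner product is transported by isomorphisms. -/
theorem classInner_comp_equiv {A B : Type u} [Group A] [Group B] [Fintype A] [Fintype B]
    (e : A ≃* B) (f g : B → ℂ) :
    classInner (fun a => f (e a)) (fun a => g (e a)) = classInner f g := by
  simp only [classInner, Nat.card_congr e.toEquiv]
  congr 1
  exact Fintype.sum_equiv e.toEquiv _ _ fun _ => rfl

namespace CycSetup

variable {p : ℕ} [Fact p.Prime] {G : Type u} [Group G] [Fintype G] [DecidableEq G]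
  (D : CycSetup p G) [Fintype D.K] [Fintype (Subgroup.centralizer (D.Q : Set G))]

/-- The centraliser. -/
abbrev C : Subgroup G := Subgroup.centralizer (D.Q : Set G)

theorem K_le_C : D.K ≤ D.C := fun y hy => ((D.hK y).mp hy).1

theorem Q_le_C : D.Q ≤ D.C := fun a ha => by
  obtain ⟨i, rfl⟩ := D.exists_xp_eq ha
  refine (mem_centralizer_iff_commute D.hQ D.hx D.hx1 _).mpr ?_
  exact (Commute.refl D.x).pow_left _

theorem exists_decomp (c : D.C) : ∃ q : ZMod p × D.K, (c : G) = D.xp q.1 * (q.2 : G) := by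
  have hp : p.Prime := Fact.out
  obtain ⟨a, b, hab, hcomm, ⟨j, hj⟩, hb⟩ := exists_isPPart hp (c : G)
  have hC : ∀ t, t ∈ D.C ↔ Commute t D.x := mem_centralizer_iff_commute D.hQ D.hx D.hx1
  have hcx : Commute (c : G) D.x := (hC c).mp c.2
  have hax : Commute D.x a := by
    have h1 : D.x * a * D.x⁻¹ = a := isPPart_unique hp
      (by
        have := isPPart_conj (g := (c : G)) (x := a) ⟨b, hab, hcomm, ⟨j, hj⟩, hb⟩ D.x
        rwa [← hcx.eq, mul_inv_cancel_right] at this)
      ⟨b, hab, hcomm, ⟨j, hj⟩, hb⟩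
    exact mul_inv_eq_iff_eq_mul.mp h1
  have hbx : Commute b D.x := by
    rw [show b = a⁻¹ * (c : G) by rw [← hab, inv_mul_cancel_left]]
    exact hax.symm.inv_left.mul_left hcx
  have haC : a ∈ D.C := (hC a).mpr hax.symm
  have haQ : a ∈ D.Q := by
    have hsup : IsPGroup p (D.Q ⊔ Subgroup.zpowers a : Subgroup G) :=
      IsPGroup.to_sup_of_normal_left' (IsPGroup.of_card (n := 1) (by rw [D.hQ, pow_one]))
        (IsPGroup.of_card (n := j) (by rw [Nat.card_zpowers, hj])) (by
          rw [Subgroup.zpowers_le]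
          refine Subgroup.mem_normalizer_iff.mpr fun u => ?_
          constructor
          · intro hu
            rw [← Subgroup.mem_centralizer_iff.mp haC u hu, mul_inv_cancel_right]
            exact hu
          · intro hu
            have h := Subgroup.mem_centralizer_iff.mp haC _ hu
            have : a * u * a⁻¹ = u := mul_left_cancel (a := a) (by rw [← h]; group)
            rwa [this] at hu)
    obtain ⟨i, hi⟩ := IsPGroup.iff_card.mp hsup
    have hi1 : i ≤ 1 := by
      by_contra hlt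
      exact D.hsq ((pow_dvd_pow p (show 2 ≤ i by omega)).trans
        (hi ▸ Subgroup.card_subgroup_dvd_card _))
    have heq : D.Q = D.Q ⊔ Subgroup.zpowers a := Subgroup.eq_of_le_of_card_ge le_sup_left (by
      rw [hi, D.hQ]
      exact (Nat.pow_le_pow_right hp.pos hi1).trans (pow_one p).le)
    rw [heq]
    exact Subgroup.mem_sup_right (Subgroup.mem_zpowers a)
  obtain ⟨i, hi⟩ := D.exists_xp_eq haQ
  exact ⟨(i, ⟨b, (D.hK b).mpr ⟨(hC b).mpr hbx, hb⟩⟩), by simp [hi, hab]⟩

theorem decomp_unique {q q' : ZMod p × D.K} (h : D.xp q.1 * (q.2 : G) = D.xp q'.1 * (q'.2 : G)) :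
    q = q' := by
  by_cases hi : q.1 = q'.1
  · rw [hi] at h
    exact Prod.ext hi (Subtype.ext (mul_left_cancel h))
  · exfalso
    have hmem : D.xp (q.1 - q'.1) ∈ D.K := by
      have : D.xp (q.1 - q'.1) = (q'.2 : G) * (q.2 : G)⁻¹ := by
        refine mul_left_cancel (a := D.xp q'.1) ?_
        rw [← D.xp_add, add_sub_cancel, ← mul_assoc, ← h, mul_inv_cancel_right]
      rw [this]
      exact D.K.mul_mem q'.2.2 (D.K.inv_mem q.2.2)
    refine ((D.hK _).mp hmem).2 ?_
    rw [orderOf_eq_p D.hQ (D.xp_mem _) (D.xp_ne_one (sub_ne_zero.mpr hi))]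

/-- The projection of the centraliser to its regular part. -/
noncomputable def proj : D.C →* D.K :=
  MonoidHom.mk' (fun c => (D.exists_decomp c).choose.2) fun a b => by
    obtain ⟨i, hi⟩ : ∃ q, (D.exists_decomp a).choose = q := ⟨_, rfl⟩
    obtain ⟨j, hj⟩ : ∃ q, (D.exists_decomp b).choose = q := ⟨_, rfl⟩
    have ha := (D.exists_decomp a).choose_spec
    have hb := (D.exists_decomp b).choose_spec
    rw [hi] at ha
    rw [hj] at hb
    simp only [hi, hj]
    refine congrArg Prod.snd (D.decomp_unique (q' := (i.1 + j.1, i.2 * j.2))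
      ((D.exists_decomp (a * b)).choose_spec.symm.trans ?_))
    calc ((a * b : D.C) : G) = D.xp i.1 * (i.2 : G) * (D.xp j.1 * (j.2 : G)) :=
          congrArg₂ (· * ·) ha hb
      _ = D.xp i.1 * ((i.2 : G) * D.xp j.1) * (j.2 : G) := by simp only [mul_assoc]
      _ = _ := by
          rw [← (commute_K D.hQ D.hK (D.xp_mem j.1) i.2).eq, D.xp_add, Subgroup.coe_mul]
          simp only [mul_assoc]

theorem exists_xp_mul_proj (c : D.C) : ∃ i, (c : G) = D.xp i * (D.proj c : G) :=
  ⟨_, (D.exists_decomp c).choose_spec⟩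

theorem proj_coe (y : D.K) : D.proj (Subgroup.inclusion D.K_le_C y) = y :=
  congrArg Prod.snd (D.decomp_unique (q' := (0, y))
    ((D.exists_decomp _).choose_spec.symm.trans (by rw [D.xp_zero, one_mul, Subgroup.coe_inclusion])))

theorem proj_surjective : Function.Surjective D.proj := fun y => ⟨_, D.proj_coe y⟩

/-- The inflation of a character of `K`. -/
noncomputable def infl (φ' : IrrCharacter D.K) : IrrCharacter D.C :=
  ⟨fun c => (φ' : D.K → ℂ) (D.proj c), isIrrCharacter_comp_surjective φ'.2 _ D.proj_surjective⟩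

theorem infl_coe (φ' : IrrCharacter D.K) (y : D.K) :
    (D.infl φ' : D.C → ℂ) (Subgroup.inclusion D.K_le_C y) = (φ' : D.K → ℂ) y := by
  show (φ' : D.K → ℂ) _ = _
  rw [D.proj_coe]

theorem not_dvd_card_K : ¬ p ∣ Nat.card D.K := fun h => by
  obtain ⟨y, hy⟩ := exists_prime_orderOf_dvd_card' p h
  refine (regular_mem D.hQ D.hK y).2 ?_
  rw [Subgroup.orderOf_coe, hy]

theorem card_C : Nat.card D.C = p * Nat.card D.K := by
  conv_rhs => arg 1; rw [← Nat.card_zmod p]
  rw [← Nat.card_prod]
  refine (Nat.card_congr (Equiv.ofBijective (fun q : ZMod p × D.K =>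
    (⟨D.xp q.1 * (q.2 : G), D.C.mul_mem (D.Q_le_C (D.xp_mem _)) (D.K_le_C q.2.2)⟩ : D.C))
    ⟨fun q q' h => D.decomp_unique (congrArg Subtype.val h :), fun c => ?_⟩)).symm
  obtain ⟨q, hq⟩ := D.exists_decomp c
  exact ⟨q, Subtype.ext hq.symm⟩

theorem normal_K : (D.K.subgroupOf D.C).Normal := ⟨fun a ha g => by
  rw [Subgroup.mem_subgroupOf] at ha ⊢
  exact conj_mem_K D.hQ D.hK (centralizer_le_normalizer' _ g.2) ⟨_, ha⟩⟩

theorem index_K : (D.K.subgroupOf D.C).index = p := by
  have h := Subgroup.card_mul_index (D.K.subgroupOf D.C)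
  rw [Nat.card_congr (Subgroup.subgroupOfEquivOfLe D.K_le_C).toEquiv, D.card_C, mul_comm p] at h
  exact Nat.eq_of_mul_eq_mul_left Nat.card_pos h

variable {M : Ideal AlgInt} [M.IsMaximal]

/-- A constituent on `K` determines the block. -/
theorem sameBlock_infl (hM : IsPModular p M) {η : IrrCharacter D.C} {φ' : IrrCharacter D.K}
    (h : classInner (fun y : D.K => (η : D.C → ℂ) (Subgroup.inclusion D.K_le_C y))
      (φ' : D.K → ℂ) ≠ 0) :
    SameBlock M (D.infl φ' : D.C → ℂ) (η : D.C → ℂ) := by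
  classical
  have := D.normal_K
  let _ : Fintype (D.K.subgroupOf D.C) := Fintype.ofFinite _
  let e : D.K.subgroupOf D.C ≃* D.K := Subgroup.subgroupOfEquivOfLe D.K_le_C
  let θ : IrrCharacter (D.K.subgroupOf D.C) :=
    ⟨fun n => (φ' : D.K → ℂ) (e n), isIrrCharacter_comp_surjective φ'.2 e.toMonoidHom e.surjective⟩
  have htr : ∀ f : D.C → ℂ, classInner (fun n : D.K.subgroupOf D.C => f n) (θ : _ → ℂ) =
      classInner (fun y : D.K => f (Subgroup.inclusion D.K_le_C y)) (φ' : D.K → ℂ) := fun f => by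
    rw [← classInner_comp_equiv e]
    rfl
  refine (sameBlock_iff_common_constituent hM ?_ ⟨1, by rw [D.index_K, pow_one]⟩ _ _).mpr
    ⟨θ, ?_, ?_⟩
  · rw [Nat.card_congr e.toEquiv]
    exact D.not_dvd_card_K
  · rw [htr]
    simp only [D.infl_coe]
    show classInner (φ' : D.K → ℂ) (φ' : D.K → ℂ) ≠ 0
    rw [classInner_irr_self]
    exact one_ne_zero
  · rwa [htr]

/-- The members of a block of the centraliser have the same constituent on `K`. -/
theorem classInner_ne_zero_of_sameBlock (hM : IsPModular p M) {η : IrrCharacter D.C}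
    {φ' : IrrCharacter D.K} (h : SameBlock M (D.infl φ' : D.C → ℂ) (η : D.C → ℂ)) :
    classInner (fun y : D.K => (η : D.C → ℂ) (Subgroup.inclusion D.K_le_C y))
      (φ' : D.K → ℂ) ≠ 0 := by
  classical
  have := D.normal_K
  let _ : Fintype (D.K.subgroupOf D.C) := Fintype.ofFinite _
  let e : D.K.subgroupOf D.C ≃* D.K := Subgroup.subgroupOfEquivOfLe D.K_le_C
  let θ : IrrCharacter (D.K.subgroupOf D.C) :=
    ⟨fun n => (φ' : D.K → ℂ) (e n), isIrrCharacter_comp_surjective φ'.2 e.toMonoidHom e.surjective⟩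
  have htr : ∀ f : D.C → ℂ, classInner (fun n : D.K.subgroupOf D.C => f n) (θ : _ → ℂ) =
      classInner (fun y : D.K => f (Subgroup.inclusion D.K_le_C y)) (φ' : D.K → ℂ) := fun f => by
    rw [← classInner_comp_equiv e]
    rfl
  rw [← htr]
  refine constituent_iff_of_sameBlock hM ?_ h θ ?_
  · rw [Nat.card_congr e.toEquiv]
    exact D.not_dvd_card_K
  · rw [htr]
    simp only [D.infl_coe]
    show classInner (φ' : D.K → ℂ) (φ' : D.K → ℂ) ≠ 0
    rw [classInner_irr_self]
    exact one_ne_zero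

/-- Every block of the centraliser is the block of an inflated character. -/
theorem exists_eq_blockOf_infl (hM : IsPModular p M) {b : Set (IrrCharacter D.C)}
    (hb : IsPBlock M b) : ∃ φ' : IrrCharacter D.K, b = blockOf M (D.infl φ' : D.C → ℂ) := by
  classical
  have := Fintype.ofFinite (IrrCharacter D.K)
  obtain ⟨η, hη⟩ := isPBlock_nonempty hb
  by_contra hne
  push Not at hne
  have h0 : ∀ φ' : IrrCharacter D.K,
      classInner (fun y : D.K => (η : D.C → ℂ) (Subgroup.inclusion D.K_le_C y))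
        (φ' : D.K → ℂ) = 0 := fun φ' => by
    by_contra hc
    exact hne φ' ((isPBlock_eq_blockOf hb hη).trans (blockOf_eq (D.sameBlock_infl hM hc)).symm)
  have h := congrFun (classFun_expand (f := fun y : D.K => (η : D.C → ℂ) (Subgroup.inclusion D.K_le_C y))
    (isClassFunction_of_isCharacter (isCharacter_comp (isCharacter_irr η) _))) 1
  simp only [h0, zero_smul, Finset.sum_const_zero, Pi.zero_apply, map_one] at h
  exact irr_one_ne_zero η h

/-- A character outside the induced block has no constituent `φ'` in a section. -/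
theorem secMult_eq_zero_of_not_mem (hM : IsPModular p M) {φ' : IrrCharacter D.K}
    {B : Set (IrrCharacter G)} (hind : IsInducedBlock M D.C (blockOf M (D.infl φ' : D.C → ℂ)) B)
    {χ : IrrCharacter G} (hχ : χ ∉ B) {i : ZMod p} (hi : i ≠ 0) :
    secMult (χ : G → ℂ) (φ' : D.K → ℂ) (D.xp i) = 0 := by
  classical
  have := Fintype.ofFinite (IrrCharacter D.C)
  set b := blockOf M (D.infl φ' : D.C → ℂ) with hbdef
  have hC : ∀ t : G, t ∈ D.C ↔ Commute t (D.xp i) :=
    mem_centralizer_iff_commute D.hQ (D.xp_mem i) (D.xp_ne_one hi)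
  have hxp : ∃ k : ℕ, orderOf (D.xp i) = p ^ k :=
    ⟨1, by rw [orderOf_eq_p D.hQ (D.xp_mem i) (D.xp_ne_one hi), pow_one]⟩
  set f := secFun (D.xp i) D.C χ with hf
  let r : (D.C → ℂ) → D.K → ℂ := fun g y => g (Subgroup.inclusion D.K_le_C y)
  have hexp := classFun_expand (isClassFunction_secFun (fun t : D.C => (hC t).mp t.2) χ)
  have h1 : secMult (χ : G → ℂ) (φ' : D.K → ℂ) (D.xp i) =
      ∑ η : IrrCharacter D.C, classInner f (η : D.C → ℂ) * classInner (r η) (φ' : D.K → ℂ) := by
    rw [secMult, show (fun y : D.K => (χ : G → ℂ) (D.xp i * (y : G))) = r f from rfl]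
    conv_lhs => rw [show r f = ∑ η : IrrCharacter D.C, classInner f (η : D.C → ℂ) • r η from
      funext fun y => by
        have := congrFun hexp (Subgroup.inclusion D.K_le_C y)
        simp only [Finset.sum_apply, Pi.smul_apply, r] at this ⊢
        exact this]
    rw [classInner_sum_left]
    exact Finset.sum_congr rfl fun η _ => classInner_smul_left _ _ _
  have h2 : (∑ η ∈ Finset.univ.filter (· ∈ b),
      classInner f (η : D.C → ℂ) • r η) = 0 := funext fun y => by
    have h := blockPart_secFun_eq_zero hM hxp hC hind hχ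
      (y := Subgroup.inclusion D.K_le_C y) (by
        rw [← Subgroup.orderOf_coe, Subgroup.coe_inclusion]
        exact (regular_mem D.hQ D.hK y).2)
    rw [blockPart_eq] at h
    simpa [Finset.sum_apply, r] using h
  rw [h1, ← Finset.sum_subset (Finset.subset_univ (Finset.univ.filter (· ∈ b))) (fun η _ hη => by
    rw [mul_eq_zero]
    refine Or.inr ?_
    by_contra hc
    exact hη (Finset.mem_filter.mpr ⟨Finset.mem_univ _, D.sameBlock_infl hM hc⟩)),
    Finset.sum_congr rfl (g := fun η : IrrCharacter D.C =>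
        classInner (classInner f (η : D.C → ℂ) • r (η : D.C → ℂ)) (φ' : D.K → ℂ))
      fun η _ => (classInner_smul_left (classInner f (η : D.C → ℂ)) (r (η : D.C → ℂ)) _).symm,
    ← classInner_sum_left, h2, classInner_zero_left]

/-- Only conjugates of `φ` occur in the sections of the characters of a block of full defect. -/
theorem secMult_eq_zero_of_not_inOrbit (hM : IsPModular p M) {B : Set (IrrCharacter G)}
    (hdef : IsDefectGroup p M B D.Q)
    (hind : IsInducedBlock M D.C (blockOf M (D.infl D.φ : D.C → ℂ)) B)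
    {χ : IrrCharacter G} (hχ : χ ∈ B) {φ' : IrrCharacter D.K} (ho : ¬ D.InOrbit φ') {i : ZMod p}
    (hi : i ≠ 0) : secMult (χ : G → ℂ) (φ' : D.K → ℂ) (D.xp i) = 0 := by
  classical
  have := Fintype.ofFinite (IrrCharacter D.C)
  have := Fintype.ofFinite (IrrCharacter G)
  by_contra hne
  obtain ⟨B', hB'⟩ := exists_induced_centralizer (G := G) (C := D.C) hM
    (x := D.xp i) ⟨1, by rw [orderOf_eq_p D.hQ (D.xp_mem i) (D.xp_ne_one hi), pow_one]⟩
    (mem_centralizer_iff_commute D.hQ (D.xp_mem i) (D.xp_ne_one hi))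
    (isPBlock_blockOf (M := M) (D.infl φ'))
  have hmem : χ ∈ B' := by
    by_contra h
    exact hne (D.secMult_eq_zero_of_not_mem hM hB' h hi)
  rw [isPBlock_eq_of_mem hB'.2.1 hind.2.1 hmem hχ] at hB'
  have hQp : IsPGroup p D.Q := IsPGroup.of_card (n := 1) (by rw [D.hQ, pow_one])
  have hpair := (isBrauerPairOf_iff_induced hM hind.2.1 hQp D.Q_le_C).mpr hind
  have hpair' := (isBrauerPairOf_iff_induced hM hind.2.1 hQp D.Q_le_C).mpr hB'
  obtain ⟨n, hn, hconj⟩ := exists_conjN_eq hM (isMaximal_of_defect hM hdef hpair) hpair'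
  have hmem' := self_mem_blockOf (M := M) (D.infl φ')
  rw [← hconj] at hmem'
  obtain ⟨ξ, hξ, hval⟩ := hmem'
  have hc := D.classInner_ne_zero_of_sameBlock hM (hξ : SameBlock M _ _)
  have heq : (fun y : D.K => (ξ : D.C → ℂ) (Subgroup.inclusion D.K_le_C y)) =
      (conjKChar D.hQ D.hK (inv_mem hn) φ' : D.K → ℂ) := funext fun y => by
    rw [← hval (Subgroup.inclusion D.K_le_C y)
      (Subgroup.inclusion D.K_le_C (conjK D.hQ D.hK hn y)) (by simp [conjK]), D.infl_coe]
    show _ = (φ' : D.K → ℂ) (conjK D.hQ D.hK (inv_mem (inv_mem hn)) y)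
    congr 2
    simp
  rw [heq, classInner_irr] at hc
  refine ho ⟨n, hn, ?_⟩
  have h : conjKChar D.hQ D.hK (inv_mem hn) φ' = D.φ := by
    by_contra h
    exact hc (if_neg h)
  rw [← h, D.conjKChar_conjKChar]
  refine Subtype.ext (funext fun y => ?_)
  show (φ' : D.K → ℂ) (conjK D.hQ D.hK (inv_mem (mul_mem hn (inv_mem hn))) y) = (φ' : D.K → ℂ) y
  refine congrArg _ (Subtype.ext ?_)
  exact (show (n * n⁻¹)⁻¹ * (y : G) * (n * n⁻¹)⁻¹⁻¹ = y by group)

end CycSetup

end CfsgLib.Block.Cyclic
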