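import Cfsg.Agent.Lib.Block.Cyclic.LocalMult
import Cfsg.Agent.Lib.Block.Cyclic.PrincipalSq
import Cfsg.Agent.Lib.Char.Degree

/-!
# The characters of degree prime to `p` for a Sylow subgroup of order `p`

Every irreducible character of `K` labels a block with defect group `Q`; the count of the characters
of degree prime to `p` depends on the action of the normaliser on `Irr K` only.
-/

open Finset
open scoped ComplexConjugate

set_option linter.unusedSectionVars false

namespace CfsgLib.Block.Cyclic

open Cfsg CfsgLib.Char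

universe u

variable {p : ℕ} [Fact p.Prime] {G : Type u} [Group G] [Fintype G] [DecidableEq G]

namespace CycSetup

variable (D : CycSetup p G) [Fintype D.K]

/-- The characters with `φ'` in some section. -/
def sectionSet (φ' : IrrCharacter D.K) : Set (IrrCharacter G) :=
  {χ | ∃ i : ZMod p, i ≠ 0 ∧ secMult (χ : G → ℂ) (φ' : D.K → ℂ) (D.xp i) ≠ 0}

variable [Fintype (Subgroup.centralizer (D.Q : Set G))]

/-- Every character of `K` has a block. -/
theorem exists_blockData {M : Ideal AlgInt} [M.IsMaximal] (hM : IsPModular p M) :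
    ∃ B : Set (IrrCharacter G), D.BlockData M B := by
  classical
  have hp : p.Prime := Fact.out
  have := Fintype.ofFinite (IrrCharacter G)
  have := Fintype.ofFinite (IrrCharacter D.C)
  obtain ⟨B, hB⟩ := exists_induced_centralizer (G := G) (C := D.C) hM (x := D.x)
    ⟨1, by rw [D.orderOf_x, pow_one]⟩ (mem_centralizer_iff_commute D.hQ D.hx D.hx1)
    (isPBlock_blockOf (M := M) (D.infl D.φ))
  have hQp : IsPGroup p D.Q := IsPGroup.of_card (n := 1) (by rw [D.hQ, pow_one])
  have hpair := (isBrauerPairOf_iff_induced hM hB.2.1 hQp D.Q_le_C).mpr hB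
  obtain ⟨R, d, hd, hle⟩ := exists_maximal_above hM D.Q _ hpair
  have hdef := isDefectGroup_of_maximal hM hd
  have hcard := defectGroup_card hM hB.2.1 hdef
  have hR : D.Q = R := Subgroup.eq_of_le_of_card_ge (SubpairLE.le hle) (by
    rw [hcard, D.hQ]
    refine (Nat.pow_le_pow_right hp.pos ?_).trans (pow_one p).le
    by_contra hlt
    exact D.hsq ((pow_dvd_pow p (show 2 ≤ blockDefect p B by omega)).trans
      (hcard ▸ Subgroup.card_subgroup_dvd_card R)))
  exact ⟨B, D.blockData hM (hR ▸ hdef) hB⟩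

theorem sectionSet_eq {M : Ideal AlgInt} [M.IsMaximal] (hM : IsPModular p M)
    {B : Set (IrrCharacter G)} (h : D.BlockData M B) : D.sectionSet D.φ = B := by
  classical
  obtain ⟨E⟩ := D.exists_exceptional_family hM h
  ext χ
  constructor
  · rintro ⟨i, hi, hne⟩
    by_contra hχ
    exact hne (h.dval_out χ hχ i hi)
  · intro hχ
    by_contra hc
    have hz : ∀ i : ZMod p, i ≠ 0 → D.dval (χ : G → ℂ) i = 0 := fun i hi => by
      by_contra hne
      exact hc ⟨i, hi, hne⟩
    rcases (E.mem χ).mp hχ with hu | ⟨k, rfl⟩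
    · exact hu ((E.vec_of_u hu 1).symm.trans (D.vec_eq_zero hz _))
    · obtain ⟨j, rfl⟩ := QuotientGroup.mk_surjective k
      have := E.vec_Y (j : (ZMod p)ˣ ⧸ D.expE) j
      rw [if_pos rfl, mul_one, D.vec_eq_zero hz] at this
      rcases E.sign with e | e <;> omega

theorem not_dvd_deg {M : Ideal AlgInt} [M.IsMaximal] (hM : IsPModular p M)
    {B : Set (IrrCharacter G)} (h : D.BlockData M B) {χ : IrrCharacter G} (hχ : χ ∈ B) :
    ¬ p ∣ charDegree (χ : G → ℂ) := by
  classical
  have hp : p.Prime := Fact.out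
  have := Fintype.ofFinite (IrrCharacter D.K)
  obtain ⟨E⟩ := D.exists_exceptional_family hM h
  have hcardU : Fintype.card (ZMod p)ˣ = p - 1 := by
    rw [ZMod.card_units_eq_totient, Nat.totient_prime hp]
  have hleU : ∀ H : Subgroup (ZMod p)ˣ, Nat.card H ≤ p - 1 := fun H => by
    rw [← hcardU, ← Nat.card_eq_fintype_card]
    exact Subgroup.card_le_card_group H
  intro hdvd
  have hmod := D.charDegree_modEq h hχ
  have h0 : (p : ℤ) ∣ (D.stab.relIndex (Subgroup.normalizer (D.Q : Set G)) : ℤ) *
      charDegree (D.φ : D.K → ℂ) * ∑ j : (ZMod p)ˣ, D.vec χ j :=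
    Int.modEq_zero_iff_dvd.mp (hmod.symm.trans
      (Int.modEq_zero_iff_dvd.mpr (Int.natCast_dvd_natCast.mpr hdvd)))
  rcases (Nat.prime_iff_prime_int.mp hp).dvd_or_dvd h0 with h1 | h1
  · rcases (Nat.prime_iff_prime_int.mp hp).dvd_or_dvd h1 with h2 | h2
    · rw [Int.natCast_dvd_natCast] at h2
      have hN : Nat.card D.expE * D.stab.relIndex (Subgroup.normalizer (D.Q : Set G)) ≤ p - 1 := by
        rw [D.relIndex_mul, show (Subgroup.centralizer (D.Q : Set G)).relIndex
          (Subgroup.normalizer (D.Q : Set G)) = Nat.card D.expo.range from ?_]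
        · exact hleU _
        · rw [← Subgroup.index_ker, Subgroup.relIndex]
          congr 1
          ext t
          rw [MonoidHom.mem_ker, Subgroup.mem_subgroupOf]
          exact (D.expo_eq_one_iff _).symm
      have hpos : 0 < D.stab.relIndex (Subgroup.normalizer (D.Q : Set G)) :=
        Nat.pos_of_ne_zero Subgroup.index_ne_zero_of_finite
      have := Nat.le_of_dvd hpos h2
      have := Nat.le_mul_of_pos_left (D.stab.relIndex (Subgroup.normalizer (D.Q : Set G)))
        (Nat.card_pos (α := D.expE))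
      have := hp.one_lt
      omega
    · rw [Int.natCast_dvd_natCast] at h2
      exact D.not_dvd_card_K (h2.trans (charDegree_dvd _))
  · rcases (E.mem χ).mp hχ with hu | ⟨k, rfl⟩
    · rw [Finset.sum_congr rfl fun j _ => E.vec_of_u hu j, Finset.sum_const, Finset.card_univ, hcardU,
        nsmul_eq_mul] at h1
      rcases (E.u_cases χ).resolve_left hu with e | e <;>
        simp only [e, mul_neg, mul_one, Int.dvd_neg] at h1 <;>
        · rw [Int.natCast_dvd_natCast] at h1
          have := Nat.le_of_dvd (by have := hp.one_lt; omega) h1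
          have := hp.one_lt
          omega
    · rw [Finset.sum_congr rfl fun j _ => E.vec_Y k j, ← Finset.mul_sum, Finset.sum_boole] at h1
      obtain ⟨j₀, rfl⟩ := QuotientGroup.mk_surjective k
      have hcoset : (Finset.univ.filter fun j : (ZMod p)ˣ =>
          (j₀ : (ZMod p)ˣ ⧸ D.expE) = j).card = Nat.card D.expE := by
        rw [← Fintype.card_subtype, ← Nat.card_eq_fintype_card]
        exact Nat.card_congr
          { toFun := fun j => ⟨j₀⁻¹ * j.1, QuotientGroup.eq.mp j.2⟩
            invFun := fun r => ⟨j₀ * r.1, QuotientGroup.eq.mpr (by rw [inv_mul_cancel_left]; exact r.2)⟩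
            left_inv := fun j => Subtype.ext (mul_inv_cancel_left _ _)
            right_inv := fun r => Subtype.ext (inv_mul_cancel_left _ _) }
      rw [hcoset] at h1
      rcases E.sign with e | e <;> simp only [e, neg_mul, one_mul, Int.dvd_neg] at h1 <;>
        · rw [Int.natCast_dvd_natCast] at h1
          have := Nat.le_of_dvd Nat.card_pos h1
          have := hleU D.expE
          have := hp.one_lt
          omega

/-- The number of conjugates of a character of `K`. -/
noncomputable def orbSize (φ' : IrrCharacter D.K) : ℕ :=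
  (D.withChar φ').stab.relIndex (Subgroup.normalizer (D.Q : Set G))

/-- The order of the group of exponents of a character of `K`. -/
noncomputable def expCard (φ' : IrrCharacter D.K) : ℕ :=
  (Subgroup.centralizer (D.Q : Set G)).relIndex (D.withChar φ').stab

/-- The count: each orbit contributes `e + (p - 1)/e`. -/
noncomputable def weightCount [Fintype (IrrCharacter D.K)] : ℚ :=
  ∑ φ' : IrrCharacter D.K,
    ((D.expCard φ' + (p - 1) / D.expCard φ' : ℕ) : ℚ) / (D.orbSize φ' : ℚ)

theorem card_pPrime [Fintype (IrrCharacter D.K)] {M : Ideal AlgInt} [M.IsMaximal]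
    (hM : IsPModular p M) :
    (Nat.card {χ : IrrCharacter G // ¬ p ∣ charDegree (χ : G → ℂ)} : ℚ) = D.weightCount := by
  classical
  have hp : p.Prime := Fact.out
  have := Fintype.ofFinite (IrrCharacter G)
  have hdata : ∀ φ' : IrrCharacter D.K, ∃ B,
      (D.withChar φ').BlockData M B ∧ D.sectionSet φ' = B := fun φ' => by
    obtain ⟨B, hB⟩ := (D.withChar φ').exists_blockData hM
    exact ⟨B, hB, (D.withChar φ').sectionSet_eq hM hB⟩
  choose B hB hBeq using hdata
  have hcard : ∀ φ', (Finset.univ.filter fun χ => χ ∈ B φ').card =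
      D.expCard φ' + (p - 1) / D.expCard φ' := fun φ' => by
    obtain ⟨E⟩ := (D.withChar φ').exists_exceptional_family hM (hB φ')
    have h := E.card_block
    rw [(D.withChar φ').card_expE, Nat.card_eq_fintype_card, Fintype.card_subtype] at h
    exact h
  set S := Finset.univ.filter fun χ : IrrCharacter G => ¬ p ∣ charDegree (χ : G → ℂ)
  have hfib : ∀ χ ∈ S,
      ∑ φ' ∈ Finset.univ.filter (fun φ' => χ ∈ B φ'), (D.orbSize φ' : ℚ)⁻¹ = 1 := by
    intro χ hχ
    obtain ⟨φ₀, hφ₀⟩ : ∃ φ', χ ∈ B φ' := by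
      have hne := value_pElement_ne_zero hM (Finset.mem_filter.mp hχ).2 (x := D.xp 1)
        ⟨1, by rw [D.xp_one, D.orderOf_x, pow_one]⟩
      have h := value_eq_sum D.hQ D.hK (isClassFunction_irr χ) (D.xp_mem 1) 1
      rw [OneMemClass.coe_one, mul_one] at h
      rw [h] at hne
      obtain ⟨φ', -, h'⟩ := Finset.exists_ne_zero_of_sum_ne_zero hne
      refine ⟨φ', hBeq φ' ▸ ⟨1, one_ne_zero, fun h0 => h' ?_⟩⟩
      rw [h0, zero_mul]
    have hiff : ∀ φ', χ ∈ B φ' ↔ (D.withChar φ₀).InOrbit φ' := by
      intro φ'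
      constructor
      · intro h
        by_contra ho
        rw [← hBeq φ'] at h
        obtain ⟨i, hi, hne⟩ := h
        exact hne ((hB φ₀).sec_out χ hφ₀ φ' ho i hi)
      · rintro ⟨n, hn, rfl⟩
        rw [← hBeq φ₀] at hφ₀
        obtain ⟨i, hi, hne⟩ := hφ₀
        rw [← hBeq]
        refine ⟨D.expo0 ⟨n, hn⟩ * i, mul_ne_zero (D.expo0_isUnit _).ne_zero hi, fun h0 => hne ?_⟩
        rw [← h0, ← D.conj_xp]
        exact (secMult_conj D.hQ D.hK (isClassFunction_irr χ) hn φ₀ _).symm
    have horb : ∀ φ', χ ∈ B φ' → D.orbSize φ' = D.orbSize φ₀ := by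
      intro φ' h
      have h1 : ∀ ψ, (D.withChar φ').InOrbit ψ ↔ (D.withChar φ₀).InOrbit ψ := fun ψ => by
        obtain ⟨n, hn, rfl⟩ := (hiff φ').mp h
        constructor
        · rintro ⟨m, hm, rfl⟩
          exact ⟨m * n, mul_mem hm hn, (D.conjKChar_conjKChar hm hn φ₀).symm⟩
        · rintro ⟨m, hm, rfl⟩
          refine ⟨m * n⁻¹, mul_mem hm (inv_mem hn), ?_⟩
          rw [D.conjKChar_conjKChar]
          congr 1
          exact inv_mul_cancel_right m n
      rw [orbSize, orbSize, ← (D.withChar φ').card_orbit, ← (D.withChar φ₀).card_orbit]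
      exact Nat.card_congr (Equiv.subtypeEquivRight h1)
    rw [Finset.sum_congr rfl fun φ' hφ' => by rw [horb φ' (Finset.mem_filter.mp hφ').2],
      Finset.sum_const, nsmul_eq_mul,
      show (Finset.univ.filter fun φ' => χ ∈ B φ').card = D.orbSize φ₀ from ?_]
    · exact mul_inv_cancel₀ (Nat.cast_ne_zero.mpr Subgroup.index_ne_zero_of_finite)
    · rw [orbSize, ← (D.withChar φ₀).card_orbit, Nat.card_eq_fintype_card, Fintype.card_subtype]
      exact congrArg Finset.card (Finset.filter_congr fun φ' _ => hiff φ')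
  have hmem : ∀ φ', ∀ χ, χ ∈ B φ' → χ ∈ S := fun φ' χ h =>
    Finset.mem_filter.mpr ⟨Finset.mem_univ _, (D.withChar φ').not_dvd_deg hM (hB φ') h⟩
  rw [Nat.card_eq_fintype_card, Fintype.card_subtype, Finset.card_eq_sum_ones, Nat.cast_sum,
    Finset.sum_congr rfl fun χ hχ => (Nat.cast_one.trans (hfib χ hχ).symm), weightCount]
  simp only [Finset.sum_filter]
  rw [Finset.sum_comm]
  refine Finset.sum_congr rfl fun φ' _ => ?_
  rw [← hcard, div_eq_mul_inv, ← Finset.sum_filter, Finset.filter_filter,
    Finset.sum_const, nsmul_eq_mul]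
  congr 3
  exact Finset.filter_congr fun χ _ =>
    ⟨fun h => h.2, fun h => ⟨(Finset.mem_filter.mp (hmem φ' χ h)).2, h⟩⟩

end CycSetup

/-- The count is that of the normaliser. -/
theorem card_pPrime_eq_classes {M : Ideal AlgInt} [M.IsMaximal] (hM : IsPModular p M)
    (hsq : ¬ p ^ 2 ∣ Nat.card G) {Q : Subgroup G} (hQ : Nat.card Q = p) :
    Nat.card {χ : IrrCharacter G // ¬ p ∣ charDegree (χ : G → ℂ)} =
      Nat.card (ConjClasses (Subgroup.normalizer (Q : Set G))) := by
  classical
  have hp : p.Prime := Fact.out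
  obtain ⟨D, rfl⟩ := exists_cycSetup hQ hsq
  let _ : Fintype D.K := Fintype.ofFinite _
  let _ : Fintype (Subgroup.centralizer (D.Q : Set G)) := Fintype.ofFinite _
  set N := Subgroup.normalizer (D.Q : Set G) with hN
  let _ : Fintype N := Fintype.ofFinite _
  have hQN : D.Q ≤ N := D.Q.le_normalizer
  have hKN : D.K ≤ N := fun y hy => centralizer_le_normalizer' _ (D.K_le_C hy)
  have hCN : Subgroup.centralizer (D.Q : Set G) ≤ N := centralizer_le_normalizer' _
  have hQN' : Nat.card (D.Q.subgroupOf N) = p := by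
    rw [Nat.card_congr (Subgroup.subgroupOfEquivOfLe hQN).toEquiv, D.hQ]
  have hsqN : ¬ p ^ 2 ∣ Nat.card N := fun h => hsq (h.trans (Subgroup.card_subgroup_dvd_card N))
  have hcentN : Subgroup.centralizer ((D.Q.subgroupOf N : Subgroup N) : Set N) =
      (Subgroup.centralizer (D.Q : Set G)).subgroupOf N := by
    ext t
    rw [Subgroup.mem_subgroupOf, Subgroup.mem_centralizer_iff, Subgroup.mem_centralizer_iff]
    constructor
    · intro h u hu
      exact congrArg Subtype.val (h ⟨u, hQN hu⟩ hu)
    · intro h u hu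
      exact Subtype.ext (h u hu)
  let ε : D.K.subgroupOf N ≃* D.K := Subgroup.subgroupOfEquivOfLe hKN
  let DN : CycSetup p N :=
    ⟨D.Q.subgroupOf N, ⟨D.x, hQN D.hx⟩, D.K.subgroupOf N, irrEquiv ε.symm D.φ, hQN', hsqN, D.hx,
      fun h => D.hx1 (congrArg Subtype.val h), fun y => by
        rw [Subgroup.mem_subgroupOf, D.hK, hcentN, Subgroup.mem_subgroupOf, Subgroup.orderOf_coe]⟩
  let _ : Fintype DN.K := Fintype.ofFinite _
  let _ : Fintype (Subgroup.centralizer (DN.Q : Set N)) := Fintype.ofFinite _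
  have := Fintype.ofFinite (IrrCharacter D.K)
  have := Fintype.ofFinite (IrrCharacter DN.K)
  have hnormN : Subgroup.normalizer (DN.Q : Set N) = ⊤ := by
    rw [show DN.Q = D.Q.subgroupOf N from rfl, ← Subgroup.subgroupOf_normalizer_eq hQN,
      Subgroup.subgroupOf_self]
  have hstab : ∀ φ' : IrrCharacter D.K,
      (DN.withChar (irrEquiv ε.symm φ')).stab = (D.withChar φ').stab.subgroupOf N := by
    intro φ'
    ext n
    rw [Subgroup.mem_subgroupOf]
    constructor
    · rintro ⟨hn, h⟩
      refine ⟨n.2, Subtype.ext (funext fun y => ?_)⟩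
      exact congrFun (congrArg Subtype.val h) (ε.symm y)
    · rintro ⟨hn, h⟩
      refine ⟨hnormN ▸ Subgroup.mem_top n, Subtype.ext (funext fun y => ?_)⟩
      exact congrFun (congrArg Subtype.val h) (ε y)
  have hw : DN.weightCount = D.weightCount := by
    simp only [CycSetup.weightCount]
    refine (Fintype.sum_equiv (irrEquiv ε.symm) _ _ fun φ' => ?_).symm
    have he : DN.expCard (irrEquiv ε.symm φ') = D.expCard φ' := by
      rw [CycSetup.expCard, CycSetup.expCard, hstab, show DN.Q = D.Q.subgroupOf N from rfl, hcentN,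
        Subgroup.relIndex_subgroupOf (D.withChar φ').stab_le]
    have ho : DN.orbSize (irrEquiv ε.symm φ') = D.orbSize φ' := by
      rw [CycSetup.orbSize, CycSetup.orbSize, hstab, hnormN, ← Subgroup.subgroupOf_self N,
        Subgroup.relIndex_subgroupOf le_rfl]
    rw [he, ho]
  have hG := D.card_pPrime hM
  have hNc := DN.card_pPrime hM
  rw [hw, ← hG] at hNc
  have hNc' : Nat.card {χ : IrrCharacter N // ¬ p ∣ charDegree (χ : N → ℂ)} =
      Nat.card {χ : IrrCharacter G // ¬ p ∣ charDegree (χ : G → ℂ)} := by exact_mod_cast hNc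
  rw [← hNc', ← card_irr_eq_card_conjClasses]
  refine Nat.card_congr (Equiv.subtypeUnivEquiv fun χ => ?_)
  intro hdvd
  have hnorm : (D.Q.subgroupOf N).Normal := Subgroup.normal_in_normalizer
  have hcomm : ∀ a ∈ D.Q.subgroupOf N, ∀ b ∈ D.Q.subgroupOf N, a * b = b * a := by
    intro a ha b hb
    refine Subtype.ext ?_
    exact Subgroup.mem_centralizer_iff.mp (D.Q_le_C hb) (a : G) ha
  have h := degree_dvd_index_abelian N (D.Q.subgroupOf N) hcomm _ χ.2 _ (charDegree_eq χ).1
  refine hsqN ?_
  rw [pow_two, ← (D.Q.subgroupOf N).card_mul_index, hQN']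
  exact Nat.mul_dvd_mul_left p (hdvd.trans h)

end CfsgLib.Block.Cyclic
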