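import Cfsg.Agent.Lib.Block.Cyclic.SylowSetup

/-!
# Combinations vanishing on the singular elements

For the principal block: `X - δ u(X) ∑ₖ Y k` vanishes at every `p`-singular element.
-/

open Finset
open scoped ComplexConjugate

set_option linter.unusedSectionVars false

namespace CfsgLib.Block.Cyclic.CycSetup

open Cfsg CfsgLib.Char

universe u

variable {p : ℕ} [Fact p.Prime] {G : Type u} [Group G] [Fintype G] [DecidableEq G]
  {D : CycSetup p G} [Fintype D.K]

/-- At a section only the trivial character of `K` occurs. -/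
theorem value_section (htriv : ∀ y, (D.φ : D.K → ℂ) y = 1) {M : Ideal AlgInt}
    {B : Set (IrrCharacter G)} (h : D.BlockData M B) {χ : IrrCharacter G} (hχ : χ ∈ B) {i : ZMod p}
    (hi : i ≠ 0) (y : D.K) : (χ : G → ℂ) (D.xp i * (y : G)) = D.dval (χ : G → ℂ) i := by
  classical
  have := Fintype.ofFinite (IrrCharacter D.K)
  rw [value_eq_sum D.hQ D.hK (isClassFunction_irr χ) (D.xp_mem i), Finset.sum_eq_single D.φ]
  · rw [htriv, mul_one]; rfl
  · intro φ' _ hne
    rw [h.sec_out χ hχ φ' (fun ho => hne (D.inOrbit_eq htriv ho)) i hi, zero_mul]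
  · exact fun hn => absurd (Finset.mem_univ _) hn

namespace Exceptional

variable {B : Set (IrrCharacter G)} (E : D.Exceptional B)

theorem sum_dval_Y [Fintype ((ZMod p)ˣ ⧸ D.expE)] {i : ZMod p} (hi : i ≠ 0) :
    ∑ k, D.dval (E.Y k : G → ℂ) i = -(E.δ : ℂ) := by
  classical
  rw [Finset.sum_congr rfl fun k _ => D.dval_eq_sum_vec (E.Y k) hi, Finset.sum_comm, sum_zmod_split]
  simp only [D.vec_zero, Int.cast_zero, mul_zero, Finset.sum_const_zero, zero_add, ← Finset.mul_sum,
    ← Int.cast_sum, E.vec_Y, mul_ite, mul_one, mul_zero, Finset.sum_ite_eq', Finset.mem_univ, if_true,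
    ← Finset.sum_mul]
  have hψ : ∑ j : ZMod p, stdPsi p (i * j) = 0 := by
    rw [Finset.sum_congr rfl fun j _ => by rw [mul_comm i j], sum_stdPsi_mul, if_neg hi]
  rw [sum_zmod_split, mul_zero, AddChar.map_zero_eq_one] at hψ
  linear_combination (E.δ : ℂ) * hψ

/-- The combination attached to a non-exceptional character. -/
noncomputable def proj1 [Fintype ((ZMod p)ˣ ⧸ D.expE)] (χ : IrrCharacter G) : G → ℂ :=
  fun g => (χ : G → ℂ) g + (-(E.δ * E.u χ : ℤ) : ℂ) * ∑ k, (E.Y k : G → ℂ) g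

theorem proj1_generalized [Fintype ((ZMod p)ˣ ⧸ D.expE)] (χ : IrrCharacter G) :
    IsGeneralizedCharacter G (E.proj1 χ) := by
  have h : E.proj1 χ = (χ : G → ℂ) + (-(E.δ * E.u χ) : ℤ) • ∑ k, (E.Y k : G → ℂ) := by
    funext g
    simp [proj1]
  rw [h, ← Int.cast_smul_eq_zsmul ℂ]
  exact isGeneralizedCharacter_add (isGeneralizedCharacter_of_isCharacter (isCharacter_irr χ))
    (isGeneralizedCharacter_zsmul (isGeneralizedCharacter_sum _ _ fun k _ =>
      isGeneralizedCharacter_of_isCharacter (isCharacter_irr _)) _)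

theorem proj1_singular [Fintype ((ZMod p)ˣ ⧸ D.expE)] (htriv : ∀ y, (D.φ : D.K → ℂ) y = 1)
    {M : Ideal AlgInt} (h : D.BlockData M B) {χ : IrrCharacter G} (hu : E.u χ ≠ 0) {g : G}
    (hg : p ∣ orderOf g) : E.proj1 χ g = 0 := by
  classical
  obtain ⟨c, i, y, hi, hgy⟩ := D.exists_section_conj hg
  have hd : ∀ θ ∈ B, ((θ : IrrCharacter G) : G → ℂ) g = D.dval (θ : G → ℂ) i := fun θ hθ => by
    rw [← isClassFunction_irr θ g c, hgy, value_section htriv h hθ hi]
  simp only [proj1, hd χ (E.mem_of_u hu), hd _ (E.mem_of_range _), E.sum_dval_Y hi, E.dval_of_u hu hi]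
  have hδ : (E.δ : ℂ) * (E.δ : ℂ) = 1 := by
    rcases E.sign with e | e <;> rw [e] <;> push_cast <;> ring
  push_cast
  linear_combination (E.u χ : ℂ) * hδ

theorem classInner_proj1 [Fintype ((ZMod p)ˣ ⧸ D.expE)] {χ ψ : IrrCharacter G} (hχ : E.u χ ≠ 0)
    (hψ : E.u ψ ≠ 0) [Decidable (χ = ψ)] :
    classInner (E.proj1 χ) (E.proj1 ψ) = (if χ = ψ then 1 else 0) +
      (Fintype.card ((ZMod p)ˣ ⧸ D.expE) : ℂ) * (E.u χ : ℂ) * (E.u ψ : ℂ) := by
  classical
  have hrw : ∀ θ : IrrCharacter G, E.proj1 θ =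
      (θ : G → ℂ) + ((-(E.δ * E.u θ : ℤ) : ℂ)) • ∑ k, (E.Y k : G → ℂ) := fun θ => by
    funext g
    simp [proj1]
  have hnY : ∀ {θ : IrrCharacter G}, E.u θ ≠ 0 → ∀ k, θ ≠ E.Y k := fun hu k e => hu (e ▸ E.u_Y k)
  rw [hrw, hrw, classInner_add_left, classInner_add_right, classInner_add_right, classInner_smul_left,
    classInner_smul_left, classInner_smul_right, classInner_smul_right, classInner_irr,
    classInner_sum_left, classInner_sum_left, classInner_sum_right]
  simp only [classInner_irr, classInner_sum_right, if_neg (hnY hχ _), if_neg (Ne.symm (hnY hψ _)),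
    Finset.sum_const_zero, mul_zero, E.inj.eq_iff, Finset.sum_ite_eq, Finset.mem_univ, if_true,
    Finset.sum_const, Finset.card_univ, nsmul_eq_mul, mul_one]
  have hδ : (E.δ : ℂ) * (E.δ : ℂ) = 1 := by
    rcases E.sign with e | e <;> rw [e] <;> push_cast <;> ring
  simp only [map_neg, map_mul, map_intCast, Int.cast_mul]
  split_ifs <;>
    linear_combination ((Fintype.card ((ZMod p)ˣ ⧸ D.expE) : ℂ) * (E.u χ : ℂ) * (E.u ψ : ℂ)) * hδ

/-- A class function on the singular-free part orthogonal to all the combinations vanishes at `1`. -/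
theorem apply_one_eq_zero_of_inner [Fintype (IrrCharacter G)] [Fintype ((ZMod p)ˣ ⧸ D.expE)]
    {F : G → ℂ} (hF : IsClassFunction G F) (hout : ∀ θ, θ ∉ B → classInner F (θ : G → ℂ) = 0)
    (hproj : ∀ θ, E.u θ ≠ 0 → classInner F (E.proj1 θ) = 0) : F 1 = 0 := by
  classical
  have hp : p.Prime := Fact.out
  have hδ : (E.δ : ℂ) * (E.δ : ℂ) = 1 := by
    rcases E.sign with e | e <;> rw [e] <;> push_cast <;> ring
  set S := ∑ k, classInner F (E.Y k : G → ℂ) with hS
  have hcX : ∀ θ, E.u θ ≠ 0 → classInner F (θ : G → ℂ) = (E.δ : ℂ) * (E.u θ : ℂ) * S := by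
    intro θ hθ
    have h := hproj θ hθ
    rw [show E.proj1 θ = (θ : G → ℂ) + ((-(E.δ * E.u θ : ℤ) : ℂ)) • ∑ k, (E.Y k : G → ℂ) from
        funext fun g => by simp [proj1],
      classInner_add_right, classInner_smul_right, classInner_sum_right, ← hS] at h
    simp only [map_neg, map_mul, map_intCast, Int.cast_mul] at h
    linear_combination h
  obtain ⟨k₀⟩ : Nonempty ((ZMod p)ˣ ⧸ D.expE) := inferInstance
  have hexp := congrFun (classFun_expand hF) 1
  simp only [Finset.sum_apply, Pi.smul_apply, smul_eq_mul] at hexp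
  have hrel := E.relation k₀ (g := 1) (by simp [hp.ne_one])
  rw [finsum_mem_eq_toFinset_sum] at hrel
  have hX : ∑ θ ∈ {θ : IrrCharacter G | E.u θ ≠ 0}.toFinset,
      classInner F (θ : G → ℂ) * (θ : G → ℂ) 1 = (E.δ : ℂ) * S *
        ∑ θ ∈ {θ : IrrCharacter G | E.u θ ≠ 0}.toFinset, (E.u θ : ℂ) * (θ : G → ℂ) 1 := by
    rw [Finset.mul_sum]
    exact Finset.sum_congr rfl fun θ hθ => by rw [hcX θ (by simpa using hθ)]; ring
  have hY : ∑ k, classInner F (E.Y k : G → ℂ) * (E.Y k : G → ℂ) 1 = S * (E.Y k₀ : G → ℂ) 1 := by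
    rw [hS, Finset.sum_mul]
    exact Finset.sum_congr rfl fun k _ => by rw [E.regular_eq k k₀ 1 (by simp [hp.ne_one])]
  rw [hexp, ← Finset.sum_subset (Finset.subset_univ
      ({θ : IrrCharacter G | E.u θ ≠ 0}.toFinset ∪ Finset.univ.image E.Y)) (fun θ _ hθ => by
        rw [hout θ fun h => hθ ?_, zero_mul]
        rcases (E.mem θ).mp h with h | ⟨k, rfl⟩
        · exact Finset.mem_union_left _ (by simpa using h)
        · exact Finset.mem_union_right _ (Finset.mem_image_of_mem _ (Finset.mem_univ k))),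
    Finset.sum_union (Finset.disjoint_left.mpr fun θ h1 h2 => by
      obtain ⟨k, -, rfl⟩ := Finset.mem_image.mp h2
      exact absurd (E.u_Y k) (by simpa using h1)),
    Finset.sum_image (fun a _ b _ e => E.inj e), hX, hY]
  linear_combination (E.δ : ℂ) * S * hrel - (E.Y k₀ : G → ℂ) 1 * S * hδ

end Exceptional

end CfsgLib.Block.Cyclic.CycSetup
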