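import Cfsg.Agent.Lib.Block.Cyclic.SylowVectors
import Cfsg.Agent.Lib.Block.Cyclic.SignMain

/-!
# The sign bound for a Sylow subgroup of order `p`

`CycSetup.abs_family_le_one`: a family of characters agreeing on the `p`-regular elements, whose
sections at the non-trivial elements of the Sylow subgroup carry only conjugates of `φ`, with
constant total multiplicity `c`, has `|c| ≤ 1`.
-/

open Finset MonoidAlgebra
open scoped ComplexConjugate

set_option linter.unusedSectionVars false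

namespace CfsgLib.Block.Cyclic

open Cfsg CfsgLib.Char

universe u

/-- The idempotents of different characters multiply to zero. -/
theorem idemU_mul_eq_zero {p : ℕ} {M : Ideal AlgInt} [M.IsMaximal] {K : Type u} [Group K] [Fintype K]
    [DecidableEq K] (hM : IsPModular p M) (hK : ¬ p ∣ Fintype.card K) {ξ ψ : IrrCharacter K}
    (h : ξ ≠ ψ) : idemU p M (ξ : K → ℂ) * idemU p M (ψ : K → ℂ) = 0 := by
  classical
  apply unrToC_injective
  rw [map_mul, map_zero, coe_idemU hM hK, coe_idemU hM hK]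
  have hc := fun χ : IrrCharacter K => isClassElt_charIdem (isClassFunction_irr χ)
  refine classElt_ext ((hc ξ).mul (hc ψ)) (fun g h => by simp) fun χ => ?_
  rw [omega_mul χ.2 (hc ξ) (hc ψ), omega_charIdem, omega_charIdem]
  simp only [omega, MonoidAlgebra.coeff_zero, Finsupp.coe_zero, Pi.zero_apply, zero_mul,
    Finset.sum_const_zero, zero_div]
  split_ifs with h1 h2 <;> simp
  exact h (h1.symm.trans h2)

variable {p : ℕ} [Fact p.Prime] {G : Type u} [Group G] [Fintype G] [DecidableEq G]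

theorem factorization_eq_one (hdvd : p ∣ Nat.card G) (hsq : ¬ p ^ 2 ∣ Nat.card G) :
    (Nat.card G).factorization p = 1 := by
  have hp : p.Prime := Fact.out
  have h1 := (hp.dvd_iff_one_le_factorization Nat.card_pos.ne').mp hdvd
  by_contra h
  exact hsq ((hp.pow_dvd_iff_le_factorization Nat.card_pos.ne').mpr (by omega))

namespace CycSetup

variable (D : CycSetup p G) [Fintype D.K]

include D in
theorem dvd_card : p ∣ Nat.card G := D.hQ ▸ Subgroup.card_subgroup_dvd_card D.Q

/-- Every singular element is conjugate into a section. -/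
theorem exists_section_conj {g : G} (hg : p ∣ orderOf g) :
    ∃ (c : G) (i : ZMod p) (y : D.K), i ≠ 0 ∧ c * g * c⁻¹ = D.xp i * (y : G) := by
  have hp : p.Prime := Fact.out
  obtain ⟨a, b, hab, hcomm, ⟨k, hk⟩, hb⟩ := exists_isPPart hp g
  have hf := factorization_eq_one D.dvd_card D.hsq
  have hk1 : k = 1 := by
    have hle : k ≤ 1 := by
      by_contra h
      exact D.hsq ((pow_dvd_pow p (show 2 ≤ k by omega)).trans (hk ▸ orderOf_dvd_natCard a))
    rcases Nat.eq_zero_or_pos k with rfl | h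
    · rw [pow_zero, orderOf_eq_one_iff] at hk
      rw [hk, one_mul] at hab
      exact absurd (hab ▸ hg) hb
    · omega
  subst hk1
  rw [pow_one] at hk
  let S1 : Sylow p G := Sylow.ofCard (Subgroup.zpowers a) (by rw [Nat.card_zpowers, hk, hf, pow_one])
  let S2 : Sylow p G := Sylow.ofCard D.Q (by rw [D.hQ, hf, pow_one])
  obtain ⟨c, hc⟩ := MulAction.exists_smul_eq G S1 S2
  have hcQ : c * a * c⁻¹ ∈ D.Q := by
    have hmem : c * a * c⁻¹ ∈ ((c • S1 : Sylow p G) : Subgroup G) :=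
      ⟨a, Subgroup.mem_zpowers a, rfl⟩
    rw [hc] at hmem
    exact hmem
  obtain ⟨i, hi⟩ := D.exists_xp_eq hcQ
  have hi0 : i ≠ 0 := by
    intro h
    rw [h, D.xp_zero] at hi
    have : a = 1 := conj_eq_one_iff.mp hi.symm
    rw [this, orderOf_one] at hk
    exact hp.one_lt.ne hk
  refine ⟨c, i, ⟨c * b * c⁻¹, (D.hK _).mpr ⟨?_, ?_⟩⟩, hi0, ?_⟩
  · refine (mem_centralizer_iff_commute D.hQ (D.xp_mem i) (D.xp_ne_one hi0) _).mpr ?_
    rw [hi]
    have := congrArg (fun w => c * w * c⁻¹) hcomm.eq.symm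
    show _ * _ = _ * _
    simpa [mul_assoc] using this
  · rw [show orderOf (c * b * c⁻¹) = orderOf b from MulEquiv.orderOf_eq (MulAut.conj c) _]
    exact hb
  · show c * g * c⁻¹ = D.xp i * (c * b * c⁻¹)
    rw [hi, ← hab]
    simp [mul_assoc]

/-- A character of `K` conjugate to `φ` in the normaliser. -/
def InOrbit (φ' : IrrCharacter D.K) : Prop :=
  ∃ n, ∃ hn : n ∈ Subgroup.normalizer (D.Q : Set G), conjKChar D.hQ D.hK hn D.φ = φ'

theorem secMult_orbit {χ : G → ℂ} (hχ : IsClassFunction G χ) {φ' : IrrCharacter D.K}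
    (h : D.InOrbit φ') {i : ZMod p} (hi : i ≠ 0) :
    ∃ j : ZMod p, j ≠ 0 ∧ ∀ χ : G → ℂ, IsClassFunction G χ →
      secMult χ (φ' : D.K → ℂ) (D.xp i) = D.dval χ j := by
  obtain ⟨n, hn, rfl⟩ := h
  have hn' : n⁻¹ ∈ Subgroup.normalizer (D.Q : Set G) := inv_mem hn
  refine ⟨D.expo0 ⟨n⁻¹, hn'⟩ * i, mul_ne_zero (D.expo0_isUnit _).ne_zero hi, fun χ' hχ' => ?_⟩
  rw [dval, ← D.conj_xp]
  conv_rhs => rw [← secMult_conj D.hQ D.hK hχ' hn D.φ]
  simp [mul_assoc]

/-- The sign bound. -/
theorem abs_family_le_one {M : Ideal AlgInt} [M.IsMaximal] (hM : IsPModular p M)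
    {S : Finset (IrrCharacter G)} (hne : S.Nonempty)
    (hreg : ∀ θ ∈ S, ∀ θ' ∈ S, ∀ g, ¬ p ∣ orderOf g → (θ : G → ℂ) g = (θ' : G → ℂ) g)
    (hout : ∀ θ ∈ S, ∀ φ' : IrrCharacter D.K, ¬ D.InOrbit φ' → ∀ i : ZMod p, i ≠ 0 →
      secMult (θ : G → ℂ) (φ' : D.K → ℂ) (D.xp i) = 0)
    {c : ℤ} (hc : ∀ i : ZMod p, i ≠ 0 → ∑ θ ∈ S, D.dval (θ : G → ℂ) i = (c : ℂ)) : |c| ≤ 1 := by
  classical
  have hp : p.Prime := Fact.out
  have := Fintype.ofFinite (IrrCharacter D.K)
  obtain ⟨θ₀, hθ₀⟩ := hne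
  obtain ⟨Y1, hY1, hθ1⟩ := isIrrCharacter_degree θ₀.2
  obtain ⟨d, hd, hφ1⟩ := isIrrCharacter_degree D.φ.2
  have hdeg : ∀ θ ∈ S, (θ : G → ℂ) 1 = Y1 := fun θ hθ => by
    rw [hreg θ hθ θ₀ hθ₀ 1 (by simp [hp.ne_one]), hθ1]
  have hval : ∀ g, ∑ θ ∈ S, (θ : G → ℂ) g ∈ unr p M := by
    intro g
    by_cases hg : p ∣ orderOf g
    · obtain ⟨a, i, y, hi, hgy⟩ := D.exists_section_conj hg
      rw [Finset.sum_congr rfl (g := fun θ : IrrCharacter G => (θ : G → ℂ) (D.xp i * (y : G))) fun θ _ =>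
        by rw [← hgy, isClassFunction_irr θ]]
      rw [Finset.sum_congr rfl fun θ _ =>
        value_eq_sum D.hQ D.hK (isClassFunction_irr θ) (D.xp_mem i) y, Finset.sum_comm]
      refine sum_mem fun φ' _ => ?_
      rw [← Finset.sum_mul]
      refine mul_mem ?_ (char_mem_unr (isCharacter_irr φ') (by
        rw [← Subgroup.orderOf_coe]; exact (regular_mem D.hQ D.hK y).2))
      by_cases ho : D.InOrbit φ'
      · obtain ⟨j, hj, hje⟩ := D.secMult_orbit (isClassFunction_irr θ₀) ho hi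
        rw [Finset.sum_congr rfl fun (θ : IrrCharacter G) _ => hje (θ : G → ℂ) (isClassFunction_irr θ), hc j hj]
        exact intCast_mem _ c
      · rw [Finset.sum_eq_zero fun θ hθ => hout θ hθ φ' ho i hi]
        exact zero_mem _
    · exact sum_mem fun θ _ => char_mem_unr (isCharacter_irr θ) hg
  have hQN : D.Q ≤ D.stab := by
    intro a ha
    have haN : a ∈ Subgroup.normalizer (D.Q : Set G) := Subgroup.le_normalizer ha
    refine ⟨haN, Subtype.ext (funext fun y => ?_)⟩
    show (D.φ : D.K → ℂ) (conjK D.hQ D.hK (inv_mem haN) y) = (D.φ : D.K → ℂ) y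
    rw [show conjK D.hQ D.hK (inv_mem haN) y = y from Subtype.ext (by
      show a⁻¹ * (y : G) * a⁻¹⁻¹ = y
      rw [(commute_K D.hQ D.hK (D.Q.inv_mem ha) y).eq, mul_inv_cancel_right])]
  have hn : (D.Q.subgroupOf D.stab).Normal := ⟨fun a ha t => by
    rw [Subgroup.mem_subgroupOf] at ha ⊢
    push_cast
    exact (Subgroup.mem_normalizer_iff.mp (D.stab_le t.2) _).mp ha⟩
  have hcardQ : Nat.card (D.Q.subgroupOf D.stab) = p := by
    rw [Nat.card_congr (Subgroup.subgroupOfEquivOfLe hQN).toEquiv, D.hQ]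
  have hcop : (Nat.card (D.Q.subgroupOf D.stab)).Coprime (D.Q.subgroupOf D.stab).index := by
    rw [hcardQ]
    refine hp.coprime_iff_not_dvd.mpr fun h => D.hsq ?_
    refine dvd_trans ?_ D.stab.card_subgroup_dvd_card
    rw [← (D.Q.subgroupOf D.stab).card_mul_index, hcardQ, pow_two]
    exact Nat.mul_dvd_mul_left p h
  obtain ⟨T', hT'⟩ := Subgroup.exists_right_complement'_of_coprime hcop
  let _ : Fintype T' := Fintype.ofFinite _
  have hΓ : ¬ p ∣ Fintype.card T' := by
    rw [← Nat.card_eq_fintype_card, ← hT'.symm.index_eq_card]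
    rw [hcardQ] at hcop
    exact hp.coprime_iff_not_dvd.mp hcop
  let ι : T' →* G := D.stab.subtype.comp T'.subtype
  have hι : Function.Injective ι := fun a b h => Subtype.ext (Subtype.ext h)
  have hιN : ∀ γ, ι γ ∈ Subgroup.normalizer (D.Q : Set G) := fun γ => D.stab_le γ.1.2
  have hreg' : ∀ γ : T', ¬ p ∣ orderOf (ι γ) := fun γ h => hΓ (by
    rw [orderOf_injective ι hι] at h
    exact h.trans orderOf_dvd_card)
  have hdec : ∀ g ∈ D.stab, ∃ (a : G) (γ : T'), a ∈ D.Q ∧ g = a * ι γ := by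
    intro g hg
    have hsup : (⟨g, hg⟩ : D.stab) ∈ D.Q.subgroupOf D.stab ⊔ T' := by
      rw [Subgroup.IsComplement'.sup_eq_top hT']
      exact Subgroup.mem_top _
    obtain ⟨a, ha, t, ht, he⟩ := Subgroup.mem_sup_of_normal_left.mp hsup
    exact ⟨a, ⟨t, ht⟩, ha, (congrArg Subtype.val he).symm⟩
  have hKι : ∀ k : D.K, ∃ γ : T', ι γ = k := by
    intro k
    have hkS : (k : G) ∈ D.stab := by
      have hkC := (regular_mem D.hQ D.hK k).1
      have hkN : (k : G) ∈ Subgroup.normalizer (D.Q : Set G) :=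
        centralizer_le_normalizer' D.Q hkC
      refine ⟨hkN, Subtype.ext (funext fun y => ?_)⟩
      show (D.φ : D.K → ℂ) (conjK D.hQ D.hK (inv_mem hkN) y) = (D.φ : D.K → ℂ) y
      rw [show conjK D.hQ D.hK (inv_mem hkN) y = k⁻¹ * y * k⁻¹⁻¹ from Subtype.ext rfl,
        isClassFunction_irr D.φ y k⁻¹]
    obtain ⟨a, γ, ha, he⟩ := hdec _ hkS
    refine ⟨γ, ?_⟩
    by_cases ha1 : a = 1
    · rw [he, ha1, one_mul]
    · exfalso
      have hcm : Commute a (ι γ) := by
        have h := commute_K D.hQ D.hK ha k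
        rw [he] at h
        show a * ι γ = ι γ * a
        exact mul_left_cancel (a := a) (h.eq.trans (by simp only [mul_assoc]))
      have h1 : IsPPart p (k : G) a := ⟨ι γ, he.symm, hcm,
        ⟨1, by rw [orderOf_eq_p D.hQ ha ha1, pow_one]⟩, hreg' γ⟩
      exact ha1 (isPPart_unique hp h1 (isPPart_one_of_not_dvd (regular_mem D.hQ D.hK k).2))
  let KΓ : Subgroup T' := D.K.comap ι
  let f : KΓ →* D.K :=
    { toFun := fun s => ⟨ι s, s.2⟩
      map_one' := Subtype.ext (map_one ι)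
      map_mul' := fun a b => Subtype.ext (map_mul ι _ _) }
  have hfsurj : Function.Surjective f := fun k => by
    obtain ⟨γ, hγ⟩ := hKι k
    exact ⟨⟨γ, show ι γ ∈ D.K by rw [hγ]; exact k.2⟩, Subtype.ext hγ⟩
  have hfbij : Function.Bijective f :=
    ⟨fun a b h => Subtype.ext (hι (congrArg (fun w : D.K => (w : G)) h :)), hfsurj⟩
  have hKn : KΓ.Normal := ⟨fun s hs γ => by
    show ι (γ * s * γ⁻¹) ∈ D.K
    rw [map_mul, map_mul, map_inv]
    exact conj_mem_K D.hQ D.hK (hιN γ) ⟨_, hs⟩⟩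
  let φΓ : IrrCharacter KΓ := ⟨fun s => (D.φ : D.K → ℂ) (f s),
    isIrrCharacter_comp_surjective D.φ.2 f hfsurj⟩
  let e : T' →* (ZMod p)ˣ :=
    D.expo.comp ((Subgroup.inclusion D.stab_le).comp T'.subtype)
  have hker : e.ker = KΓ := by
    ext γ
    rw [MonoidHom.mem_ker]
    exact (D.expo_eq_one_iff _).trans
      ⟨fun h => (D.hK _).mpr ⟨h, hreg' γ⟩, fun h => ((D.hK _).mp h).1⟩
  have hcyc : IsCyclic (T' ⧸ KΓ) :=
    isCyclic_of_injective ((QuotientGroup.kerLift e).comp (QuotientGroup.quotientMulEquivOfEq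
      (M := KΓ) (N := e.ker) hker.symm).toMonoidHom)
      ((QuotientGroup.kerLift_injective e).comp (MulEquiv.injective _))
  let _ : Fintype KΓ := Fintype.ofFinite _
  have hcardK : Fintype.card KΓ = Fintype.card D.K :=
    Fintype.card_of_bijective hfbij
  have hpK : ¬ p ∣ Fintype.card D.K := by
    rw [← hcardK]
    intro h
    exact hΓ (h.trans (by
      rw [← Nat.card_eq_fintype_card, ← Nat.card_eq_fintype_card]
      exact KΓ.card_subgroup_dvd_card))
  have hidem : MonoidAlgebra.mapDomainRingHom (unr p M) ι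
      (@idemUp T' _ KΓ (Fintype.ofFinite _) p M _ (φΓ : KΓ → ℂ)) =
      MonoidAlgebra.mapDomainRingHom (unr p M) D.K.subtype (idemU p M (D.φ : D.K → ℂ)) := by
    have hexp : idemU p M (D.φ : D.K → ℂ) =
        ∑ k : D.K, single k ((idemU p M (D.φ : D.K → ℂ)).coeff k) := ga_ext fun g => by
      rw [coeff_sum_apply, Finset.sum_eq_single g] <;> simp +contextual
    rw [idemUp, map_sum]
    conv_rhs => rw [hexp, map_sum]
    refine Fintype.sum_bijective f hfbij _ _ fun s => ?_
    simp only [MonoidAlgebra.mapDomainRingHom_apply, MonoidAlgebra.mapDomain_single]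
    refine congrArg₂ MonoidAlgebra.single rfl ?_
    refine Subtype.ext ?_
    have hΓK : ¬ p ∣ Fintype.card KΓ := hcardK ▸ hpK
    rw [← coeff_unrToC, ← coeff_unrToC, coe_idemU hM hΓK, coe_idemU hM hpK]
    simp only [charIdem, coeff_gaOfFun, Nat.card_eq_fintype_card, hcardK]
    show _ * ((D.φ : D.K → ℂ) (f 1) * _) = _
    rw [map_one]
  have := isPrincipalIdealRing_unr hM
  have : RingHomSurjective (resU p M) := ⟨resU_surjective hM⟩
  have hconj : ∀ {g : G} (hg : g ∈ Subgroup.normalizer (D.Q : Set G)),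
      single g (1 : unr p M) *
        MonoidAlgebra.mapDomainRingHom (unr p M) D.K.subtype (idemU p M (D.φ : D.K → ℂ)) =
      MonoidAlgebra.mapDomainRingHom (unr p M) D.K.subtype
        (idemU p M (conjKChar D.hQ D.hK hg D.φ : D.K → ℂ)) * single g 1 := by
    intro g hg
    have hexp : ∀ φ : D.K → ℂ, idemU p M φ =
        ∑ k : D.K, single k ((idemU p M φ).coeff k) := fun φ => ga_ext fun g => by
      rw [coeff_sum_apply, Finset.sum_eq_single g] <;> simp +contextual
    rw [hexp, hexp (conjKChar D.hQ D.hK hg D.φ : D.K → ℂ), map_sum, map_sum, Finset.mul_sum,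
      Finset.sum_mul]
    refine Fintype.sum_bijective (conjK D.hQ D.hK hg)
      (Finite.surjective_iff_bijective.mp (conjK_surjective D.hQ D.hK hg)) _ _ fun k => ?_
    simp only [MonoidAlgebra.mapDomainRingHom_apply, MonoidAlgebra.mapDomain_single, single_mul_single,
      one_mul, mul_one]
    refine congrArg₂ MonoidAlgebra.single ?_ ?_
    · show g * (k : G) = g * k * g⁻¹ * g
      group
    · refine Subtype.ext ?_
      rw [← coeff_unrToC, ← coeff_unrToC, coe_idemU hM hpK, coe_idemU hM hpK]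
      simp only [charIdem, coeff_gaOfFun]
      rw [conjKChar_apply, show (conjKChar D.hQ D.hK hg D.φ : D.K → ℂ) 1 = (D.φ : D.K → ℂ) 1 from
        (congrArg _ (map_one _))]
  let SD : SignData p M G T' :=
    { S := S
      Y1 := Y1
      P := D.Q
      y := D.x
      ι := ι
      K := KΓ
      φ := φΓ
      d := d
      hM := hM
      hval := hval
      hdeg := hdeg
      hreg := hreg
      hne := ⟨θ₀, hθ₀⟩
      hPcard := D.hQ
      hy := D.hx
      hy1 := D.hx1
      hΓ := hΓ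
      hι := hι
      hιN := hιN
      hKn := hKn
      hcyc := hcyc
      hinv := fun γ s => by
        obtain ⟨hN, hφ⟩ := γ.1.2
        show (D.φ : D.K → ℂ) (f _) = (D.φ : D.K → ℂ) (f s)
        have := congrFun (congrArg Subtype.val hφ) (conjK D.hQ D.hK hN (f s))
        rw [conjKChar_apply] at this
        rw [this]
        congr 1
      hKC := fun s => ((D.hK _).mp s.2).1
      hd := by
        show (D.φ : D.K → ℂ) (f 1) = d
        rw [map_one, hφ1]
      hN := fun g hg => by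
        by_cases hgS : g ∈ D.stab
        · obtain ⟨a, γ, ha, rfl⟩ := hdec g hgS
          refine Or.inl ⟨γ, (ι γ)⁻¹ * a * ι γ, ?_, by group⟩
          have := (Subgroup.mem_normalizer_iff.mp (inv_mem (hιN γ)) a).mp ha
          simpa using this
        · refine Or.inr ?_
          rw [hidem, mul_assoc, hconj hg, ← mul_assoc, ← map_mul,
            idemU_mul_eq_zero hM hpK, map_zero, zero_mul]
          exact fun h => hgS ⟨hg, h.symm⟩ }
  let _ : Fintype SD.K := Fintype.ofFinite _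
  refine SD.abs_le_one (c := c) (fun z hz hz1 => ?_) (Nat.pos_iff_ne_zero.mp hd)
    (Nat.pos_iff_ne_zero.mp hY1)
  obtain ⟨i, rfl⟩ := D.exists_xp_eq hz
  have hi : i ≠ 0 := fun h => hz1 (by rw [h, D.xp_zero])
  show ∑ s : KΓ, conj ((D.φ : D.K → ℂ) (f s)) * ∑ θ ∈ S, (θ : G → ℂ) (D.xp i * ι s) =
    (Fintype.card KΓ : ℂ) * c
  refine (Fintype.sum_bijective f hfbij _
    (fun k : D.K => conj ((D.φ : D.K → ℂ) k) * ∑ θ ∈ S, (θ : G → ℂ) (D.xp i * k)) fun s => rfl).trans ?_
  rw [hcardK, ← hc i hi]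
  simp only [dval, secMult, classInner, Nat.card_eq_fintype_card, Finset.mul_sum]
  conv_rhs => rw [Finset.sum_comm]
  refine Finset.sum_congr rfl fun k _ => Finset.sum_congr rfl fun θ _ => ?_
  rw [← mul_assoc, mul_inv_cancel₀ (Nat.cast_ne_zero.mpr Fintype.card_ne_zero), one_mul, mul_comm]

end CycSetup

end CfsgLib.Block.Cyclic
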