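import Cfsg.Agent.Lib.Block.Cyclic.SylowSetup
import Cfsg.Agent.Lib.Char.AutExtend

/-!
# `p`-conjugate characters in a block of full defect

An automorphism of `ℂ` fixing the roots of unity of order prime to `p` fixes the non-exceptional
characters of the block and permutes the exceptional ones transitively.
-/

open Finset
open scoped ComplexConjugate

set_option linter.unusedSectionVars false

namespace CfsgLib.Block.Cyclic

open Cfsg CfsgLib.Char

universe u

theorem stdPsi_natCast (p : ℕ) [NeZero p] (a : ℕ) :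
    stdPsi p (a : ZMod p) = Complex.exp (2 * Real.pi * Complex.I / (p : ℕ)) ^ a :=
  AddChar.zmodChar_apply' _ a

/-- An automorphism of `ℂ` multiplies the arguments of `stdPsi` by a unit. -/
theorem exists_unit_map_stdPsi (p : ℕ) [Fact p.Prime] (σ : ℂ ≃+* ℂ) :
    ∃ a : (ZMod p)ˣ, ∀ j : ZMod p, σ (stdPsi p j) = stdPsi p ((a : ZMod p) * j) := by
  have hp : p.Prime := Fact.out
  have hζ := Complex.isPrimitiveRoot_exp p hp.ne_zero
  obtain ⟨i, -, hi, hie⟩ := hζ.isPrimitiveRoot_iff.mp (hζ.map_of_injective σ.injective)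
  refine ⟨ZMod.unitOfCoprime i hi, fun j => ?_⟩
  conv_lhs => rw [← ZMod.natCast_zmod_val j, stdPsi_natCast, map_pow, ← hie, ← pow_mul, ← stdPsi_natCast]
  push_cast
  rw [ZMod.natCast_zmod_val, ZMod.coe_unitOfCoprime]

/-- Every unit is the exponent of an automorphism fixing the roots of unity of order `n`, prime to
`p`. -/
theorem exists_aut_stdPsi (p : ℕ) [Fact p.Prime] {n : ℕ} (hn : n ≠ 0) (hcop : n.Coprime p)
    (a : (ZMod p)ˣ) : ∃ σ : ℂ ≃+* ℂ,
      σ (Complex.exp (2 * Real.pi * Complex.I / (n : ℕ))) =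
          Complex.exp (2 * Real.pi * Complex.I / (n : ℕ)) ∧
        ∀ j : ZMod p, σ (stdPsi p j) = stdPsi p ((a : ZMod p) * j) := by
  obtain ⟨σ, h1, h2⟩ := exists_aut_fix_pow hn (Fact.out : p.Prime).ne_zero hcop
    (ZMod.val_coe_unit_coprime a)
  refine ⟨σ, h1, fun j => ?_⟩
  conv_lhs => rw [← ZMod.natCast_zmod_val j, stdPsi_natCast, map_pow, h2, ← pow_mul, ← stdPsi_natCast]
  push_cast
  rw [ZMod.natCast_zmod_val, ZMod.natCast_zmod_val]

namespace CycSetup

variable {p : ℕ} [Fact p.Prime] {G : Type u} [Group G] [Fintype G] [DecidableEq G]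

/-- A block of positive defect has the set-up of a Sylow subgroup of order `p`. -/
theorem exists_of_defect_pos {M : Ideal AlgInt} [M.IsMaximal] (hM : IsPModular p M)
    (hsq : ¬ p ^ 2 ∣ Nat.card G) {B : Set (IrrCharacter G)} (hB : IsPBlock M B)
    (hd : 0 < blockDefect p B) :
    ∃ (D : CycSetup p G) (_ : Fintype D.K), D.BlockData M B := by
  classical
  have := Fintype.ofFinite (IrrCharacter G)
  obtain ⟨Q, e, hmax⟩ := exists_maximalPair hM hB
  have hdef := isDefectGroup_of_maximal hM hmax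
  have hcard := defectGroup_card hM hB hdef
  have hd1 : blockDefect p B = 1 := by
    by_contra hne
    exact hsq ((pow_dvd_pow p (show 2 ≤ blockDefect p B by omega)).trans
      (hcard ▸ Subgroup.card_subgroup_dvd_card Q))
  rw [hd1, pow_one] at hcard
  obtain ⟨D', rfl⟩ := exists_cycSetup hcard hsq
  let _ : Fintype D'.K := Fintype.ofFinite _
  let _ : Fintype (Subgroup.centralizer (D'.Q : Set G)) := Fintype.ofFinite _
  obtain ⟨φ', hφ'⟩ := D'.exists_eq_blockOf_infl hM hmax.1.1.2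
  let D := D'.withChar φ'
  let _ : Fintype D.K := Fintype.ofFinite _
  let _ : Fintype (Subgroup.centralizer (D.Q : Set G)) := Fintype.ofFinite _
  have hQp : IsPGroup p D.Q := IsPGroup.of_card (n := 1) (by rw [hcard, pow_one])
  have hind := (isBrauerPairOf_iff_induced hM hB hQp D.Q_le_C).mp hmax.1
  have he : blockOf M (D.infl D.φ : D.C → ℂ) = e := by
    rw [hφ']
    congr 1
  exact ⟨D, inferInstance, D.blockData hM hdef (he.symm ▸ hind)⟩

variable (D : CycSetup p G) [Fintype D.K]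

theorem card_pPrime_coprime :
    (Nat.card G / p ^ (Nat.card G).factorization p).Coprime p ∧
      Nat.card G / p ^ (Nat.card G).factorization p ≠ 0 := by
  have hp : p.Prime := Fact.out
  refine ⟨?_, (Nat.ordCompl_pos p Nat.card_pos.ne').ne'⟩
  exact (Nat.coprime_ordCompl hp Nat.card_pos.ne').symm

theorem regular_dvd {g : G} (hg : ¬ p ∣ orderOf g) :
    orderOf g ∣ Nat.card G / p ^ (Nat.card G).factorization p := by
  have h := orderOf_dvd_natCard g
  rw [← Nat.ordProj_mul_ordCompl_eq_self (Nat.card G) p] at h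
  exact (Nat.Coprime.pow_right _ (((Fact.out : p.Prime).coprime_iff_not_dvd.mpr hg).symm)).dvd_of_dvd_mul_left h

/-- The twist of a character of the block is determined by the sections at `φ`. -/
theorem twist_eq_of_dval {M : Ideal AlgInt} {B : Set (IrrCharacter G)} (h : D.BlockData M B)
    {σ : ℂ ≃+* ℂ} (hfix : ∀ χ : G → ℂ, IsCharacter G χ → ∀ g : G, ¬ p ∣ orderOf g → σ (χ g) = χ g)
    (hfixK : ∀ φ' : IrrCharacter D.K, ∀ y, σ ((φ' : D.K → ℂ) y) = (φ' : D.K → ℂ) y)
    {χ ψ : IrrCharacter G} (hχ : χ ∈ B) (hψ : ψ ∈ B)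
    (hreg : ∀ g, ¬ p ∣ orderOf g → (χ : G → ℂ) g = (ψ : G → ℂ) g)
    (hdval : ∀ i : ZMod p, i ≠ 0 → σ (D.dval (χ : G → ℂ) i) = D.dval (ψ : G → ℂ) i) (g : G) :
    σ ((χ : G → ℂ) g) = (ψ : G → ℂ) g := by
  classical
  have := Fintype.ofFinite (IrrCharacter D.K)
  by_cases hg : p ∣ orderOf g
  · obtain ⟨c, i, y, hi, hgy⟩ := D.exists_section_conj hg
    rw [← isClassFunction_irr χ g c, ← isClassFunction_irr ψ g c, hgy,
      value_eq_sum D.hQ D.hK (isClassFunction_irr χ) (D.xp_mem i),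
      value_eq_sum D.hQ D.hK (isClassFunction_irr ψ) (D.xp_mem i), map_sum]
    refine Finset.sum_congr rfl fun φ' _ => ?_
    rw [map_mul, hfixK]
    congr 1
    by_cases ho : D.InOrbit φ'
    · obtain ⟨j, hj, hje⟩ := D.secMult_orbit (isClassFunction_irr χ) ho hi
      rw [hje _ (isClassFunction_irr χ), hje _ (isClassFunction_irr ψ), hdval j hj]
    · rw [h.sec_out χ hχ φ' ho i hi, h.sec_out ψ hψ φ' ho i hi, map_zero]
  · rw [hfix _ (isCharacter_irr χ) g hg, hreg g hg]

theorem fix_K {σ : ℂ ≃+* ℂ} {n : ℕ} [NeZero n] (hn : n = Nat.card G / p ^ (Nat.card G).factorization p)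
    (hσ : σ (Complex.exp (2 * Real.pi * Complex.I / (n : ℕ))) =
      Complex.exp (2 * Real.pi * Complex.I / (n : ℕ))) (φ' : IrrCharacter D.K) (y : D.K) :
    σ ((φ' : D.K → ℂ) y) = (φ' : D.K → ℂ) y :=
  fix_char_of_fix_exp hσ (isCharacter_irr φ') (by
    rw [hn, ← Subgroup.orderOf_coe]
    exact regular_dvd (regular_mem D.hQ D.hK y).2)

namespace Exceptional

variable {D} {M : Ideal AlgInt} {B : Set (IrrCharacter G)} (h : D.BlockData M B)
  (E : D.Exceptional B) {σ : ℂ ≃+* ℂ} {n : ℕ} [NeZero n]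
  (hn : n = Nat.card G / p ^ (Nat.card G).factorization p)
  (hσ : σ (Complex.exp (2 * Real.pi * Complex.I / (n : ℕ))) =
    Complex.exp (2 * Real.pi * Complex.I / (n : ℕ)))

include h hn hσ

theorem twist_u {χ : IrrCharacter G} (hu : E.u χ ≠ 0) (g : G) :
    σ ((χ : G → ℂ) g) = (χ : G → ℂ) g :=
  D.twist_eq_of_dval h (fun _ hc g hg => fix_char_of_fix_exp hσ hc (hn ▸ regular_dvd hg))
    (D.fix_K hn hσ) (E.mem_of_u hu) (E.mem_of_u hu) (fun _ _ => rfl)
    (fun i hi => by rw [E.dval_of_u hu hi, map_neg, map_intCast]) g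

theorem twist_Y {a : (ZMod p)ˣ} (ha : ∀ j : ZMod p, σ (stdPsi p j) = stdPsi p ((a : ZMod p) * j))
    (k : (ZMod p)ˣ ⧸ D.expE) (g : G) :
    σ ((E.Y k : G → ℂ) g) = (E.Y ((a : (ZMod p)ˣ ⧸ D.expE) * k) : G → ℂ) g := by
  classical
  refine D.twist_eq_of_dval h (fun _ hc g hg => fix_char_of_fix_exp hσ hc (hn ▸ regular_dvd hg))
    (D.fix_K hn hσ) (E.mem_of_range k) (E.mem_of_range _) (fun g hg => E.regular_eq _ _ g hg)
    (fun i hi => ?_) g
  rw [D.dval_eq_sum_vec _ hi, D.dval_eq_sum_vec _ hi, sum_zmod_split, sum_zmod_split, D.vec_zero,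
    D.vec_zero, Int.cast_zero, mul_zero, zero_add, zero_add, map_sum]
  refine Fintype.sum_equiv (Equiv.mulLeft a) _ _ fun j => ?_
  rw [map_mul, ha, map_intCast, Equiv.coe_mulLeft, E.vec_Y, E.vec_Y, Units.val_mul,
    QuotientGroup.mk_mul]
  congr 1
  · congr 1; ring
  · congr 2
    exact if_congr (mul_right_inj _).symm rfl rfl

end Exceptional

end CycSetup

end CfsgLib.Block.Cyclic
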