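import Cfsg.Agent.Lib.Block.Cyclic.OrbitCombinatorics
import Cfsg.Agent.Lib.Block.Cyclic.SylowFamily
import Cfsg.Agent.Lib.Block.Cyclic.SylowBlocks
import Cfsg.Agent.Lib.Block.Knorr

/-!
# Blocks of full defect for a Sylow subgroup of order `p`

`CycSetup.Exceptional`: the characters of the block are the `e` characters with `u χ = ±1` and the
exceptional characters `Y k`, indexed by the cosets of the group of exponents, and
`vec χ j = u χ + δ [χ = Y j]`.
-/

open Finset
open scoped ComplexConjugate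

set_option linter.unusedSectionVars false

namespace CfsgLib.Block.Cyclic

open Cfsg CfsgLib.Char

universe u

/-- A sum over `ZMod p` split at zero. -/
theorem sum_zmod_split {p : ℕ} [Fact p.Prime] {A : Type*} [AddCommMonoid A] (f : ZMod p → A) :
    ∑ j, f j = f 0 + ∑ j : (ZMod p)ˣ, f j := by
  rw [← Finset.add_sum_erase _ _ (Finset.mem_univ (0 : ZMod p))]
  congr 1
  refine (Finset.sum_bij (fun (j : (ZMod p)ˣ) _ => (j : ZMod p)) (fun j _ => ?_)
    (fun a _ b _ h => Units.ext h) (fun b hb => ?_) (fun _ _ => rfl)).symm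
  · exact Finset.mem_erase.mpr ⟨j.ne_zero, Finset.mem_univ _⟩
  · exact ⟨Units.mk0 b (Finset.mem_erase.mp hb).1, Finset.mem_univ _, rfl⟩

namespace CycSetup

variable {p : ℕ} [Fact p.Prime] {G : Type u} [Group G] [Fintype G] [DecidableEq G]
  (D : CycSetup p G) [Fintype D.K]

/-- What is used of a block: its defect is positive, only its characters have `φ` in their sections
and these only conjugates of `φ`. -/
structure BlockData (M : Ideal AlgInt) (B : Set (IrrCharacter G)) : Prop where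
  isBlock : IsPBlock M B
  defect_pos : 0 < blockDefect p B
  dval_out : ∀ χ : IrrCharacter G, χ ∉ B → ∀ i : ZMod p, i ≠ 0 → D.dval (χ : G → ℂ) i = 0
  sec_out : ∀ χ ∈ B, ∀ φ' : IrrCharacter D.K, ¬ D.InOrbit φ' → ∀ i : ZMod p, i ≠ 0 →
    secMult (χ : G → ℂ) (φ' : D.K → ℂ) (D.xp i) = 0

theorem blockData [Fintype (Subgroup.centralizer (D.Q : Set G))] {M : Ideal AlgInt} [M.IsMaximal]
    (hM : IsPModular p M) {B : Set (IrrCharacter G)} (hdef : IsDefectGroup p M B D.Q)
    (hind : IsInducedBlock M D.C (blockOf M (D.infl D.φ : D.C → ℂ)) B) : D.BlockData M B where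
  isBlock := hind.2.1
  defect_pos := by
    have h := defectGroup_card hM hind.2.1 hdef
    rw [D.hQ] at h
    refine Nat.pos_of_ne_zero fun h0 => (Fact.out : p.Prime).ne_one ?_
    rw [h, h0, pow_zero]
  dval_out χ hχ i hi := D.secMult_eq_zero_of_not_mem hM hind hχ hi
  sec_out χ hχ φ' ho i hi := D.secMult_eq_zero_of_not_inOrbit hM hdef hind hχ ho hi

/-! ### The orbit -/

theorem centralizer_le_stab [Fintype (Subgroup.centralizer (D.Q : Set G))] : D.C ≤ D.stab := by
  intro c hc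
  have hcN := centralizer_le_normalizer' D.Q hc
  obtain ⟨i, hi⟩ := D.exists_xp_mul_proj ⟨c, hc⟩
  refine ⟨hcN, Subtype.ext (funext fun y => ?_)⟩
  set k := D.proj ⟨c, hc⟩
  show (D.φ : D.K → ℂ) (conjK D.hQ D.hK (inv_mem hcN) y) = (D.φ : D.K → ℂ) y
  rw [show conjK D.hQ D.hK (inv_mem hcN) y = k⁻¹ * y * k⁻¹⁻¹ from Subtype.ext (by
    show c⁻¹ * (y : G) * c⁻¹⁻¹ = (k : G)⁻¹ * y * (k : G)⁻¹⁻¹
    rw [show c = D.xp i * (k : G) from hi, mul_inv_rev, inv_inv]
    have h := commute_K D.hQ D.hK (D.Q.inv_mem (D.xp_mem i)) y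
    rw [mul_assoc ((k : G)⁻¹) ((D.xp i)⁻¹) (y : G), h.eq]
    group), isClassFunction_irr D.φ y k⁻¹]

theorem card_orbit :
    Nat.card {φ' : IrrCharacter D.K // D.InOrbit φ'} =
      D.stab.relIndex (Subgroup.normalizer (D.Q : Set G)) := by
  classical
  set N := Subgroup.normalizer (D.Q : Set G)
  have hiff : ∀ a b : N, (QuotientGroup.leftRel (D.stab.subgroupOf N)) a b ↔
      conjKChar D.hQ D.hK a.2 D.φ = conjKChar D.hQ D.hK b.2 D.φ := by
    intro a b
    rw [QuotientGroup.leftRel_apply, Subgroup.mem_subgroupOf, Subgroup.coe_mul, Subgroup.coe_inv]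
    constructor
    · rintro ⟨hn, h⟩
      conv_lhs => rw [← h]
      rw [D.conjKChar_conjKChar]
      congr 1
      group
    · intro h
      refine ⟨mul_mem (inv_mem a.2) b.2, ?_⟩
      rw [← D.conjKChar_conjKChar (inv_mem a.2) b.2, ← h, D.conjKChar_conjKChar]
      refine Subtype.ext (funext fun y => congrArg (D.φ : D.K → ℂ) (Subtype.ext ?_))
      exact (show ((a : G)⁻¹ * a)⁻¹ * (y : G) * ((a : G)⁻¹ * a)⁻¹⁻¹ = y by group)
  rw [Subgroup.relIndex, Subgroup.index]
  refine (Nat.card_congr (Equiv.ofBijective (Quotient.lift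
    (fun a : N => (⟨conjKChar D.hQ D.hK a.2 D.φ, a, a.2, rfl⟩ : {φ' // D.InOrbit φ'}))
    fun a b h => Subtype.ext ((hiff a b).mp h)) ⟨?_, ?_⟩)).symm
  · rintro ⟨a⟩ ⟨b⟩ h
    exact Quotient.sound ((hiff a b).mpr (congrArg Subtype.val h))
  · rintro ⟨φ', n, hn, rfl⟩
    exact ⟨Quotient.mk _ ⟨n, hn⟩, rfl⟩

theorem secMult_one_orbit {χ : G → ℂ} (hχ : IsClassFunction G χ) {φ' : IrrCharacter D.K}
    (h : D.InOrbit φ') : secMult χ (φ' : D.K → ℂ) 1 = D.dval χ 0 := by
  obtain ⟨n, hn, rfl⟩ := h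
  rw [dval, D.xp_zero, ← secMult_conj D.hQ D.hK hχ hn D.φ 1, mul_one, mul_inv_cancel]

theorem secMult_one_zero (χ : IrrCharacter G) (φ' : IrrCharacter D.K)
    (h : ∀ i : ZMod p, i ≠ 0 → secMult (χ : G → ℂ) (φ' : D.K → ℂ) (D.xp i) = 0) :
    ∃ m : ℕ, secMult (χ : G → ℂ) (φ' : D.K → ℂ) 1 = p * m := by
  let D' : CycSetup p G := { D with φ := φ' }
  let _ : Fintype D'.K := ‹Fintype D.K›
  obtain ⟨m, hm⟩ := D'.mult_nat (isCharacter_irr χ) 0
  refine ⟨m, ?_⟩
  rw [mult, Finset.sum_eq_single 0 (fun i _ hi => by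
      rw [show D'.dval (χ : G → ℂ) i = 0 from h i hi, mul_zero])
    (fun hn => absurd (Finset.mem_univ _) hn), zero_mul, neg_zero, AddChar.map_zero_eq_one,
    one_mul] at hm
  rw [← hm, ← mul_assoc, mul_inv_cancel₀ (Nat.cast_ne_zero.mpr (Fact.out : p.Prime).ne_zero),
    one_mul, dval, D'.xp_zero]

theorem charDegree_conjKChar {n : G} (hn : n ∈ Subgroup.normalizer (D.Q : Set G))
    (φ' : IrrCharacter D.K) :
    (conjKChar D.hQ D.hK hn φ' : D.K → ℂ) 1 = (φ' : D.K → ℂ) 1 :=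
  congrArg (φ' : D.K → ℂ) (map_one _)

/-- The degree of a character of the block modulo `p`. -/
theorem charDegree_modEq {M : Ideal AlgInt} {B : Set (IrrCharacter G)} (h : D.BlockData M B)
    {χ : IrrCharacter G} (hχ : χ ∈ B) :
    (charDegree (χ : G → ℂ) : ℤ) ≡ (D.stab.relIndex (Subgroup.normalizer (D.Q : Set G)) : ℤ) *
      charDegree (D.φ : D.K → ℂ) * ∑ j : (ZMod p)ˣ, D.vec χ j [ZMOD p] := by
  classical
  have := Fintype.ofFinite (IrrCharacter D.K)
  set S := ∑ j : (ZMod p)ˣ, D.vec χ j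
  set d := charDegree (D.φ : D.K → ℂ)
  have h0 : D.dval (χ : G → ℂ) 0 = (p : ℂ) * (D.multN χ 0 : ℂ) + (S : ℂ) := by
    rw [D.dval_eq_sum_mult]
    simp only [zero_mul, AddChar.map_zero_eq_one, one_mul, D.mult_eq]
    rw [sum_zmod_split]
    simp only [S, vec]
    push_cast
    rw [Finset.sum_sub_distrib, Finset.sum_const, Finset.card_univ, ZMod.card_units_eq_totient,
      Nat.totient_prime (Fact.out : p.Prime), nsmul_eq_mul,
      Nat.cast_sub (Fact.out : p.Prime).one_lt.le]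
    ring
  have hterm : ∀ φ' : IrrCharacter D.K, ∃ m : ℤ,
      secMult (χ : G → ℂ) (φ' : D.K → ℂ) 1 * (φ' : D.K → ℂ) 1 =
        ((if D.InOrbit φ' then (d : ℤ) * S else 0 : ℤ) : ℂ) + (p : ℂ) * (m : ℂ) := by
    intro φ'
    by_cases ho : D.InOrbit φ'
    · refine ⟨(d : ℤ) * D.multN χ 0, ?_⟩
      rw [D.secMult_one_orbit (isClassFunction_irr χ) ho, h0, if_pos ho]
      obtain ⟨n, hn, rfl⟩ := ho
      rw [D.charDegree_conjKChar, (charDegree_eq D.φ).1]
      push_cast
      ring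
    · obtain ⟨m, hm⟩ := D.secMult_one_zero χ φ' (h.sec_out χ hχ φ' ho)
      refine ⟨(m : ℤ) * charDegree (φ' : D.K → ℂ), ?_⟩
      rw [hm, if_neg ho, (charDegree_eq φ').1]
      push_cast
      ring
  choose m hm using hterm
  have hsum : (χ : G → ℂ) 1 = ∑ φ' : IrrCharacter D.K,
      secMult (χ : G → ℂ) (φ' : D.K → ℂ) 1 * (φ' : D.K → ℂ) 1 := by
    have hv := value_eq_sum D.hQ D.hK (isClassFunction_irr χ) D.Q.one_mem 1
    rwa [OneMemClass.coe_one, mul_one] at hv
  rw [Finset.sum_congr rfl fun φ' _ => hm φ', (charDegree_eq χ).1, Finset.sum_add_distrib,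
    ← Finset.mul_sum, ← Int.cast_sum, ← Int.cast_sum, Finset.sum_ite, Finset.sum_const,
    Finset.sum_const_zero, add_zero, ← Fintype.card_subtype, ← Nat.card_eq_fintype_card,
    D.card_orbit, nsmul_eq_mul] at hsum
  have e : (charDegree (χ : G → ℂ) : ℤ) =
      (D.stab.relIndex (Subgroup.normalizer (D.Q : Set G)) : ℤ) * ((d : ℤ) * S) +
        (p : ℤ) * ∑ φ', m φ' := by exact_mod_cast hsum
  rw [Int.modEq_iff_dvd, e]
  exact ⟨-∑ φ', m φ', by ring⟩

/-! ### The vectors -/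

theorem vec_eq_zero {χ : IrrCharacter G} (h : ∀ i : ZMod p, i ≠ 0 → D.dval (χ : G → ℂ) i = 0)
    (j : ZMod p) : D.vec χ j = 0 := by
  have e := D.coe_vec χ j
  rw [Finset.sum_eq_zero fun i _ => ?_, mul_zero] at e
  · exact_mod_cast e
  · by_cases hi : i = 0
    · subst hi; simp [AddChar.map_zero_eq_one]
    · rw [h i hi, mul_zero]

theorem dval_of_const {χ : IrrCharacter G} {a : ℤ} (h : ∀ j : (ZMod p)ˣ, D.vec χ j = a)
    {i : ZMod p} (hi : i ≠ 0) : D.dval (χ : G → ℂ) i = -(a : ℂ) := by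
  have hs : ∑ j : ZMod p, stdPsi p (i * j) = 0 := by
    rw [Finset.sum_congr rfl fun j _ => by rw [mul_comm i j], sum_stdPsi_mul, if_neg hi]
  rw [sum_zmod_split, mul_zero, AddChar.map_zero_eq_one] at hs
  rw [D.dval_eq_sum_vec χ hi, sum_zmod_split, D.vec_zero]
  simp only [h, Int.cast_zero, mul_zero, zero_add, ← Finset.sum_mul]
  linear_combination (a : ℂ) * hs

/-- The exceptional family of a block. -/
structure Exceptional (B : Set (IrrCharacter G)) where
  /-- the exceptional characters -/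
  Y : (ZMod p)ˣ ⧸ D.expE → IrrCharacter G
  /-- their sign -/
  δ : ℤ
  /-- the signs of the other characters -/
  u : IrrCharacter G → ℤ
  inj : Function.Injective Y
  sign : δ = 1 ∨ δ = -1
  u_Y : ∀ k, u (Y k) = 0
  u_cases : ∀ χ, u χ = 0 ∨ u χ = 1 ∨ u χ = -1
  vec_eq : ∀ (χ : IrrCharacter G) (j : (ZMod p)ˣ) [Decidable (χ = Y j)],
    D.vec χ j = u χ + δ * (if χ = Y j then 1 else 0)
  card_u : Nat.card {χ : IrrCharacter G // u χ ≠ 0} = Nat.card D.expE
  mem : ∀ χ, χ ∈ B ↔ u χ ≠ 0 ∨ χ ∈ Set.range Y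
  regular_eq : ∀ k l, ∀ g : G, ¬ p ∣ orderOf g → (Y k : G → ℂ) g = (Y l : G → ℂ) g

theorem exists_exceptional_family {M : Ideal AlgInt} [M.IsMaximal] (hM : IsPModular p M)
    {B : Set (IrrCharacter G)} (h : D.BlockData M B) : Nonempty (D.Exceptional B) := by
  classical
  have := Fintype.ofFinite (IrrCharacter G)
  have := Fintype.ofFinite ((ZMod p)ˣ ⧸ D.expE)
  let v : (ZMod p)ˣ ⧸ D.expE → IrrCharacter G → ℤ := fun k χ => D.vec χ (k.out : (ZMod p)ˣ)
  have hv : ∀ (χ : IrrCharacter G) (j : (ZMod p)ˣ), v (j : (ZMod p)ˣ ⧸ D.expE) χ = D.vec χ j := by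
    intro χ j
    obtain ⟨r, hr⟩ := QuotientGroup.mk_out_eq_mul D.expE j
    show D.vec χ _ = _
    rw [hr, Units.val_mul, mul_comm]
    exact D.vec_smul_expE χ r.2 _
  have hin : ∀ k χ, v k χ ≠ 0 → χ ∈ B := by
    intro k χ hne
    by_contra hχ
    exact hne (D.vec_eq_zero (h.dval_out χ hχ) _)
  have hdeg : ∀ χ : IrrCharacter G, (0 : ℤ) < charDegree (χ : G → ℂ) := fun χ => by
    exact_mod_cast Nat.pos_of_ne_zero (charDegree_eq χ).2
  have h0 : ∀ k, ∑ χ, v k χ * (charDegree (χ : G → ℂ) : ℤ) = 0 := by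
    intro k
    have e := D.sum_vec_regular (((k.out : (ZMod p)ˣ)) : ZMod p) (g := 1)
      (by simp [(Fact.out : p.Prime).ne_one])
    simp only [(charDegree_eq _).1] at e
    exact_mod_cast e
  have hip : ∀ k l, ∑ χ, v k χ * v l χ = (Nat.card D.expE : ℤ) + if k = l then 1 else 0 := by
    intro k l
    show ∑ χ, D.vec χ _ * D.vec χ _ = _
    rw [D.sum_vec_mul_vec (Units.ne_zero _) (Units.ne_zero _)]
    congr 1
    refine if_congr ⟨?_, ?_⟩ rfl rfl
    · rintro ⟨r, hr, e⟩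
      have e' : r * l.out = k.out := Units.ext e
      have := congrArg (QuotientGroup.mk : (ZMod p)ˣ → (ZMod p)ˣ ⧸ D.expE) e'
      rw [QuotientGroup.mk_mul, (QuotientGroup.eq_one_iff r).mpr hr, one_mul,
        QuotientGroup.out_eq', QuotientGroup.out_eq'] at this
      exact this.symm
    · rintro rfl
      exact ⟨1, D.expE.one_mem, by simp⟩
  have hreg : ∀ (Y : (ZMod p)ˣ ⧸ D.expE → IrrCharacter G) (δ : ℤ), (δ = 1 ∨ δ = -1) →
      (∀ k l i, v k i - v l i = δ * ((if i = Y k then 1 else 0) - (if i = Y l then 1 else 0))) →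
      ∀ k l, ∀ g : G, ¬ p ∣ orderOf g → (Y k : G → ℂ) g = (Y l : G → ℂ) g := by
    intro Y δ hδ hY k l g hg
    have e1 := D.sum_vec_regular (((k.out : (ZMod p)ˣ)) : ZMod p) hg
    have e2 := D.sum_vec_regular (((l.out : (ZMod p)ˣ)) : ZMod p) hg
    have e3 : ∑ χ : IrrCharacter G, ((v k χ - v l χ : ℤ) : ℂ) * (χ : G → ℂ) g = 0 := by
      simp only [Int.cast_sub, sub_mul, Finset.sum_sub_distrib]
      exact (congrArg₂ (· - ·) e1 e2).trans (sub_self 0)
    rw [Finset.sum_congr rfl (g := fun χ : IrrCharacter G =>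
      (δ : ℂ) * (if χ = Y k then (χ : G → ℂ) g else 0) -
        (δ : ℂ) * (if χ = Y l then (χ : G → ℂ) g else 0)) fun χ _ => by
      rw [hY]; push_cast; split_ifs <;> ring] at e3
    rw [Finset.sum_sub_distrib, ← Finset.mul_sum, ← Finset.mul_sum, Finset.sum_ite_eq',
      Finset.sum_ite_eq', if_pos (Finset.mem_univ _), if_pos (Finset.mem_univ _), ← mul_sub,
      mul_eq_zero, sub_eq_zero] at e3
    refine e3.resolve_left ?_
    rcases hδ with rfl | rfl <;> simp
  have hbound : ∀ (S : Finset (IrrCharacter G)) (s : ℤ), S.Nonempty → (∀ θ ∈ S, θ ∈ B) →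
      (∀ θ ∈ S, ∀ θ' ∈ S, ∀ g, ¬ p ∣ orderOf g → (θ : G → ℂ) g = (θ' : G → ℂ) g) →
      (∀ k, ∑ θ ∈ S, v k θ = s) → |s| ≤ 1 := by
    intro S s hne hSB hSreg hs
    rw [← abs_neg]
    refine D.abs_family_le_one hM hne hSreg
      (fun θ hθ φ' ho i hi => h.sec_out θ (hSB θ hθ) φ' ho i hi) fun i hi => ?_
    rw [Finset.sum_congr rfl fun θ _ => D.dval_eq_sum_vec θ hi, Finset.sum_comm, sum_zmod_split]
    have hψ : ∑ j : ZMod p, stdPsi p (i * j) = 0 := by
      rw [Finset.sum_congr rfl fun j _ => by rw [mul_comm i j], sum_stdPsi_mul, if_neg hi]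
    rw [sum_zmod_split, mul_zero, AddChar.map_zero_eq_one] at hψ
    simp only [D.vec_zero, Int.cast_zero, mul_zero, Finset.sum_const_zero, zero_add, ← Finset.mul_sum,
      ← Int.cast_sum, ← hv, hs, ← Finset.sum_mul, Int.cast_neg]
    linear_combination (s : ℂ) * hψ
  obtain ⟨Y, δ, u, hY, hδ, hu0, hu, hvu, hcard⟩ := exists_exceptional v (Nat.card D.expE)
    (fun χ => (charDegree (χ : G → ℂ) : ℤ)) hdeg h0 hip
    (fun χ hc k => by
      by_cases hz : v k χ = 0
      · simp [hz]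
      · exact hbound {χ} _ (Finset.singleton_nonempty χ)
          (by simpa using hin k χ hz) (by simp) (fun l => by simpa using hc l k))
    (fun Y δ hY hδ hvY k => by
      by_cases hall : ∀ l, Y l ∈ B
      · have hs : ∀ k', ∑ l, v k' (Y l) = ∑ l, v k (Y l) := fun k' => by
          rw [← sub_eq_zero, ← Finset.sum_sub_distrib,
            Finset.sum_congr rfl fun l _ => hvY k' k (Y l)]
          simp [← Finset.mul_sum, Finset.sum_sub_distrib, hY.eq_iff]
        refine hbound (Finset.univ.image Y) _ ⟨Y k, Finset.mem_image_of_mem _ (Finset.mem_univ _)⟩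
          (by simpa using hall) ?_ fun k' => ?_
        · intro θ hθ θ' hθ'
          obtain ⟨a, -, rfl⟩ := Finset.mem_image.mp hθ
          obtain ⟨b, -, rfl⟩ := Finset.mem_image.mp hθ'
          exact hreg Y δ hδ hvY a b
        · rw [Finset.sum_image fun a _ b _ e => hY e]
          exact hs k'
      · push Not at hall
        obtain ⟨l, hl⟩ := hall
        have hz : ∀ k', v k' (Y l) = 0 := fun k' => by
          by_contra hne
          exact hl (hin k' _ hne)
        have huniq : ∀ k', k' = l := fun k' => by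
          by_contra hne
          have := hvY l k' (Y l)
          rw [hz, hz, if_pos rfl, if_neg fun e => hne (hY e).symm] at this
          rcases hδ with rfl | rfl <;> omega
        rw [Finset.sum_eq_zero fun l' _ => by rw [huniq l', hz]]
        simp)
  refine ⟨⟨Y, δ, u, hY, hδ, hu0, hu, fun χ j _ => ?_, ?_, fun χ => ?_,
    hreg Y δ hδ fun k l i => by rw [hvu k i, hvu l i]; ring⟩⟩
  · rw [← hv, hvu]
    by_cases he : χ = Y j
    · rw [if_pos he, if_pos he]
    · rw [if_neg he, if_neg he]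
  · rw [Nat.card_eq_fintype_card (α := {χ // u χ ≠ 0}), Fintype.card_subtype]
    exact hcard
  · constructor
    · intro hχ
      by_contra hne
      push Not at hne
      have hz : ∀ j : ZMod p, D.vec χ j = 0 := by
        intro j
        by_cases hj : j = 0
        · rw [hj, D.vec_zero]
        · rw [← Units.val_mk0 hj, ← hv, hvu, hne.1, if_neg fun e => hne.2 ⟨_, e.symm⟩]
          ring
      refine h.defect_pos.ne' (blockDefect_eq_zero_of_vanishes hM h.isBlock hχ fun g hg => ?_)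
      obtain ⟨c, i, y, hi, hgy⟩ := D.exists_section_conj (g := g) (by rw [hg])
      have := Fintype.ofFinite (IrrCharacter D.K)
      rw [← isClassFunction_irr χ g c, hgy,
        value_eq_sum D.hQ D.hK (isClassFunction_irr χ) (D.xp_mem i) y]
      refine Finset.sum_eq_zero fun φ' _ => ?_
      rw [show secMult (χ : G → ℂ) (φ' : D.K → ℂ) (D.xp i) = 0 from ?_, zero_mul]
      by_cases ho : D.InOrbit φ'
      · obtain ⟨j, hj, hje⟩ := D.secMult_orbit (isClassFunction_irr χ) ho hi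
        rw [hje _ (isClassFunction_irr χ), D.dval_eq_sum_vec χ hj]
        simp [hz]
      · exact h.sec_out χ hχ φ' ho i hi
    · rintro (hne | ⟨k, rfl⟩)
      · refine hin (Classical.arbitrary _) χ ?_
        rw [hvu, if_neg fun e => hne (by rw [e, hu0])]
        simpa using hne
      · refine hin k _ ?_
        rw [hvu, hu0, if_pos rfl]
        rcases hδ with rfl | rfl <;> simp

namespace Exceptional

variable {D} {B : Set (IrrCharacter G)} (E : D.Exceptional B)

theorem mem_of_u {χ : IrrCharacter G} (h : E.u χ ≠ 0) : χ ∈ B := (E.mem χ).mpr (Or.inl h)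

theorem mem_of_range (k : (ZMod p)ˣ ⧸ D.expE) : E.Y k ∈ B := (E.mem _).mpr (Or.inr ⟨k, rfl⟩)

theorem eq_union : B = {χ | E.u χ ≠ 0} ∪ Set.range E.Y := Set.ext E.mem

theorem disjoint : Disjoint {χ | E.u χ ≠ 0} (Set.range E.Y) :=
  Set.disjoint_left.mpr fun χ h => by
    rintro ⟨k, rfl⟩
    exact h (E.u_Y k)

theorem card_range : Nat.card (Set.range E.Y) = (p - 1) / Nat.card D.expE := by
  rw [Nat.card_range_of_injective E.inj,
    show p - 1 = Nat.card ((ZMod p)ˣ ⧸ D.expE) * Nat.card D.expE from ?_,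
    Nat.mul_div_cancel _ Nat.card_pos]
  rw [← D.expE.card_eq_card_quotient_mul_card_subgroup, Nat.card_eq_fintype_card,
    ZMod.card_units_eq_totient, Nat.totient_prime (Fact.out : p.Prime)]

theorem card_block (E : D.Exceptional B) :
    Nat.card B = Nat.card D.expE + (p - 1) / Nat.card D.expE := by
  rw [E.eq_union, Nat.card_coe_set_eq, Set.ncard_union_eq E.disjoint (Set.toFinite _)
    (Set.toFinite _), ← Nat.card_coe_set_eq, ← Nat.card_coe_set_eq, E.card_range, ← E.card_u]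
  rfl

theorem vec_of_u {χ : IrrCharacter G} (h : E.u χ ≠ 0) (j : (ZMod p)ˣ) : D.vec χ j = E.u χ := by
  classical
  rw [E.vec_eq, if_neg fun e => h (by rw [e, E.u_Y]), mul_zero, add_zero]

theorem vec_Y (k : (ZMod p)ˣ ⧸ D.expE) (j : (ZMod p)ˣ)
    [Decidable (k = (j : (ZMod p)ˣ ⧸ D.expE))] :
    D.vec (E.Y k) j = E.δ * (if k = j then 1 else 0) := by
  classical
  rw [E.vec_eq, E.u_Y, zero_add]
  congr 1
  exact if_congr E.inj.eq_iff rfl rfl

theorem dval_of_u {χ : IrrCharacter G} (h : E.u χ ≠ 0) {i : ZMod p} (hi : i ≠ 0) :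
    D.dval (χ : G → ℂ) i = -(E.u χ : ℂ) :=
  D.dval_of_const (E.vec_of_u h) hi

/-- The relation on the regular elements. -/
theorem relation (k : (ZMod p)ˣ ⧸ D.expE) {g : G} (hg : ¬ p ∣ orderOf g) :
    (∑ᶠ χ ∈ {χ : IrrCharacter G | E.u χ ≠ 0}, (E.u χ : ℂ) * (χ : G → ℂ) g) +
      (E.δ : ℂ) * (E.Y k : G → ℂ) g = 0 := by
  classical
  have := Fintype.ofFinite (IrrCharacter G)
  obtain ⟨j, rfl⟩ := QuotientGroup.mk_surjective k
  rw [← D.sum_vec_regular (j : ZMod p) hg]
  simp only [E.vec_eq, Int.cast_add, Int.cast_mul, add_mul, Finset.sum_add_distrib]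
  congr 1
  · rw [finsum_mem_eq_toFinset_sum]
    refine Finset.sum_subset (Finset.subset_univ _) fun χ _ hχ => ?_
    rw [Set.mem_toFinset, Set.mem_ofPred_eq, not_not] at hχ
    rw [hχ, Int.cast_zero, zero_mul]
  · rw [Finset.sum_eq_single (E.Y j)]
    · rw [if_pos rfl, Int.cast_one, mul_one]
    · intro χ _ hne
      rw [if_neg hne, Int.cast_zero, mul_zero, zero_mul]
    · simp

theorem charDegree_u {M : Ideal AlgInt} (h : D.BlockData M B) {χ : IrrCharacter G} (hu : E.u χ ≠ 0) :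
    (charDegree (χ : G → ℂ) : ℤ) ≡ -(E.u χ) *
      ((D.stab.relIndex (Subgroup.normalizer (D.Q : Set G)) : ℤ) * charDegree (D.φ : D.K → ℂ))
      [ZMOD p] := by
  refine (D.charDegree_modEq h (E.mem_of_u hu)).trans ?_
  simp only [E.vec_of_u hu, Finset.sum_const, Finset.card_univ, ZMod.card_units_eq_totient,
    Nat.totient_prime (Fact.out : p.Prime), nsmul_eq_mul]
  rw [Int.modEq_iff_dvd, Nat.cast_sub (Fact.out : p.Prime).one_lt.le]
  exact ⟨-(E.u χ * ((D.stab.relIndex (Subgroup.normalizer (D.Q : Set G)) : ℤ) *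
    charDegree (D.φ : D.K → ℂ))), by push_cast; ring⟩

theorem charDegree_Y {M : Ideal AlgInt} (h : D.BlockData M B) (k : (ZMod p)ˣ ⧸ D.expE) :
    (charDegree (E.Y k : G → ℂ) : ℤ) ≡ E.δ * ((Nat.card D.expE : ℤ) *
      (D.stab.relIndex (Subgroup.normalizer (D.Q : Set G)) : ℤ) * charDegree (D.φ : D.K → ℂ))
      [ZMOD p] := by
  classical
  refine (D.charDegree_modEq h (E.mem_of_range k)).trans ?_
  simp only [E.vec_Y, ← Finset.mul_sum, Finset.sum_boole]
  have hc : (Finset.univ.filter fun j : (ZMod p)ˣ => k = (j : (ZMod p)ˣ ⧸ D.expE)).card =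
      Nat.card D.expE := by
    have hp := QuotientGroup.card_preimage_mk D.expE {k}
    rw [Nat.card_unique (α := ({k} : Set ((ZMod p)ˣ ⧸ D.expE))), mul_one] at hp
    rw [← hp, ← Fintype.card_subtype, ← Nat.card_eq_fintype_card]
    exact Nat.card_congr (Equiv.subtypeEquivRight fun j => ⟨fun e => e.symm, fun e => e.symm⟩)
  rw [hc]
  rw [show (D.stab.relIndex (Subgroup.normalizer (D.Q : Set G)) : ℤ) * charDegree (D.φ : D.K → ℂ) *
    (E.δ * (Nat.card D.expE : ℤ)) = E.δ * ((Nat.card D.expE : ℤ) *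
      (D.stab.relIndex (Subgroup.normalizer (D.Q : Set G)) : ℤ) * charDegree (D.φ : D.K → ℂ)) by ring]

end Exceptional

end CycSetup

end CfsgLib.Block.Cyclic
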