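import Cfsg.Agent.Lib.Block.Subsection
import Cfsg.Agent.Lib.Char.Product
import Mathlib.GroupTheory.SchurZassenhaus
import Mathlib.NumberTheory.LegendreSymbol.AddCharacter
import Mathlib.RingTheory.RootsOfUnity.Complex

/-!
# Sections of a subgroup of order `p`

`K` is the group of `p`-regular elements of the centraliser of a Sylow subgroup `Q` of order `p`;
`secMult χ φ x` is the multiplicity of `φ` in `y ↦ χ (x y)` on `K`.
-/

open Finset
open scoped ComplexConjugate

set_option linter.unusedSectionVars false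

namespace CfsgLib.Block.Cyclic

open Cfsg CfsgLib.Char

universe u

variable {p : ℕ} [Fact p.Prime] {G : Type u} [Group G] [Fintype G] [DecidableEq G]

theorem mem_centralizer_iff_commute {Q : Subgroup G} (hQ : Nat.card Q = p) {x : G} (hx : x ∈ Q)
    (hx1 : x ≠ 1) (t : G) : t ∈ Subgroup.centralizer (Q : Set G) ↔ Commute t x := by
  refine ⟨fun h => (Subgroup.mem_centralizer_iff.mp h x hx).symm, fun h => ?_⟩
  rw [Subgroup.mem_centralizer_iff]
  intro u hu
  have hz : Subgroup.zpowers x = Q := Subgroup.eq_of_le_of_card_ge (Subgroup.zpowers_le.mpr hx) (by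
    rw [hQ, Nat.card_zpowers]
    have : x ^ p = 1 := by
      have h1 : (⟨x, hx⟩ : Q) ^ Nat.card Q = 1 := pow_card_eq_one'
      rw [hQ] at h1
      exact congrArg Subtype.val h1
    rw [orderOf_eq_prime this hx1])
  rw [SetLike.mem_coe, ← hz] at hu
  obtain ⟨i, rfl⟩ := hu
  exact ((h.zpow_right i).symm).eq

theorem orderOf_eq_p {Q : Subgroup G} (hQ : Nat.card Q = p) {x : G} (hx : x ∈ Q) (hx1 : x ≠ 1) :
    orderOf x = p := by
  have h : (⟨x, hx⟩ : Q) ^ Nat.card Q = 1 := pow_card_eq_one'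
  rw [hQ] at h
  exact orderOf_eq_prime (congrArg Subtype.val h) hx1

/-- The `p`-regular elements of the centraliser form a subgroup. -/
theorem exists_regular_subgroup {Q : Subgroup G} (hQ : Nat.card Q = p)
    (hsq : ¬ p ^ 2 ∣ Nat.card G) :
    ∃ K : Subgroup G, ∀ y, y ∈ K ↔ y ∈ Subgroup.centralizer (Q : Set G) ∧ ¬ p ∣ orderOf y := by
  classical
  have hp : p.Prime := Fact.out
  set C := Subgroup.centralizer (Q : Set G) with hC
  have : IsMulCommutative Q := ⟨⟨fun a b => by
    have hcyc : IsCyclic Q := isCyclic_of_prime_card hQ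
    let _ : CommGroup Q := hcyc.commGroup
    exact mul_comm a b⟩⟩
  have hQC : Q ≤ C := fun a ha => Subgroup.mem_centralizer_iff.mpr fun b hb =>
    congrArg Subtype.val (IsMulCommutative.is_comm.comm (⟨b, hb⟩ : Q) ⟨a, ha⟩)
  have hcentral : ∀ (a : G) (c : C), a ∈ Q → a * c = c * a := fun a c ha =>
    Subgroup.mem_centralizer_iff.mp c.2 a ha
  have hn : (Q.subgroupOf C).Normal := ⟨fun a ha g => by
    rw [Subgroup.mem_subgroupOf] at ha ⊢
    push_cast
    rw [← hcentral _ g ha, mul_inv_cancel_right]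
    exact ha⟩
  have hcard : Nat.card (Q.subgroupOf C) = p := by
    rw [Nat.card_congr (Subgroup.subgroupOfEquivOfLe hQC).toEquiv, hQ]
  have hcop : (Nat.card (Q.subgroupOf C)).Coprime (Q.subgroupOf C).index := by
    rw [hcard]
    refine hp.coprime_iff_not_dvd.mpr fun h => hsq ?_
    refine dvd_trans ?_ C.card_subgroup_dvd_card
    rw [← (Q.subgroupOf C).card_mul_index, hcard, pow_two]
    exact Nat.mul_dvd_mul_left p h
  obtain ⟨K₀, hK₀⟩ := Subgroup.exists_right_complement'_of_coprime hcop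
  have hK₀p : ∀ k : C, k ∈ K₀ → ¬ p ∣ orderOf k := by
    intro k hk h
    have h1 : orderOf k ∣ Nat.card K₀ := by
      rw [← Subgroup.orderOf_mk k hk]
      exact orderOf_dvd_natCard _
    rw [← hK₀.symm.index_eq_card] at h1
    rw [hcard] at hcop
    exact hp.coprime_iff_not_dvd.mp hcop (h.trans h1)
  refine ⟨K₀.map C.subtype, fun y => ⟨?_, ?_⟩⟩
  · rintro ⟨k, hk, rfl⟩
    refine ⟨k.2, ?_⟩
    show ¬ p ∣ orderOf (k : G)
    rw [Subgroup.orderOf_coe]
    exact hK₀p k hk
  · rintro ⟨hyC, hy⟩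
    have hsup : (⟨y, hyC⟩ : C) ∈ (Q.subgroupOf C) ⊔ K₀ := by
      rw [Subgroup.IsComplement'.sup_eq_top hK₀]
      exact Subgroup.mem_top _
    obtain ⟨⟨a, k⟩, hak⟩ : ∃ q : (Q.subgroupOf C) × K₀, (q.1 : C) * q.2 = ⟨y, hyC⟩ := by
      obtain ⟨a, ha, k, hk, he⟩ := Subgroup.mem_sup_of_normal_left.mp hsup
      exact ⟨(⟨a, ha⟩, ⟨k, hk⟩), he⟩
    have hcomm : Commute (a : C) (k : C) := Subtype.ext (hcentral _ (k : C) a.2)
    have ha1 : (a : C) ^ p = 1 := by
      have h := pow_card_eq_one' (x := a)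
      rw [hcard] at h
      exact congrArg Subtype.val h
    have e : (a : C) ^ orderOf y * (k : C) ^ orderOf y = 1 := by
      rw [← hcomm.mul_pow, hak]
      exact Subtype.ext (pow_orderOf_eq_one y)
    have hmem : (a : C) ^ orderOf y ∈ K₀ := by
      rw [eq_inv_of_mul_eq_one_left e]
      exact K₀.inv_mem (K₀.pow_mem k.2 _)
    have h0 : (a : C) ^ orderOf y = 1 :=
      Subgroup.disjoint_def.mp hK₀.disjoint ((Q.subgroupOf C).pow_mem a.2 _) hmem
    have h1 : (a : C) = 1 := by
      rw [← pow_one (a : C)]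
      have hg : Nat.gcd p (orderOf y) = 1 := hp.coprime_iff_not_dvd.mpr hy
      rw [← hg]
      exact pow_gcd_eq_one.mpr ⟨ha1, h0⟩
    refine ⟨k, k.2, ?_⟩
    rw [h1, one_mul] at hak
    exact congrArg Subtype.val hak

variable {Q : Subgroup G} (hQ : Nat.card Q = p) {K : Subgroup G}
  (hK : ∀ y, y ∈ K ↔ y ∈ Subgroup.centralizer (Q : Set G) ∧ ¬ p ∣ orderOf y) [Fintype K]

/-- The multiplicity of `φ` in the section of `x`. -/
noncomputable def secMult (χ : G → ℂ) (φ : K → ℂ) (x : G) : ℂ :=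
  classInner (fun y : K => χ (x * (y : G))) φ

include hQ hK

theorem regular_mem (y : K) : (y : G) ∈ Subgroup.centralizer (Q : Set G) ∧ ¬ p ∣ orderOf (y : G) :=
  (hK y).mp y.2

theorem commute_K {x : G} (hx : x ∈ Q) (y : K) : Commute x (y : G) :=
  Subgroup.mem_centralizer_iff.mp (regular_mem hQ hK y).1 x hx

theorem isClassFunction_sec {χ : G → ℂ} (hχ : IsClassFunction G χ) {x : G} (hx : x ∈ Q) :
    IsClassFunction K (fun y : K => χ (x * (y : G))) := by
  intro a b
  show χ (x * _) = χ (x * _)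
  push_cast
  rw [show x * ((b : G) * a * (b : G)⁻¹) = (b : G) * (x * a) * (b : G)⁻¹ by
    simp only [← mul_assoc, (commute_K hQ hK hx b).eq], hχ]

theorem value_eq_sum [Fintype (IrrCharacter K)] {χ : G → ℂ} (hχ : IsClassFunction G χ) {x : G}
    (hx : x ∈ Q) (y : K) :
    χ (x * (y : G)) = ∑ φ : IrrCharacter K, secMult χ (φ : K → ℂ) x * (φ : K → ℂ) y := by
  have h := congrFun (classFun_expand (isClassFunction_sec hQ hK hχ hx)) y
  simp only [Finset.sum_apply, Pi.smul_apply, smul_eq_mul] at h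
  exact h

theorem conj_mem_K {n : G} (hn : n ∈ Subgroup.normalizer (Q : Set G)) (y : K) :
    n * (y : G) * n⁻¹ ∈ K := by
  obtain ⟨hy1, hy2⟩ := regular_mem hQ hK y
  refine (hK _).mpr ⟨Subgroup.mem_centralizer_iff.mpr fun u hu => ?_, ?_⟩
  · have hu' : n⁻¹ * u * n ∈ Q := by
      have := (Subgroup.mem_normalizer_iff.mp (inv_mem hn) u).mp hu
      simpa using this
    have h := Subgroup.mem_centralizer_iff.mp hy1 _ hu'
    calc u * (n * (y : G) * n⁻¹) = n * (n⁻¹ * u * n * (y : G)) * n⁻¹ := by group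
      _ = n * ((y : G) * (n⁻¹ * u * n)) * n⁻¹ := by rw [h]
      _ = n * (y : G) * n⁻¹ * u := by group
  · rw [show orderOf (n * (y : G) * n⁻¹) = orderOf (y : G) from MulEquiv.orderOf_eq (MulAut.conj n) _]
    exact hy2

/-- Conjugation by an element of the normaliser, on `K`. -/
def conjK {n : G} (hn : n ∈ Subgroup.normalizer (Q : Set G)) : K →* K where
  toFun y := ⟨n * y * n⁻¹, conj_mem_K hQ hK hn y⟩
  map_one' := Subtype.ext (by simp)
  map_mul' a b := Subtype.ext (by simp [mul_assoc])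

theorem conjK_surjective {n : G} (hn : n ∈ Subgroup.normalizer (Q : Set G)) :
    Function.Surjective (conjK hQ hK hn) := fun y =>
  ⟨conjK hQ hK (inv_mem hn) y, Subtype.ext (by simp [conjK, mul_assoc])⟩

/-- The conjugate of a character of `K`. -/
noncomputable def conjKChar {n : G} (hn : n ∈ Subgroup.normalizer (Q : Set G))
    (φ : IrrCharacter K) : IrrCharacter K :=
  ⟨fun y => (φ : K → ℂ) (conjK hQ hK (inv_mem hn) y),
    isIrrCharacter_comp_surjective φ.2 _ (conjK_surjective hQ hK (inv_mem hn))⟩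

theorem conjKChar_apply {n : G} (hn : n ∈ Subgroup.normalizer (Q : Set G)) (φ : IrrCharacter K)
    (y : K) : (conjKChar hQ hK hn φ : K → ℂ) (conjK hQ hK hn y) = (φ : K → ℂ) y := by
  show (φ : K → ℂ) (conjK hQ hK (inv_mem hn) (conjK hQ hK hn y)) = _
  rw [show conjK hQ hK (inv_mem hn) (conjK hQ hK hn y) = y from
    Subtype.ext (show n⁻¹ * (n * (y : G) * n⁻¹) * n⁻¹⁻¹ = y by group)]

theorem secMult_conj {χ : G → ℂ} (hχ : IsClassFunction G χ) {n : G}
    (hn : n ∈ Subgroup.normalizer (Q : Set G)) (φ : IrrCharacter K) (x : G) :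
    secMult χ (conjKChar hQ hK hn φ : K → ℂ) (n * x * n⁻¹) = secMult χ (φ : K → ℂ) x := by
  simp only [secMult, classInner]
  congr 1
  refine (Fintype.sum_bijective (conjK hQ hK hn)
    (Finite.surjective_iff_bijective.mp (conjK_surjective hQ hK hn)) _ _ fun y => ?_).symm
  rw [conjKChar_apply]
  congr 1
  show χ (x * y) = χ (n * x * n⁻¹ * (n * (y : G) * n⁻¹))
  rw [show n * x * n⁻¹ * (n * (y : G) * n⁻¹) = n * (x * y) * n⁻¹ by group, hχ]

theorem isPPart_sec {x : G} (hx : x ∈ Q) (hx1 : x ≠ 1) (y : K) : IsPPart p (x * (y : G)) x :=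
  ⟨y, rfl, commute_K hQ hK hx y, ⟨1, by rw [orderOf_eq_p hQ hx hx1, pow_one]⟩,
    (regular_mem hQ hK y).2⟩

/-- Orthogonality in one section. -/
theorem sum_secMult_same [Fintype (IrrCharacter G)] (hsq : ¬ p ^ 2 ∣ Nat.card G) {x : G}
    (hx : x ∈ Q) (hx1 : x ≠ 1) (φ φ' : IrrCharacter K) [Decidable (φ = φ')] :
    ∑ χ : IrrCharacter G, secMult (χ : G → ℂ) (φ : K → ℂ) x *
        conj (secMult (χ : G → ℂ) (φ' : K → ℂ) x) = if φ = φ' then (p : ℂ) else 0 := by
  classical
  have hp : p.Prime := Fact.out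
  set C := Subgroup.centralizer (Q : Set G) with hCdef
  have hC : ∀ t : G, t ∈ C ↔ Commute t x := mem_centralizer_iff_commute hQ hx hx1
  have hxp : ∃ k : ℕ, orderOf x = p ^ k := ⟨1, by rw [orderOf_eq_p hQ hx hx1, pow_one]⟩
  have hKC : K ≤ C := fun y hy => ((hK y).mp hy).1
  have hxC : x ∈ C := (hC x).mpr (Commute.refl x)
  have hreg : ∀ y : K, ¬ p ∣ orderOf (⟨y, hKC y.2⟩ : C) := fun y => by
    rw [← Subgroup.orderOf_coe]
    exact (regular_mem hQ hK y).2
  have hdec : ∀ c : C, ∃ (a : G) (k : K), a ∈ Q ∧ (c : G) = a * k := by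
    intro c
    obtain ⟨a, ⟨b, hab, hcomm, ⟨j, hj⟩, hb⟩⟩ := exists_isPPart hp (c : G)
    have hmem : ∀ t : G, Commute t (c : G) → Commute t a ∧ Commute t b := by
      intro t ht
      have h1 : t * a * t⁻¹ = a := isPPart_unique hp
        (by
          have := isPPart_conj (g := (c : G)) (x := a) ⟨b, hab, hcomm, ⟨j, hj⟩, hb⟩ t
          rwa [ht.eq, mul_inv_cancel_right] at this)
        ⟨b, hab, hcomm, ⟨j, hj⟩, hb⟩
      have h2 : Commute t a := mul_inv_eq_iff_eq_mul.mp h1
      refine ⟨h2, ?_⟩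
      have : b = a⁻¹ * (c : G) := by rw [← hab, inv_mul_cancel_left]
      rw [this]
      exact h2.inv_right.mul_right ht
    have haC : a ∈ C := (hC a).mpr ((hmem x ((hC c).mp c.2).symm).1.symm)
    have hbC : b ∈ C := (hC b).mpr ((hmem x ((hC c).mp c.2).symm).2.symm)
    have haQ : a ∈ Q := by
      have hQC : Q ≤ C := fun u hu => (hC u).mpr (by
        have hz : Subgroup.zpowers x = Q := Subgroup.eq_of_le_of_card_ge
          (Subgroup.zpowers_le.mpr hx) (by rw [hQ, Nat.card_zpowers, orderOf_eq_p hQ hx hx1])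
        rw [← hz] at hu
        obtain ⟨i, rfl⟩ := hu
        exact (Commute.refl x).zpow_left i)
      have hsup : IsPGroup p (Q ⊔ Subgroup.zpowers a : Subgroup G) :=
        IsPGroup.to_sup_of_normal_left' (IsPGroup.of_card (n := 1) (by rw [hQ, pow_one]))
          (IsPGroup.of_card (n := j) (by rw [Nat.card_zpowers, hj])) (by
            rw [Subgroup.zpowers_le]
            refine Subgroup.mem_normalizer_iff.mpr fun u => ?_
            constructor
            · intro hu
              rw [← Subgroup.mem_centralizer_iff.mp haC u hu, mul_inv_cancel_right]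
              exact hu
            · intro hu
              have h := Subgroup.mem_centralizer_iff.mp haC _ hu
              have : a * u * a⁻¹ = u := mul_left_cancel (a := a) (by
                rw [← h]; group)
              rwa [this] at hu)
      obtain ⟨i, hi⟩ := IsPGroup.iff_card.mp hsup
      have hi1 : i ≤ 1 := by
        by_contra hlt
        exact hsq ((pow_dvd_pow p (show 2 ≤ i by omega)).trans
          (hi ▸ Subgroup.card_subgroup_dvd_card _))
      have heq : Q = Q ⊔ Subgroup.zpowers a := Subgroup.eq_of_le_of_card_ge le_sup_left (by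
        rw [hi, hQ]
        exact (Nat.pow_le_pow_right hp.pos hi1).trans (pow_one p).le)
      rw [heq]
      exact Subgroup.mem_sup_right (Subgroup.mem_zpowers a)
    exact ⟨a, ⟨b, (hK b).mpr ⟨hbC, hb⟩⟩, haQ, hab.symm⟩
  have := Fintype.ofFinite (IrrCharacter C)
  have hiso : ∀ y z : K, IsConj (⟨y, hKC y.2⟩ : C) ⟨z, hKC z.2⟩ ↔ IsConj y z := by
    intro y z
    constructor
    · intro h
      obtain ⟨c, hc⟩ := isConj_iff.mp h
      obtain ⟨a, k, ha, hak⟩ := hdec c
      refine isConj_iff.mpr ⟨k, Subtype.ext ?_⟩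
      have h1 : (c : G) * y * (c : G)⁻¹ = z := congrArg Subtype.val hc
      have h2 : Commute a ((k : G) * y * (k : G)⁻¹) :=
        commute_K hQ hK ha ⟨_, K.mul_mem (K.mul_mem k.2 y.2) (K.inv_mem k.2)⟩
      rw [← h1, hak, show a * (k : G) * y * (a * (k : G))⁻¹ = a * ((k : G) * y * (k : G)⁻¹) * a⁻¹ by
        group, h2.eq, mul_inv_cancel_right]
      rfl
    · intro h
      obtain ⟨c, hc⟩ := isConj_iff.mp h
      exact isConj_iff.mpr ⟨⟨c, hKC c.2⟩, Subtype.ext (congrArg (fun w : K => (w : G)) hc :)⟩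
  have hcardC : Nat.card C = p * Nat.card K := by
    rw [← hQ, ← Nat.card_prod]
    refine (Nat.card_congr (Equiv.ofBijective (fun q : Q × K => (⟨(q.1 : G) * q.2,
      C.mul_mem ((hC _).mpr (by
        have hz : Subgroup.zpowers x = Q := Subgroup.eq_of_le_of_card_ge
          (Subgroup.zpowers_le.mpr hx) (by rw [hQ, Nat.card_zpowers, orderOf_eq_p hQ hx hx1])
        have hqi : (q.1 : G) ∈ Subgroup.zpowers x := by rw [hz]; exact q.1.2
        obtain ⟨i, hi⟩ := hqi
        rw [← hi]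
        exact (Commute.refl x).zpow_left i)) (hKC q.2.2)⟩ : C)) ⟨?_, ?_⟩)).symm
    · rintro ⟨a, k⟩ ⟨a', k'⟩ h
      have h1 : (a : G) * k = a' * k' := congrArg Subtype.val h
      by_cases ha : (a : G) = 1
      · by_cases ha' : (a' : G) = 1
        · rw [ha, ha', one_mul, one_mul] at h1
          exact Prod.ext (Subtype.ext (ha.trans ha'.symm)) (Subtype.ext h1)
        · exfalso
          rw [ha, one_mul] at h1
          exact ha' (isPPart_unique hp (h1 ▸ isPPart_sec hQ hK a'.2 ha' k')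
            (isPPart_one_of_not_dvd (regular_mem hQ hK k).2))
      · by_cases ha' : (a' : G) = 1
        · exfalso
          rw [ha', one_mul] at h1
          exact ha (isPPart_unique hp (h1.symm ▸ isPPart_sec hQ hK a.2 ha k)
            (isPPart_one_of_not_dvd (regular_mem hQ hK k').2))
        · have := isPPart_unique hp (h1 ▸ isPPart_sec hQ hK a.2 ha k) (isPPart_sec hQ hK a'.2 ha' k')
          rw [this] at h1
          exact Prod.ext (Subtype.ext this) (Subtype.ext (mul_left_cancel h1))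
    · intro c
      obtain ⟨a, k, ha, hak⟩ := hdec c
      exact ⟨(⟨a, ha⟩, k), Subtype.ext hak.symm⟩
  have hval : ∀ y z : K, ∑ χ : IrrCharacter G,
      (χ : G → ℂ) (x * (y : G)) * conj ((χ : G → ℂ) (x * (z : G))) =
        if IsConj y z then (p : ℂ) * (Nat.card (Subgroup.centralizer ({y} : Set K)) : ℂ) else 0 := by
    intro y z
    rw [sum_irr_mul_conj]
    have hiff := (isConj_secElt_iff (C := C) hp hxp hC (hreg y) (hreg z)).trans (hiso y z)
    have hcen := card_centralizer_secElt (C := C) hp hxp hC (hreg y)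
    by_cases h : IsConj y z
    · rw [if_pos h, if_pos (hiff.mpr h), hcen]
      norm_cast
      have h1 := Subgroup.card_mul_index (Subgroup.centralizer ({y} : Set K))
      have h2 := Subgroup.card_mul_index (Subgroup.centralizer ({(⟨y, hKC y.2⟩ : C)} : Set C))
      have hcls : (Subgroup.centralizer ({(⟨y, hKC y.2⟩ : C)} : Set C)).index =
          (Subgroup.centralizer ({y} : Set K)).index := by
        rw [← card_isConj, ← card_isConj]
        refine (Nat.card_congr (Equiv.ofBijective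
          (fun w : {w : K // IsConj y w} => (⟨⟨(w.1 : G), hKC w.1.2⟩, (hiso y w.1).mpr w.2⟩ :
            {w : C // IsConj (⟨y, hKC y.2⟩ : C) w})) ⟨?_, ?_⟩)).symm
        · rintro ⟨a, ha⟩ ⟨b, hb⟩ h
          exact Subtype.ext (Subtype.ext (congrArg (fun w => (w.1 : G)) h))
        · rintro ⟨w, hw⟩
          have hwK : (w : G) ∈ K := by
            obtain ⟨c, hc⟩ := isConj_iff.mp hw
            refine (hK _).mpr ⟨w.2, ?_⟩
            have e : (c : G) * y * (c : G)⁻¹ = (w : G) := congrArg Subtype.val hc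
            rw [← e, show orderOf ((c : G) * y * (c : G)⁻¹) = orderOf (y : G) from
              MulEquiv.orderOf_eq (MulAut.conj (c : G)) _]
            exact (regular_mem hQ hK y).2
          exact ⟨⟨⟨w, hwK⟩, (hiso y ⟨w, hwK⟩).mp hw⟩, rfl⟩
      rw [hcls, hcardC, ← h1] at h2
      exact Nat.eq_of_mul_eq_mul_right (Nat.pos_of_ne_zero Subgroup.index_ne_zero_of_finite)
        (by rw [h2, mul_assoc])
    · rw [if_neg h, if_neg (mt hiff.mp h)]
  have hexp : ∀ χ : IrrCharacter G, secMult (χ : G → ℂ) (φ : K → ℂ) x *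
      conj (secMult (χ : G → ℂ) (φ' : K → ℂ) x) =
      (Nat.card K : ℂ)⁻¹ * (Nat.card K : ℂ)⁻¹ * ∑ y : K, ∑ z : K,
        ((χ : G → ℂ) (x * (y : G)) * conj ((χ : G → ℂ) (x * (z : G)))) *
          (conj ((φ : K → ℂ) y) * (φ' : K → ℂ) z) := by
    intro χ
    simp only [secMult, classInner, map_mul, map_inv₀, map_natCast, map_sum, Complex.conj_conj]
    rw [mul_mul_mul_comm, Finset.sum_mul_sum]
    congr 1
    exact Finset.sum_congr rfl fun y _ => Finset.sum_congr rfl fun z _ => by ring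
  rw [Finset.sum_congr rfl fun χ _ => hexp χ, ← Finset.mul_sum, Finset.sum_comm]
  simp_rw [Finset.sum_comm (s := (Finset.univ : Finset (IrrCharacter G))), ← Finset.sum_mul, hval]
  have hinner : ∀ y : K, ∑ z : K, (if IsConj y z then
      (p : ℂ) * (Nat.card (Subgroup.centralizer ({y} : Set K)) : ℂ) else 0) *
        (conj ((φ : K → ℂ) y) * (φ' : K → ℂ) z) =
      (p : ℂ) * (Nat.card K : ℂ) * ((φ' : K → ℂ) y * conj ((φ : K → ℂ) y)) := by
    intro y
    simp only [ite_mul, zero_mul]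
    rw [← Finset.sum_filter, Finset.sum_congr rfl (g := fun _ =>
      (p : ℂ) * (Nat.card (Subgroup.centralizer ({y} : Set K)) : ℂ) *
        (conj ((φ : K → ℂ) y) * (φ' : K → ℂ) y)) fun z hz => by
        rw [classFun_isConj (isClassFunction_irr φ') (Finset.mem_filter.mp hz).2],
      Finset.sum_const, nsmul_eq_mul, ← Subgroup.card_mul_index (Subgroup.centralizer ({y} : Set K)),
      ← card_isConj, Nat.card_eq_fintype_card (α := {z : K // IsConj y z}), Fintype.card_subtype]
    push_cast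
    ring
  simp_rw [hinner, ← Finset.mul_sum]
  have hK0 : (Nat.card K : ℂ) ≠ 0 := Nat.cast_ne_zero.mpr Nat.card_pos.ne'
  have horth := classInner_irr φ' φ
  rw [classInner] at horth
  rw [show (Nat.card K : ℂ)⁻¹ * (Nat.card K : ℂ)⁻¹ * ((p : ℂ) * (Nat.card K : ℂ) *
      ∑ y : K, (φ' : K → ℂ) y * conj ((φ : K → ℂ) y)) =
      (p : ℂ) * ((Nat.card K : ℂ)⁻¹ * ∑ y : K, (φ' : K → ℂ) y * conj ((φ : K → ℂ) y)) by
    field_simp, horth]
  by_cases h : φ = φ'
  · rw [if_pos h, if_pos h.symm, mul_one]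
  · rw [if_neg h, if_neg (Ne.symm h), mul_zero]

/-- Orthogonality of sections at elements not conjugate in the normaliser. -/
theorem sum_secMult_not_conj [Fintype (IrrCharacter G)] {x x' : G}
    (hx : x ∈ Q) (hx1 : x ≠ 1) (hx' : x' ∈ Q) (hx'1 : x' ≠ 1)
    (hne : ∀ n ∈ Subgroup.normalizer (Q : Set G), n * x * n⁻¹ ≠ x') (φ φ' : K → ℂ) :
    ∑ χ : IrrCharacter G, secMult (χ : G → ℂ) φ x * conj (secMult (χ : G → ℂ) φ' x') = 0 := by
  classical
  have hp : p.Prime := Fact.out
  have hexp : ∀ χ : IrrCharacter G, secMult (χ : G → ℂ) φ x *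
      conj (secMult (χ : G → ℂ) φ' x') =
      (Nat.card K : ℂ)⁻¹ * (Nat.card K : ℂ)⁻¹ * ∑ y : K, ∑ z : K,
        ((χ : G → ℂ) (x * (y : G)) * conj ((χ : G → ℂ) (x' * (z : G)))) * (conj (φ y) * φ' z) := by
    intro χ
    simp only [secMult, classInner, map_mul, map_inv₀, map_natCast, map_sum, Complex.conj_conj]
    rw [mul_mul_mul_comm, Finset.sum_mul_sum]
    congr 1
    exact Finset.sum_congr rfl fun y _ => Finset.sum_congr rfl fun z _ => by ring
  rw [Finset.sum_congr rfl fun χ _ => hexp χ, ← Finset.mul_sum, Finset.sum_comm]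
  simp_rw [Finset.sum_comm (s := (Finset.univ : Finset (IrrCharacter G))), ← Finset.sum_mul]
  refine mul_eq_zero_of_right _ (Finset.sum_eq_zero fun y _ => Finset.sum_eq_zero fun z _ => ?_)
  rw [sum_irr_mul_conj, if_neg, zero_mul]
  intro h
  obtain ⟨c, hc⟩ := isConj_iff.mp h
  have hcx : c * x * c⁻¹ = x' :=
    isPPart_unique hp (hc ▸ isPPart_conj (isPPart_sec hQ hK hx hx1 y) c) (isPPart_sec hQ hK hx' hx'1 z)
  refine hne c ?_ hcx
  have hz : ∀ {w : G}, w ∈ Q → w ≠ 1 → Subgroup.zpowers w = Q := fun {w} hw hw1 =>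
    Subgroup.eq_of_le_of_card_ge (Subgroup.zpowers_le.mpr hw)
      (by rw [hQ, Nat.card_zpowers, orderOf_eq_p hQ hw hw1])
  refine Subgroup.mem_normalizer_fintype (S := (Q : Set G)) fun u hu => ?_
  rw [SetLike.mem_coe, ← hz hx hx1] at hu
  obtain ⟨i, rfl⟩ := hu
  show c * x ^ i * c⁻¹ ∈ (Q : Set G)
  rw [← conj_zpow, hcx]
  exact Q.zpow_mem hx' i

/-- Sections are orthogonal to the regular elements. -/
theorem sum_secMult_regular [Fintype (IrrCharacter G)] {x : G} (hx : x ∈ Q) (hx1 : x ≠ 1)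
    (φ : K → ℂ) {g : G} (hg : ¬ p ∣ orderOf g) :
    ∑ χ : IrrCharacter G, secMult (χ : G → ℂ) φ x * conj ((χ : G → ℂ) g) = 0 := by
  classical
  simp only [secMult, classInner]
  simp_rw [mul_assoc, ← Finset.mul_sum, Finset.sum_mul]
  rw [Finset.sum_comm]
  refine mul_eq_zero_of_right _ (Finset.sum_eq_zero fun y _ => ?_)
  simp_rw [mul_assoc, mul_comm (conj (φ y)), ← mul_assoc, ← Finset.sum_mul]
  rw [sum_irr_mul_conj, if_neg, zero_mul]
  intro h
  obtain ⟨c, hc⟩ := isConj_iff.mp h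
  refine hg ?_
  rw [← hc, show orderOf (c * (x * (y : G)) * c⁻¹) = orderOf (x * (y : G)) from
    MulEquiv.orderOf_eq (MulAut.conj c) _, (commute_K hQ hK hx y).orderOf_mul_eq_mul_orderOf_of_coprime]
  · rw [orderOf_eq_p hQ hx hx1]
    exact dvd_mul_right p _
  · rw [orderOf_eq_p hQ hx hx1]
    exact (Fact.out : p.Prime).coprime_iff_not_dvd.mpr (regular_mem hQ hK y).2

end CfsgLib.Block.Cyclic
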