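import Cfsg.Agent.Lib.Block.Cyclic.SylowPrime

/-!
# Setups for given blocks

The set-up of the principal block and of a block given by a character of `C_G(P)` with `P` in its
kernel.
-/

open Finset
open scoped ComplexConjugate

set_option linter.unusedSectionVars false

namespace CfsgLib.Block.Cyclic

open Cfsg CfsgLib.Char

universe u

variable {p : ℕ} [Fact p.Prime] {G : Type u} [Group G] [Fintype G] [DecidableEq G]

theorem exists_cycSetup {Q : Subgroup G} (hQ : Nat.card Q = p) (hsq : ¬ p ^ 2 ∣ Nat.card G) :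
    ∃ D : CycSetup p G, D.Q = Q := by
  obtain ⟨K, hK⟩ := exists_regular_subgroup hQ hsq
  obtain ⟨x, hx, hx1⟩ : ∃ x ∈ Q, x ≠ 1 := by
    by_contra hc
    push Not at hc
    have h : Q = ⊥ := Q.eq_bot_iff_forall.mpr hc
    rw [h, Subgroup.card_bot] at hQ
    exact (Fact.out : p.Prime).ne_one hQ.symm
  exact ⟨⟨Q, x, K, oneChar K, hQ, hsq, hx, hx1, hK⟩, rfl⟩

theorem not_sq_dvd_of_sylow {P : Sylow p G} (hP : Nat.card P = p) : ¬ p ^ 2 ∣ Nat.card G := by
  intro h
  have hf := P.card_eq_multiplicity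
  rw [hP] at hf
  have h1 : (Nat.card G).factorization p = 1 :=
    ((Nat.pow_eq_self_iff (Fact.out : p.Prime).one_lt).mp hf.symm)
  have := ((Fact.out : p.Prime).pow_dvd_iff_le_factorization Nat.card_pos.ne').mp h
  omega

namespace CycSetup

/-- The set-up with another character. -/
abbrev withChar (D : CycSetup p G) (φ' : IrrCharacter D.K) : CycSetup p G := { D with φ := φ' }

variable (D : CycSetup p G) [Fintype D.K]

theorem stab_eq_normalizer (h : ∀ y, (D.φ : D.K → ℂ) y = 1) :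
    D.stab = Subgroup.normalizer (D.Q : Set G) :=
  le_antisymm D.stab_le fun n hn => ⟨hn, Subtype.ext (funext fun y => by
    show (D.φ : D.K → ℂ) (conjK D.hQ D.hK (inv_mem hn) y) = (D.φ : D.K → ℂ) y
    rw [h, h])⟩

theorem inOrbit_eq (h : ∀ y, (D.φ : D.K → ℂ) y = 1) {φ' : IrrCharacter D.K} (ho : D.InOrbit φ') :
    φ' = D.φ := by
  obtain ⟨n, hn, rfl⟩ := ho
  exact Subtype.ext (funext fun y => by
    show (D.φ : D.K → ℂ) (conjK D.hQ D.hK (inv_mem hn) y) = (D.φ : D.K → ℂ) y
    rw [h, h])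

variable [Fintype (Subgroup.centralizer (D.Q : Set G))]

theorem relIndex_mul :
    Nat.card D.expE * D.stab.relIndex (Subgroup.normalizer (D.Q : Set G)) =
      (Subgroup.centralizer (D.Q : Set G)).relIndex (Subgroup.normalizer (D.Q : Set G)) := by
  rw [D.card_expE]
  exact Subgroup.relIndex_mul_relIndex _ _ _ D.centralizer_le_stab D.stab_le

theorem proj_eq {c : D.C} {i : ZMod p} {y : D.K} (h : (c : G) = D.xp i * (y : G)) : D.proj c = y := by
  obtain ⟨j, hj⟩ := D.exists_xp_mul_proj c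
  exact congrArg Prod.snd (D.decomp_unique (q := (j, D.proj c)) (q' := (i, y)) (hj.symm.trans h))

theorem infl_conj {n : G} (hn : n ∈ Subgroup.normalizer (D.Q : Set G)) (φ' : IrrCharacter D.K)
    {c c' : D.C} (h : (c' : G) = n * c * n⁻¹) :
    (D.infl (conjKChar D.hQ D.hK hn φ') : D.C → ℂ) c' = (D.infl φ' : D.C → ℂ) c := by
  obtain ⟨i, hi⟩ := D.exists_xp_mul_proj c
  show (conjKChar D.hQ D.hK hn φ' : D.K → ℂ) (D.proj c') = (φ' : D.K → ℂ) (D.proj c)
  rw [D.proj_eq (c := c') (i := D.expo0 ⟨n, hn⟩ * i) (y := conjK D.hQ D.hK hn (D.proj c)) ?_,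
    conjKChar_apply]
  show (c' : G) = _ * (n * (D.proj c : G) * n⁻¹)
  rw [h, ← D.conj_xp, hi]
  group

theorem mem_stab_iff_infl {n : G} : n ∈ D.stab ↔ n ∈ Subgroup.normalizer (D.Q : Set G) ∧
    ∀ c c' : D.C, (c' : G) = n * c * n⁻¹ → (D.infl D.φ : D.C → ℂ) c' = (D.infl D.φ : D.C → ℂ) c := by
  constructor
  · rintro ⟨hn, h⟩
    refine ⟨hn, fun c c' hc => ?_⟩
    conv_lhs => rw [← h]
    exact D.infl_conj hn _ hc
  · rintro ⟨hn, h⟩
    refine ⟨hn, Subtype.ext (funext fun y => ?_)⟩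
    show (D.φ : D.K → ℂ) (conjK D.hQ D.hK (inv_mem hn) y) = (D.φ : D.K → ℂ) y
    have e := h (Subgroup.inclusion D.K_le_C (conjK D.hQ D.hK (inv_mem hn) y))
      (Subgroup.inclusion D.K_le_C y) (show (y : G) = n * (n⁻¹ * y * n⁻¹⁻¹) * n⁻¹ by group)
    rw [D.infl_coe, D.infl_coe] at e
    exact e.symm

theorem blockData_principal {M : Ideal AlgInt} [M.IsMaximal] (hM : IsPModular p M) {P : Sylow p G}
    (hP : D.Q = (P : Subgroup G)) (h : ∀ y, (D.φ : D.K → ℂ) y = 1) :
    D.BlockData M (principalBlock M G) := by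
  classical
  have := Fintype.ofFinite (IrrCharacter G)
  have := Fintype.ofFinite (IrrCharacter D.C)
  obtain ⟨B, hB⟩ := exists_induced_centralizer (G := G) (C := D.C) hM (x := D.x)
    ⟨1, by rw [D.orderOf_x, pow_one]⟩ (mem_centralizer_iff_commute D.hQ D.hx D.hx1)
    (isPBlock_blockOf (M := M) (D.infl D.φ))
  have hBp : B = principalBlock M G := (isInducedBlock_principal_iff hM hB).mpr (by
    rw [principalBlock_eq]
    congr 1
    exact funext fun c => h _)
  subst hBp
  exact D.blockData hM ((isDefectGroup_principal_iff hM _).mpr ⟨P, hP.symm⟩) hB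

end CycSetup

/-- A character of `C_G(Q)` with `Q` in its kernel is inflated from `K`. -/
theorem CycSetup.exists_infl_eq (D : CycSetup p G) [Fintype D.K]
    [Fintype (Subgroup.centralizer (D.Q : Set G))] (θ : IrrCharacter D.C)
    (h : ∀ x : D.C, (x : G) ∈ D.Q → (θ : D.C → ℂ) x = (θ : D.C → ℂ) 1) :
    ∃ φ' : IrrCharacter D.K, D.infl φ' = θ := by
  classical
  have := Fintype.ofFinite (IrrCharacter D.K)
  have := Fintype.ofFinite (IrrCharacter D.C)
  obtain ⟨n, ρ, hρ, hθ⟩ := θ.2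
  have hfact : ∀ c : D.C,
      (θ : D.C → ℂ) c = (θ : D.C → ℂ) (Subgroup.inclusion D.K_le_C (D.proj c)) := by
    intro c
    obtain ⟨i, hi⟩ := D.exists_xp_mul_proj c
    have hq : ρ ⟨D.xp i, D.Q_le_C (D.xp_mem i)⟩ = LinearMap.id := by
      rw [← char_eq_degree_iff, ← Representation.char_one ρ, hθ]
      exact h _ (D.xp_mem i)
    rw [← hθ]
    conv_lhs => rw [show c = ⟨D.xp i, D.Q_le_C (D.xp_mem i)⟩ *
      Subgroup.inclusion D.K_le_C (D.proj c) from Subtype.ext hi]
    show ρ.character _ = ρ.character _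
    simp only [Representation.character, map_mul, hq]
    rfl
  have hexp := classFun_expand
    (f := fun y : D.K => (θ : D.C → ℂ) (Subgroup.inclusion D.K_le_C y))
    (isClassFunction_of_isCharacter (isCharacter_comp (isCharacter_irr θ) _))
  by_contra hne
  push Not at hne
  have hθe : (θ : D.C → ℂ) = ∑ φ' : IrrCharacter D.K,
      classInner (fun y : D.K => (θ : D.C → ℂ) (Subgroup.inclusion D.K_le_C y)) (φ' : D.K → ℂ) •
        (D.infl φ' : D.C → ℂ) := funext fun c => by
    rw [hfact c]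
    have := congrFun hexp (D.proj c)
    simp only [Finset.sum_apply, Pi.smul_apply] at this ⊢
    exact this
  have h1 := classInner_irr_self θ
  nth_rewrite 1 [hθe] at h1
  rw [classInner_sum_left, Finset.sum_eq_zero fun φ' _ => by
    rw [classInner_smul_left, classInner_irr, if_neg (hne φ'), mul_zero]] at h1
  exact zero_ne_one h1

end CfsgLib.Block.Cyclic
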