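import Cfsg.Agent.Lib.Block.Cyclic.SylowSections
import Mathlib.GroupTheory.Index
import Mathlib.GroupTheory.QuotientGroup.Basic
import Mathlib.RingTheory.ZMod.UnitsCyclic

/-!
# The vectors of multiplicities

For a Sylow subgroup `⟨x⟩` of order `p` and a character `φ` of the regular part `K` of its
centraliser: the multiplicities `mult χ j` of `ψ_j × φ` in the restriction of `χ`, their differences
`vec χ j` and the inner products of these vectors.
-/

open Finset
open scoped ComplexConjugate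

set_option linter.unusedSectionVars false

namespace CfsgLib.Block.Cyclic

open Cfsg CfsgLib.Char

universe u

/-- A Sylow subgroup of order `p` with a generator, the regular part of its centraliser and a
character of that part. -/
structure CycSetup (p : ℕ) (G : Type u) [Group G] where
  /-- the subgroup -/
  Q : Subgroup G
  /-- the generator -/
  x : G
  /-- the regular part of the centraliser -/
  K : Subgroup G
  /-- the character -/
  φ : IrrCharacter K
  hQ : Nat.card Q = p
  hsq : ¬ p ^ 2 ∣ Nat.card G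
  hx : x ∈ Q
  hx1 : x ≠ 1
  hK : ∀ y, y ∈ K ↔ y ∈ Subgroup.centralizer (Q : Set G) ∧ ¬ p ∣ orderOf y

namespace CycSetup

variable {p : ℕ} [Fact p.Prime] {G : Type u} [Group G] [Fintype G] [DecidableEq G]
  (D : CycSetup p G) [Fintype D.K]

theorem orderOf_x : orderOf D.x = p := orderOf_eq_p D.hQ D.hx D.hx1

theorem zpowers_x : Subgroup.zpowers D.x = D.Q :=
  Subgroup.eq_of_le_of_card_ge (Subgroup.zpowers_le.mpr D.hx) (by
    rw [D.hQ, Nat.card_zpowers, D.orderOf_x])

/-- The power of the generator with exponent in `ZMod p`. -/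
def xp (i : ZMod p) : G := D.x ^ i.val

theorem pow_eq_xp (n : ℕ) : D.x ^ n = D.xp (n : ZMod p) := by
  have hp1 : D.x ^ p = 1 := by
    have h := pow_orderOf_eq_one D.x
    rwa [D.orderOf_x] at h
  rw [xp, ZMod.val_natCast]
  conv_lhs => rw [← Nat.mod_add_div n p, pow_add, pow_mul, hp1, one_pow, mul_one]

theorem xp_mem (i : ZMod p) : D.xp i ∈ D.Q := D.Q.pow_mem D.hx _

theorem xp_zero : D.xp 0 = 1 := by rw [xp, ZMod.val_zero, pow_zero]

theorem xp_one : D.xp 1 = D.x := by
  have := D.pow_eq_xp 1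
  rw [pow_one, Nat.cast_one] at this
  exact this.symm

theorem xp_add (i j : ZMod p) : D.xp (i + j) = D.xp i * D.xp j := by
  show _ = D.x ^ i.val * D.x ^ j.val
  rw [← pow_add, D.pow_eq_xp]
  push_cast
  simp [ZMod.natCast_val]

theorem xp_injective : Function.Injective D.xp := fun i j h => by
  apply ZMod.val_injective
  exact pow_injOn_Iio_orderOf (by rw [D.orderOf_x]; exact ZMod.val_lt i)
    (by rw [D.orderOf_x]; exact ZMod.val_lt j) h

theorem xp_ne_one {i : ZMod p} (hi : i ≠ 0) : D.xp i ≠ 1 := fun h =>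
  hi (D.xp_injective (h.trans D.xp_zero.symm))

theorem exists_xp_eq {g : G} (hg : g ∈ D.Q) : ∃ i, D.xp i = g := by
  rw [← D.zpowers_x] at hg
  obtain ⟨n, hn⟩ := (mem_powers_iff_mem_zpowers (x := D.x)).mpr hg
  exact ⟨(n : ZMod p), by rw [← D.pow_eq_xp]; exact hn⟩

theorem xp_pow (i : ZMod p) (n : ℕ) : D.xp i ^ n = D.xp ((n : ZMod p) * i) := by
  rw [xp, ← pow_mul, D.pow_eq_xp]
  congr 1
  push_cast
  simp [ZMod.natCast_val, mul_comm]

/-- The exponent of the action of an element of the normaliser. -/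
noncomputable def expo0 (n : Subgroup.normalizer (D.Q : Set G)) : ZMod p :=
  (D.exists_xp_eq ((Subgroup.mem_normalizer_iff.mp n.2 D.x).mp D.hx)).choose

theorem expo0_spec (n : Subgroup.normalizer (D.Q : Set G)) :
    D.xp (D.expo0 n) = (n : G) * D.x * (n : G)⁻¹ :=
  (D.exists_xp_eq ((Subgroup.mem_normalizer_iff.mp n.2 D.x).mp D.hx)).choose_spec

theorem conj_xp (n : Subgroup.normalizer (D.Q : Set G)) (i : ZMod p) :
    (n : G) * D.xp i * (n : G)⁻¹ = D.xp (D.expo0 n * i) := by
  rw [xp, ← conj_pow, ← D.expo0_spec, D.xp_pow]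
  simp [ZMod.natCast_val, mul_comm]

theorem expo0_mul (m n : Subgroup.normalizer (D.Q : Set G)) :
    D.expo0 (m * n) = D.expo0 m * D.expo0 n := by
  refine D.xp_injective ?_
  rw [← D.conj_xp, D.expo0_spec, D.expo0_spec, Subgroup.coe_mul, mul_inv_rev]
  group

theorem expo0_one : D.expo0 1 = 1 := by
  refine D.xp_injective ?_
  rw [D.expo0_spec, D.xp_one, Subgroup.coe_one]
  group

theorem expo0_isUnit (n : Subgroup.normalizer (D.Q : Set G)) : IsUnit (D.expo0 n) :=
  IsUnit.of_mul_eq_one (D.expo0 n⁻¹) (by rw [← D.expo0_mul, mul_inv_cancel, D.expo0_one])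

/-- The action on the subgroup of order `p`. -/
noncomputable def expo : Subgroup.normalizer (D.Q : Set G) →* (ZMod p)ˣ where
  toFun n := (D.expo0_isUnit n).unit
  map_one' := Units.ext (by simp [D.expo0_one])
  map_mul' m n := Units.ext (by simp [D.expo0_mul])

theorem coe_expo (n : Subgroup.normalizer (D.Q : Set G)) : (D.expo n : ZMod p) = D.expo0 n :=
  IsUnit.unit_spec _

theorem expo_eq_one_iff (n : Subgroup.normalizer (D.Q : Set G)) :
    D.expo n = 1 ↔ (n : G) ∈ Subgroup.centralizer (D.Q : Set G) := by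
  rw [mem_centralizer_iff_commute D.hQ D.hx D.hx1, Units.ext_iff, coe_expo, Units.val_one]
  constructor
  · intro h
    have := D.expo0_spec n
    rw [h, D.xp_one] at this
    exact mul_inv_eq_iff_eq_mul.mp this.symm
  · intro h
    refine D.xp_injective ?_
    rw [D.expo0_spec, D.xp_one]
    exact mul_inv_eq_iff_eq_mul.mpr h

/-- The stabiliser of the character in the normaliser. -/
noncomputable def stab : Subgroup G where
  carrier := {n | ∃ hn : n ∈ Subgroup.normalizer (D.Q : Set G), conjKChar D.hQ D.hK hn D.φ = D.φ}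
  one_mem' := ⟨one_mem _, Subtype.ext (funext fun y => by
    show (D.φ : D.K → ℂ) (conjK D.hQ D.hK (inv_mem (one_mem _)) y) = (D.φ : D.K → ℂ) y
    rw [show conjK D.hQ D.hK (inv_mem (one_mem _)) y = y from
      Subtype.ext (show (1 : G)⁻¹ * (y : G) * (1 : G)⁻¹⁻¹ = y by group)])⟩
  mul_mem' := by
    rintro a b ⟨ha, ha'⟩ ⟨hb, hb'⟩
    refine ⟨mul_mem ha hb, Subtype.ext (funext fun y => ?_)⟩
    have e1 := congrFun (congrArg Subtype.val ha') y
    have e2 := congrFun (congrArg Subtype.val hb') (conjK D.hQ D.hK (inv_mem ha) y)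
    show (D.φ : D.K → ℂ) _ = (D.φ : D.K → ℂ) y
    rw [show conjK D.hQ D.hK (inv_mem (mul_mem ha hb)) y =
      conjK D.hQ D.hK (inv_mem hb) (conjK D.hQ D.hK (inv_mem ha) y) from Subtype.ext (by
        show (a * b)⁻¹ * (y : G) * (a * b)⁻¹⁻¹ = b⁻¹ * (a⁻¹ * (y : G) * a⁻¹⁻¹) * b⁻¹⁻¹
        group)]
    exact e2.trans e1
  inv_mem' := by
    rintro a ⟨ha, ha'⟩
    refine ⟨inv_mem ha, Subtype.ext (funext fun y => ?_)⟩
    have e1 := congrFun (congrArg Subtype.val ha') (conjK D.hQ D.hK ha y)
    rw [conjKChar_apply] at e1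
    show (D.φ : D.K → ℂ) _ = (D.φ : D.K → ℂ) y
    rw [show conjK D.hQ D.hK (inv_mem (inv_mem ha)) y = conjK D.hQ D.hK ha y from Subtype.ext (by
      show a⁻¹⁻¹ * (y : G) * a⁻¹⁻¹⁻¹ = a * (y : G) * a⁻¹
      group)]
    exact e1.symm

theorem stab_le : D.stab ≤ Subgroup.normalizer (D.Q : Set G) := fun _ h => h.1

/-- The action of the stabiliser. -/
noncomputable def expT : D.stab →* (ZMod p)ˣ := D.expo.comp (Subgroup.inclusion D.stab_le)

/-- The group of exponents of the stabiliser. -/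
noncomputable def expE : Subgroup (ZMod p)ˣ := D.expT.range

theorem card_expE :
    Nat.card D.expE = (Subgroup.centralizer (D.Q : Set G)).relIndex D.stab := by
  rw [expE, ← Subgroup.index_ker, Subgroup.relIndex]
  congr 1
  ext t
  rw [MonoidHom.mem_ker, Subgroup.mem_subgroupOf]
  exact D.expo_eq_one_iff _

theorem conjKChar_conjKChar {m n : G} (hm : m ∈ Subgroup.normalizer (D.Q : Set G))
    (hn : n ∈ Subgroup.normalizer (D.Q : Set G)) (φ : IrrCharacter D.K) :
    conjKChar D.hQ D.hK hm (conjKChar D.hQ D.hK hn φ) = conjKChar D.hQ D.hK (mul_mem hm hn) φ :=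
  Subtype.ext (funext fun y => by
    show (φ : D.K → ℂ) (conjK D.hQ D.hK (inv_mem hn) (conjK D.hQ D.hK (inv_mem hm) y)) =
      (φ : D.K → ℂ) (conjK D.hQ D.hK (inv_mem (mul_mem hm hn)) y)
    refine congrArg _ (Subtype.ext ?_)
    exact (show n⁻¹ * (m⁻¹ * (y : G) * m⁻¹⁻¹) * n⁻¹⁻¹ = (m * n)⁻¹ * (y : G) * (m * n)⁻¹⁻¹ by
      group))

/-- The multiplicity of `φ` in the section of the power `i` of the generator. -/
noncomputable def dval (χ : G → ℂ) (i : ZMod p) : ℂ :=
  secMult χ (D.φ : D.K → ℂ) (D.xp i)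

theorem dval_smul_expE {χ : G → ℂ} (hχ : IsClassFunction G χ) {r : (ZMod p)ˣ} (hr : r ∈ D.expE)
    (i : ZMod p) : D.dval χ ((r : ZMod p) * i) = D.dval χ i := by
  obtain ⟨⟨t, ht⟩, rfl⟩ := hr
  obtain ⟨hn, hφ⟩ := ht
  rw [dval, show (D.expT ⟨t, hn, hφ⟩ : ZMod p) = D.expo0 ⟨t, hn⟩ from D.coe_expo _, ← D.conj_xp]
  conv_lhs => rw [← hφ]
  exact secMult_conj D.hQ D.hK hχ hn D.φ _

theorem sum_dval_mul [Fintype (IrrCharacter G)] {i j : ZMod p} (hi : i ≠ 0) (hj : j ≠ 0)
    [Decidable (∃ r ∈ D.expE, ((r : (ZMod p)ˣ) : ZMod p) * i = j)] :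
    ∑ χ : IrrCharacter G, D.dval (χ : G → ℂ) i * conj (D.dval (χ : G → ℂ) j) =
      if ∃ r ∈ D.expE, ((r : (ZMod p)ˣ) : ZMod p) * i = j then (p : ℂ) else 0 := by
  classical
  by_cases hc : ∃ n ∈ Subgroup.normalizer (D.Q : Set G), n * D.xp i * n⁻¹ = D.xp j
  · obtain ⟨n, hn, hnij⟩ := hc
    have hφ : D.dval (G := G) = D.dval := rfl
    have hsec : ∀ χ : IrrCharacter G, D.dval (χ : G → ℂ) j =
        secMult (χ : G → ℂ) (conjKChar D.hQ D.hK (inv_mem hn) D.φ : D.K → ℂ) (D.xp i) := by
      intro χ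
      rw [← secMult_conj D.hQ D.hK (isClassFunction_irr χ) hn (conjKChar D.hQ D.hK (inv_mem hn) D.φ)
        (D.xp i), D.conjKChar_conjKChar, dval, hnij]
      congr 2
      refine Subtype.ext (funext fun y => ?_)
      show (D.φ : D.K → ℂ) y =
        (D.φ : D.K → ℂ) (conjK D.hQ D.hK (inv_mem (mul_mem hn (inv_mem hn))) y)
      refine congrArg _ (Subtype.ext ?_)
      show (y : G) = (n * n⁻¹)⁻¹ * (y : G) * (n * n⁻¹)⁻¹⁻¹
      group
    simp only [hsec]
    rw [show D.dval (G := G) = fun χ i => secMult χ (D.φ : D.K → ℂ) (D.xp i) from rfl]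
    rw [sum_secMult_same D.hQ D.hK D.hsq (D.xp_mem i) (D.xp_ne_one hi)]
    have hiff : D.φ = conjKChar D.hQ D.hK (inv_mem hn) D.φ ↔
        ∃ r ∈ D.expE, ((r : (ZMod p)ˣ) : ZMod p) * i = j := by
      constructor
      · intro h
        have hmem : n ∈ D.stab := inv_inv n ▸ D.stab.inv_mem ⟨inv_mem hn, h.symm⟩
        refine ⟨D.expT ⟨n, hmem⟩, ⟨_, rfl⟩, D.xp_injective ?_⟩
        rw [show (D.expT ⟨n, hmem⟩ : ZMod p) = D.expo0 ⟨n, hn⟩ from D.coe_expo _, ← D.conj_xp]
        exact hnij
      · rintro ⟨r, ⟨⟨t, ht⟩, rfl⟩, hr⟩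
        have htN := D.stab_le ht
        have he : D.expo0 ⟨n, hn⟩ = D.expo0 ⟨t, htN⟩ := by
          have e1 : D.xp (D.expo0 ⟨n, hn⟩ * i) = D.xp j := (D.conj_xp ⟨n, hn⟩ i).symm.trans hnij
          have e2 := D.xp_injective e1
          rw [show (D.expT ⟨t, ht⟩ : ZMod p) = D.expo0 ⟨t, htN⟩ from D.coe_expo _, ← e2] at hr
          exact (mul_right_cancel₀ hi hr).symm
        have hc : n⁻¹ * t ∈ Subgroup.centralizer (D.Q : Set G) := by
          have h1 : D.expo ((⟨n, hn⟩ : Subgroup.normalizer (D.Q : Set G))⁻¹ * ⟨t, htN⟩) = 1 := by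
            rw [map_mul, map_inv, show D.expo ⟨n, hn⟩ = D.expo ⟨t, htN⟩ from Units.ext (by
              rw [coe_expo, coe_expo, he]), inv_mul_cancel]
          exact (D.expo_eq_one_iff _).mp h1
        have hcS : n⁻¹ * t ∈ D.stab := by
          refine ⟨mul_mem (inv_mem hn) htN, Subtype.ext (funext fun y => ?_)⟩
          obtain ⟨a, k, ha, hak⟩ : ∃ (a : G) (k : D.K), a ∈ D.Q ∧ n⁻¹ * t = a * k := by
            obtain ⟨a, ⟨b, hab, hcomm, ⟨l, hl⟩, hb⟩⟩ := exists_isPPart (Fact.out : p.Prime) (n⁻¹ * t)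
            have hcx : Commute (n⁻¹ * t) D.x := (mem_centralizer_iff_commute D.hQ D.hx D.hx1 _).mp hc
            have haC : Commute D.x a := by
              have h1 : D.x * a * D.x⁻¹ = a := isPPart_unique (Fact.out : p.Prime)
                (by
                  have := isPPart_conj (g := n⁻¹ * t) (x := a) ⟨b, hab, hcomm, ⟨l, hl⟩, hb⟩ D.x
                  rwa [← hcx.eq, mul_inv_cancel_right] at this)
                ⟨b, hab, hcomm, ⟨l, hl⟩, hb⟩
              exact mul_inv_eq_iff_eq_mul.mp h1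
            have hbC : Commute b D.x := by
              rw [show b = a⁻¹ * (n⁻¹ * t) by rw [← hab, inv_mul_cancel_left]]
              exact haC.symm.inv_left.mul_left hcx
            have haQ : a ∈ D.Q := by
              have hsup : IsPGroup p (D.Q ⊔ Subgroup.zpowers a : Subgroup G) :=
                IsPGroup.to_sup_of_normal_left' (IsPGroup.of_card (n := 1) (by rw [D.hQ, pow_one]))
                  (IsPGroup.of_card (n := l) (by rw [Nat.card_zpowers, hl])) (by
                    rw [Subgroup.zpowers_le, ← D.zpowers_x]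
                    refine Subgroup.mem_normalizer_iff.mpr fun u => ?_
                    have hz : ∀ i : ℤ, a * D.x ^ i * a⁻¹ = D.x ^ i := fun i => by
                      rw [← (haC.zpow_left i).eq, mul_inv_cancel_right]
                    constructor
                    · rintro ⟨i, rfl⟩
                      exact ⟨i, (hz i).symm⟩
                    · rintro ⟨i, hi⟩
                      refine ⟨i, ?_⟩
                      have h3 : a * D.x ^ i * a⁻¹ = a * u * a⁻¹ := (hz i).trans hi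
                      exact mul_left_cancel (mul_right_cancel h3))
              obtain ⟨e, he⟩ := IsPGroup.iff_card.mp hsup
              have he1 : e ≤ 1 := by
                by_contra hlt
                exact D.hsq ((pow_dvd_pow p (show 2 ≤ e by omega)).trans
                  (he ▸ Subgroup.card_subgroup_dvd_card _))
              have heq : D.Q = D.Q ⊔ Subgroup.zpowers a := Subgroup.eq_of_le_of_card_ge le_sup_left (by
                rw [he, D.hQ]
                exact (Nat.pow_le_pow_right (Fact.out : p.Prime).pos he1).trans (pow_one p).le)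
              rw [heq]
              exact Subgroup.mem_sup_right (Subgroup.mem_zpowers a)
            exact ⟨a, ⟨b, (D.hK b).mpr ⟨(mem_centralizer_iff_commute D.hQ D.hx D.hx1 b).mpr hbC, hb⟩⟩,
              haQ, hab.symm⟩
          show (D.φ : D.K → ℂ) _ = (D.φ : D.K → ℂ) y
          have e : conjK D.hQ D.hK (inv_mem (mul_mem (inv_mem hn) htN)) y = k⁻¹ * y * k⁻¹⁻¹ :=
            Subtype.ext (by
              show (n⁻¹ * t)⁻¹ * (y : G) * (n⁻¹ * t)⁻¹⁻¹ = (k : G)⁻¹ * y * (k : G)⁻¹⁻¹
              have hkk : Commute a ((k : G) * ((k : G)⁻¹ * y * k) * (k : G)⁻¹) := by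
                rw [show (k : G) * ((k : G)⁻¹ * y * k) * (k : G)⁻¹ = y by group]
                exact commute_K D.hQ D.hK ha y
              rw [show (k : G) * ((k : G)⁻¹ * y * k) * (k : G)⁻¹ = y by group] at hkk
              rw [hak, inv_inv, inv_inv, mul_inv_rev,
                show (k : G)⁻¹ * a⁻¹ * (y : G) * (a * (k : G)) = (k : G)⁻¹ * (a⁻¹ * ((y : G) * a)) * k by
                  simp only [mul_assoc], ← hkk.eq, inv_mul_cancel_left])
          rw [e, isClassFunction_irr D.φ y k⁻¹]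
        have hnS : n ∈ D.stab := by
          have := D.stab.mul_mem ht (D.stab.inv_mem hcS)
          rwa [mul_inv_rev, inv_inv, mul_inv_cancel_left] at this
        obtain ⟨h1, h2⟩ := D.stab.inv_mem hnS
        exact h2.symm
    exact if_congr hiff rfl rfl
  · push Not at hc
    rw [if_neg]
    · exact sum_secMult_not_conj D.hQ D.hK (D.xp_mem i) (D.xp_ne_one hi) (D.xp_mem j) (D.xp_ne_one hj)
        hc _ _
    · rintro ⟨r, ⟨⟨t, ht⟩, rfl⟩, hr⟩
      refine hc t (D.stab_le ht) ?_
      rw [show t = ((⟨t, D.stab_le ht⟩ : Subgroup.normalizer (D.Q : Set G)) : G) from rfl, D.conj_xp,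
        ← D.coe_expo]
      exact congrArg D.xp hr

end CycSetup

end CfsgLib.Block.Cyclic
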