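import Mathlib.LinearAlgebra.Trace
import Mathlib.LinearAlgebra.Dimension.Constructions
import Mathlib.LinearAlgebra.FreeModule.PID
import Mathlib.LinearAlgebra.FiniteDimensional.Basic
import Mathlib.RingTheory.PrincipalIdealDomain
import Mathlib.Algebra.CharP.Lemmas
import Mathlib.Algebra.Polynomial.AlgebraMap
import Mathlib.Data.ZMod.Basic
import Mathlib.Algebra.Field.ZMod
import Mathlib.Algebra.Polynomial.Degree.Domain

/-!
# The two reductions of a lattice with an operator of order `p`

`L` is a lattice over `O`, `β : L → V` its reduction modulo `p`, `Y` an endomorphism with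
`Y ^ p = 1`, `T = Y - 1`, `S = ∑ Y ^ i`.  `finrank_tate_sub`: the two Tate dimensions differ by
the trace of `Y`; `exists_lift_zero`, `exists_lift_one`: linear maps on them lift to endomorphisms
commuting with `Y`.
-/

open Finset

set_option linter.unusedSectionVars false

namespace CfsgLib.Block.Cyclic

universe u v w

variable {O : Type u} [CommRing O] [IsDomain O] [IsPrincipalIdealRing O] [CharZero O]
  {k : Type v} [Field k] {res : O →+* k} [RingHomSurjective res]
  {L : Type w} [AddCommGroup L] [Module O L] [Module.Free O L] [Module.Finite O L]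
  {V : Type*} [AddCommGroup V] [Module k V]

/-- A reduction modulo `p`. -/
structure IsRed (p : ℕ) (res : O →+* k) (β : L →ₛₗ[res] V) : Prop where
  prime : p.Prime
  ker_res : ∀ a : O, res a = 0 ↔ (p : O) ∣ a
  surj : Function.Surjective β
  ker : ∀ x : L, β x = 0 ↔ ∃ y : L, (p : O) • y = x

variable {p : ℕ} {β : L →ₛₗ[res] V} (hβ : IsRed p res β)

include hβ

theorem IsRed.p_ne_zero : (p : O) ≠ 0 := Nat.cast_ne_zero.mpr hβ.prime.ne_zero

theorem IsRed.cancel {x y : L} (h : (p : O) • x = (p : O) • y) : x = y :=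
  smul_right_injective L hβ.p_ne_zero h

theorem IsRed.map_p (x : L) : β ((p : O) • x) = 0 := (hβ.ker _).mpr ⟨x, rfl⟩

/-- The reduction of an endomorphism. -/
noncomputable def IsRed.redEnd (f : Module.End O L) : Module.End k V :=
  have hwd : ∀ x y, β x = β y → β (f x) = β (f y) := fun x y h => by
    obtain ⟨z, hz⟩ := (hβ.ker (x - y)).mp (by rw [map_sub, h, sub_self])
    rw [← sub_eq_zero, ← map_sub, ← map_sub, ← hz, map_smul, hβ.map_p]
  have hspec := Function.surjInv_eq hβ.surj
  { toFun := fun v => β (f (Function.surjInv hβ.surj v))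
    map_add' := fun a b => by
      rw [← map_add β, ← map_add f]
      exact hwd _ _ (by rw [map_add, hspec, hspec, hspec])
    map_smul' := fun c a => by
      obtain ⟨r, rfl⟩ := RingHomSurjective.is_surjective (σ := res) c
      rw [RingHom.id_apply, ← LinearMap.map_smulₛₗ β, ← map_smul f]
      exact hwd _ _ (by rw [LinearMap.map_smulₛₗ, hspec, hspec]) }

@[simp] theorem IsRed.redEnd_apply (f : Module.End O L) (x : L) :
    hβ.redEnd f (β x) = β (f x) := by
  obtain ⟨z, hz⟩ := (hβ.ker (Function.surjInv hβ.surj (β x) - x)).mp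
    (by rw [map_sub, Function.surjInv_eq hβ.surj, sub_self])
  show β (f (Function.surjInv hβ.surj (β x))) = β (f x)
  rw [← sub_eq_zero, ← map_sub, ← map_sub, ← hz, map_smul, hβ.map_p]

theorem IsRed.redEnd_mul (f g : Module.End O L) :
    hβ.redEnd (f * g) = hβ.redEnd f * hβ.redEnd g := LinearMap.ext fun v => by
  obtain ⟨x, rfl⟩ := hβ.surj v
  simp [Module.End.mul_apply]

theorem IsRed.redEnd_one : hβ.redEnd 1 = 1 := LinearMap.ext fun v => by
  obtain ⟨x, rfl⟩ := hβ.surj v
  simp

/-- A saturated submodule keeps its rank. -/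
theorem IsRed.finrank_map (Z : Submodule O L) (hZ : ∀ y : L, (p : O) • y ∈ Z → y ∈ Z) :
    Module.finrank k (Z.map β) = Module.finrank O Z := by
  classical
  let b := Module.Free.chooseBasis O Z
  let f : Module.Free.ChooseBasisIndex O Z → V := fun i => β (b i : L)
  have hind : LinearIndependent k f := by
    rw [Fintype.linearIndependent_iff]
    intro g hg i
    choose a ha using fun j => RingHomSurjective.is_surjective (σ := res) (g j)
    have h1 : β ((∑ j, a j • b j : Z) : L) = 0 := by
      rw [← hg, Submodule.coe_sum, map_sum]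
      exact Finset.sum_congr rfl fun j _ => by rw [Submodule.coe_smul, LinearMap.map_smulₛₗ, ha]
    obtain ⟨y, hy⟩ := (hβ.ker _).mp h1
    have hyZ : y ∈ Z := hZ y (hy ▸ Submodule.coe_mem _)
    have h2 : (∑ j, a j • b j) = (p : O) • (⟨y, hyZ⟩ : Z) := Subtype.ext hy.symm
    have h3 := congrArg (fun z => b.repr z i) h2
    simp only [map_sum, map_smul, Module.Basis.repr_self, Finsupp.coe_finsetSum, Finset.sum_apply,
      Finsupp.smul_apply, Finsupp.single_apply, smul_eq_mul, mul_ite, mul_one, mul_zero,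
      Finset.sum_ite_eq', Finset.mem_univ, if_true] at h3
    rw [← ha i, hβ.ker_res]
    exact ⟨_, h3⟩
  have hspan : Submodule.span k (Set.range f) = Z.map β := by
    refine le_antisymm (Submodule.span_le.mpr ?_) ?_
    · rintro _ ⟨i, rfl⟩
      exact ⟨b i, (b i).2, rfl⟩
    · rintro _ ⟨z, hz, rfl⟩
      have h := congrArg Subtype.val (b.sum_repr (⟨z, hz⟩ : Z))
      rw [Submodule.coe_sum] at h
      simp only at h
      rw [← h, map_sum]
      refine Submodule.sum_mem _ fun j _ => ?_
      rw [Submodule.coe_smul, LinearMap.map_smulₛₗ]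
      exact Submodule.smul_mem _ _ (Submodule.subset_span ⟨j, rfl⟩)
  rw [← hspan, finrank_span_eq_card hind, Module.finrank_eq_card_basis b]

variable {Y : Module.End O L} (hY : Y ^ p = 1)

omit hβ in
/-- The norm operator. -/
noncomputable def normOp (p : ℕ) (Y : Module.End O L) : Module.End O L := ∑ i ∈ range p, Y ^ i

include hY

omit hβ in
theorem mul_normOp : Y * normOp p Y = normOp p Y := by
  have h := geom_sum_succ (x := Y) (n := p)
  rw [geom_sum_succ', hY, add_comm] at h
  exact (add_right_cancel h).symm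

omit hβ in
theorem normOp_mul : normOp p Y * Y = normOp p Y := by
  conv_rhs => rw [← mul_normOp hY]
  rw [normOp, Finset.mul_sum, Finset.sum_mul]
  exact Finset.sum_congr rfl fun i _ => (Commute.pow_self Y i).eq

omit hβ in
theorem sub_one_mul_normOp : (Y - 1) * normOp p Y = 0 := by
  rw [sub_mul, one_mul, mul_normOp hY, sub_self]

omit hβ in
theorem normOp_mul_sub_one : normOp p Y * (Y - 1) = 0 := by
  rw [mul_sub, mul_one, normOp_mul hY, sub_self]

omit hβ hY in
theorem apply_eq_self_of_mem_ker {x : L} (h : x ∈ LinearMap.ker (Y - 1)) : Y x = x := by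
  rwa [LinearMap.mem_ker, LinearMap.sub_apply, Module.End.one_apply, sub_eq_zero] at h

omit hβ hY in
theorem pow_apply_eq_self {x : L} (h : Y x = x) : ∀ i : ℕ, (Y ^ i) x = x
  | 0 => rfl
  | i + 1 => by rw [pow_succ, Module.End.mul_apply, h, pow_apply_eq_self h i]

omit hβ hY in
theorem normOp_apply_fixed {x : L} (h : Y x = x) : normOp p Y x = (p : O) • x := by
  rw [normOp, LinearMap.sum_apply, Finset.sum_congr rfl fun i _ => pow_apply_eq_self h i,
    Finset.sum_const, Finset.card_range, Nat.cast_smul_eq_nsmul]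

omit hβ in
theorem pow_apply_pow_apply {i : ℕ} (hi : i ≤ p) (x : L) : (Y ^ i) ((Y ^ (p - i)) x) = x := by
  rw [← Module.End.mul_apply, ← pow_add, Nat.add_sub_cancel' hi, hY, Module.End.one_apply]

theorem saturated_ker (f : Module.End O L) {y : L} (h : (p : O) • y ∈ LinearMap.ker f) :
    y ∈ LinearMap.ker f := by
  rw [LinearMap.mem_ker, map_smul, smul_eq_zero] at h
  exact h.resolve_left hβ.p_ne_zero

omit hY in
/-- Members of the reduced kernel with zero reduction lift inside the kernel. -/
theorem exists_mem_ker_of_red_eq_zero (f : Module.End O L) {x : L} (hx : x ∈ LinearMap.ker f)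
    (h : β x = 0) : ∃ y ∈ LinearMap.ker f, (p : O) • y = x := by
  obtain ⟨y, rfl⟩ := (hβ.ker x).mp h
  refine ⟨y, ?_, rfl⟩
  rw [LinearMap.mem_ker, map_smul, smul_eq_zero] at hx
  exact hx.resolve_left hβ.p_ne_zero

/-- The trace of the norm operator is `p` times the rank of the fixed lattice. -/
theorem trace_normOp :
    LinearMap.trace O L (normOp p Y) = (p : O) * (Module.finrank O (LinearMap.ker (Y - 1)) : O) := by
  set Z := LinearMap.ker (Y - 1)
  let q : L →ₗ[O] Z := (normOp p Y).codRestrict Z fun x => by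
    rw [LinearMap.mem_ker, ← Module.End.mul_apply, sub_one_mul_normOp hY]
    rfl
  have h : q ∘ₗ Z.subtype = (p : O) • LinearMap.id := LinearMap.ext fun z => Subtype.ext (by
    show normOp p Y (z : L) = ((p : O) • z : Z)
    exact normOp_apply_fixed (apply_eq_self_of_mem_ker z.2))
  rw [show normOp p Y = Z.subtype ∘ₗ q from LinearMap.ext fun x => rfl,
    LinearMap.trace_comp_comm', h, map_smul, LinearMap.trace_id, smul_eq_mul]

/-- The rank of the lattice. -/
theorem finrank_add_eq :
    Module.finrank O (LinearMap.ker (Y - 1)) + Module.finrank O (LinearMap.ker (normOp p Y)) =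
      Module.finrank O L := by
  set Z := LinearMap.ker (Y - 1)
  set Z' := LinearMap.ker (normOp p Y)
  let q : L →ₗ[O] Z := (normOp p Y).codRestrict Z fun x => by
    rw [LinearMap.mem_ker, ← Module.End.mul_apply, sub_one_mul_normOp hY]
    rfl
  let q' : L →ₗ[O] Z' := ((p : O) • (1 : Module.End O L) - normOp p Y).codRestrict Z' fun x => by
    have hfix : Y (normOp p Y x) = normOp p Y x := by
      rw [← Module.End.mul_apply, mul_normOp hY]
    rw [LinearMap.mem_ker, LinearMap.sub_apply, map_sub, normOp_apply_fixed hfix,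
      LinearMap.smul_apply, Module.End.one_apply, map_smul, sub_self]
  have hsum : Z.subtype ∘ₗ q + Z'.subtype ∘ₗ q' = (p : O) • (1 : Module.End O L) :=
    LinearMap.ext fun x => by
      show normOp p Y x + ((p : O) • x - normOp p Y x) = (p : O) • x
      abel
  have h : q ∘ₗ Z.subtype = (p : O) • LinearMap.id := LinearMap.ext fun z => Subtype.ext (by
    show normOp p Y (z : L) = ((p : O) • z : Z)
    exact normOp_apply_fixed (apply_eq_self_of_mem_ker z.2))
  have h' : q' ∘ₗ Z'.subtype = (p : O) • LinearMap.id := LinearMap.ext fun z => Subtype.ext (by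
    show (p : O) • (z : L) - normOp p Y (z : L) = ((p : O) • z : Z')
    rw [LinearMap.mem_ker.mp z.2, sub_zero]
    rfl)
  have e := congrArg (LinearMap.trace O L) hsum
  rw [map_add, LinearMap.trace_comp_comm' q Z.subtype, LinearMap.trace_comp_comm' q' Z'.subtype, h, h', map_smul, map_smul,
    map_smul, LinearMap.trace_id, LinearMap.trace_id, LinearMap.trace_one, smul_eq_mul, smul_eq_mul,
    smul_eq_mul, ← mul_add, mul_right_inj' hβ.p_ne_zero] at e
  exact_mod_cast e

omit hY in
/-- Polynomials agreeing modulo `p` have the same reduction. -/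
theorem redEnd_aeval_eq {q q' : Polynomial ℤ}
    (h : q.map (Int.castRingHom (ZMod p)) = q'.map (Int.castRingHom (ZMod p))) :
    hβ.redEnd (Polynomial.aeval Y q) = hβ.redEnd (Polynomial.aeval Y q') := by
  obtain ⟨r, hr⟩ : Polynomial.C (p : ℤ) ∣ q - q' := by
    rw [Polynomial.C_dvd_iff_dvd_coeff]
    intro i
    rw [← ZMod.intCast_zmod_eq_zero_iff_dvd, Polynomial.coeff_sub, Int.cast_sub, sub_eq_zero]
    have := congrArg (fun f => Polynomial.coeff f i) h
    simpa using this
  refine LinearMap.ext fun v => ?_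
  obtain ⟨x, rfl⟩ := hβ.surj v
  rw [hβ.redEnd_apply, hβ.redEnd_apply, ← sub_eq_zero, ← map_sub, ← LinearMap.sub_apply, ← map_sub,
    hr, map_mul, Polynomial.aeval_C, Module.End.mul_apply, algebraMap_int_eq, eq_intCast,
    Int.cast_natCast, Module.End.natCast_apply, ← Nat.cast_smul_eq_nsmul O, hβ.map_p]

omit hY in
theorem zmod_geom (hp : p.Prime) :
    (∑ i ∈ range p, (Polynomial.X : Polynomial (ZMod p)) ^ i) = (Polynomial.X - 1) ^ (p - 1) := by
  have : Fact p.Prime := ⟨hp⟩
  have hne : (Polynomial.X - 1 : Polynomial (ZMod p)) ≠ 0 := by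
    simpa using Polynomial.X_sub_C_ne_zero (1 : ZMod p)
  refine mul_left_cancel₀ hne ?_
  rw [mul_geom_sum, ← pow_succ', Nat.sub_add_cancel hp.one_le, sub_pow_char, one_pow]

omit hY in
theorem sub_one_pow_eq_normOp :
    hβ.redEnd (Y - 1) ^ (p - 1) = hβ.redEnd (normOp p Y) := by
  have hpow : ∀ n, hβ.redEnd (Y - 1) ^ n = hβ.redEnd ((Y - 1) ^ n) := by
    intro n
    induction n with
    | zero => rw [pow_zero, pow_zero, hβ.redEnd_one]
    | succ n ih => rw [pow_succ, pow_succ, hβ.redEnd_mul, ih]
  rw [hpow]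
  have h := redEnd_aeval_eq hβ (Y := Y) (q := (Polynomial.X - 1) ^ (p - 1))
    (q' := ∑ i ∈ range p, Polynomial.X ^ i) (by
      simp only [Polynomial.map_pow, Polynomial.map_sub, Polynomial.map_X, Polynomial.map_one,
        Polynomial.map_sum, zmod_geom hβ hβ.prime])
  simpa [normOp] using h

omit hY in
/-- The cofactor of `Y - 1` in the norm operator reduces to `(Y - 1) ^ (p - 2)`. -/
theorem redEnd_cofactor :
    hβ.redEnd (∑ i ∈ range p, ∑ j ∈ range i, Y ^ j) = hβ.redEnd (Y - 1) ^ (p - 2) := by
  have hp := hβ.prime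
  have : Fact p.Prime := ⟨hp⟩
  have hpow : ∀ n, hβ.redEnd (Y - 1) ^ n = hβ.redEnd ((Y - 1) ^ n) := by
    intro n
    induction n with
    | zero => rw [pow_zero, pow_zero, hβ.redEnd_one]
    | succ n ih => rw [pow_succ, pow_succ, hβ.redEnd_mul, ih]
  rw [hpow]
  have h := redEnd_aeval_eq hβ (Y := Y)
    (q := ∑ i ∈ range p, ∑ j ∈ range i, Polynomial.X ^ j)
    (q' := (Polynomial.X - 1) ^ (p - 2)) (by
      have hne : (Polynomial.X - 1 : Polynomial (ZMod p)) ≠ 0 := by
        simpa using Polynomial.X_sub_C_ne_zero (1 : ZMod p)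
      simp only [Polynomial.map_pow, Polynomial.map_sub, Polynomial.map_X, Polynomial.map_one,
        Polynomial.map_sum]
      refine mul_right_cancel₀ hne ?_
      rw [Finset.sum_mul, ← pow_succ, show p - 2 + 1 = p - 1 by have := hp.two_le; omega,
        ← zmod_geom hβ hp]
      simp only [geom_sum_mul, Finset.sum_sub_distrib, Finset.sum_const, Finset.card_range,
        nsmul_eq_mul, mul_one]
      rw [← Polynomial.C_eq_natCast, ZMod.natCast_self, map_zero, sub_zero])
  simpa using h

/-- The Tate dimensions differ by the trace, for equal traces of the powers. -/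
theorem finrank_tate_sub [Module.Finite k V] {t : O}
    (htr : ∀ i, 0 < i → i < p → LinearMap.trace O L (Y ^ i) = t) :
    (((Module.finrank k ((LinearMap.ker (Y - 1)).map β) : ℤ) -
        Module.finrank k (LinearMap.range (hβ.redEnd (normOp p Y))) -
      ((Module.finrank k ((LinearMap.ker (normOp p Y)).map β) : ℤ) -
        Module.finrank k (LinearMap.range (hβ.redEnd (Y - 1)))) : ℤ) : O) = t := by
  rw [hβ.finrank_map _ (fun y => saturated_ker hβ hY _), hβ.finrank_map _ (fun y => saturated_ker hβ hY _)]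
  set r := Module.finrank O (LinearMap.ker (Y - 1)) with hr
  set Z' := LinearMap.ker (normOp p Y) with hZ'
  set T := hβ.redEnd (Y - 1) with hT
  have hn := finrank_add_eq hβ hY
  -- the trace
  have h1 : LinearMap.trace O L (normOp p Y) = (Module.finrank O L : O) + ((p : O) - 1) * t := by
    obtain ⟨n, hpn⟩ : ∃ n, p = n + 1 := ⟨p - 1, by have := hβ.prime.one_le; omega⟩
    rw [normOp, map_sum, hpn, Finset.sum_range_succ', pow_zero, LinearMap.trace_one, add_comm,
      Finset.sum_congr rfl (g := fun _ => t) fun i hi => htr (i + 1) (by omega)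
        (by have := Finset.mem_range.mp hi; omega), Finset.sum_const, Finset.card_range,
      nsmul_eq_mul]
    push_cast
    ring
  rw [trace_normOp hβ hY, ← hn, ← hr, Nat.cast_add] at h1
  -- the kernel of the norm operator
  have hTapp : ∀ x, T (β x) = β ((Y - 1) x) := fun x => hβ.redEnd_apply _ x
  have hTrange : LinearMap.range T ≤ Z'.map β := by
    rintro _ ⟨v, rfl⟩
    obtain ⟨x, rfl⟩ := hβ.surj v
    exact ⟨(Y - 1) x, by
      show normOp p Y ((Y - 1) x) = 0
      rw [← Module.End.mul_apply, normOp_mul_sub_one hY]; rfl,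
      (hTapp x).symm⟩
  set W := Z'.map β with hW
  set T' : W →ₗ[k] W := T.restrict (fun v hv => hTrange ⟨v, rfl⟩) with hT'
  have hpow : ∀ n (u : W), (((T' ^ n) u : W) : V) = (T ^ n) (u : V) := by
    intro n
    induction n with
    | zero => intro u; rfl
    | succ n ih => intro u; rw [pow_succ, pow_succ, Module.End.mul_apply, Module.End.mul_apply, ih]; rfl
  have hker1 : ∀ v : W, T' v = 0 → ∃ u : W, (T' ^ (p - 2)) u = v := by
    rintro ⟨_, x, hx, rfl⟩ h
    have h0 : β ((Y - 1) x) = 0 := by rw [← hTapp]; exact congrArg Subtype.val h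
    obtain ⟨w, hw, hwx⟩ := exists_mem_ker_of_red_eq_zero hβ (normOp p Y)
      (show (Y - 1) x ∈ LinearMap.ker (normOp p Y) by
        rw [LinearMap.mem_ker, ← Module.End.mul_apply, normOp_mul_sub_one hY]; rfl) h0
    -- `normOp` is a polynomial in `Y - 1` with linear coefficient `p`
    have hgeom : normOp p Y x = (p : O) • x +
        ((∑ i ∈ range p, ∑ j ∈ range i, Y ^ j) * (Y - 1)) x := by
      rw [Finset.sum_mul]
      simp only [geom_sum_mul, LinearMap.sum_apply, LinearMap.sub_apply, Module.End.one_apply,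
        normOp]
      rw [Finset.sum_sub_distrib, Finset.sum_const, Finset.card_range, Nat.cast_smul_eq_nsmul]
      abel
    set P := ∑ i ∈ range p, ∑ j ∈ range i, Y ^ j with hP
    have hxP : x = -(P w) := by
      refine hβ.cancel ?_
      rw [show normOp p Y x = 0 from LinearMap.mem_ker.mp hx, Module.End.mul_apply, ← hwx, map_smul] at hgeom
      rw [smul_neg, eq_neg_iff_add_eq_zero]
      exact hgeom.symm
    refine ⟨-⟨β w, w, hw, rfl⟩, Subtype.ext ?_⟩
    rw [hpow]
    show (T ^ (p - 2)) (-β w) = β x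
    rw [map_neg, hxP, map_neg, ← hβ.redEnd_apply P w, hP, redEnd_cofactor hβ]
  -- the structure of the kernel
  have hT'top : T' ^ (p - 1) = 0 := by
    refine LinearMap.ext fun v => Subtype.ext ?_
    rw [hpow, sub_one_pow_eq_normOp hβ]
    obtain ⟨_, x, hx, rfl⟩ := v
    show hβ.redEnd (normOp p Y) (β x) = ((0 : W) : V)
    rw [hβ.redEnd_apply, LinearMap.mem_ker.mp hx, map_zero]
    rfl
  set κ := Module.finrank k (LinearMap.ker T') with hκ
  have hstep : ∀ j, j ≤ p - 2 → LinearMap.ker T' ≤ LinearMap.range (T' ^ j) := by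
    intro j hj v hv
    obtain ⟨u, rfl⟩ := hker1 v hv
    exact ⟨(T' ^ (p - 2 - j)) u, by rw [← Module.End.mul_apply, ← pow_add, Nat.add_sub_cancel' hj]⟩
  have hdim : ∀ j, j ≤ p - 1 → Module.finrank k (LinearMap.ker (T' ^ j)) = j * κ := by
    intro j hj
    induction j with
    | zero => rw [pow_zero, Nat.zero_mul, Module.End.one_eq_id, LinearMap.ker_id, finrank_bot]
    | succ j ih =>
      have h1 := LinearMap.finrank_range_add_finrank_ker
        ((T' ^ j).domRestrict (LinearMap.ker (T' ^ (j + 1))))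
      have hran : LinearMap.range ((T' ^ j).domRestrict (LinearMap.ker (T' ^ (j + 1)))) =
          LinearMap.ker T' := by
        refine le_antisymm ?_ fun v hv => ?_
        · rintro _ ⟨u, rfl⟩
          rw [LinearMap.mem_ker, LinearMap.domRestrict_apply, ← Module.End.mul_apply, ← pow_succ']
          exact LinearMap.mem_ker.mp u.2
        · obtain ⟨u, rfl⟩ := hstep j (by omega) hv
          refine ⟨⟨u, ?_⟩, rfl⟩
          rw [LinearMap.mem_ker, pow_succ', Module.End.mul_apply]
          exact LinearMap.mem_ker.mp hv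
      have hk : Module.finrank k (LinearMap.ker
          ((T' ^ j).domRestrict (LinearMap.ker (T' ^ (j + 1))))) =
          Module.finrank k (LinearMap.ker (T' ^ j)) := by
        rw [LinearMap.ker_domRestrict]
        exact (Submodule.comapSubtypeEquivOfLe fun v hv => by
          rw [LinearMap.mem_ker, pow_succ', Module.End.mul_apply, LinearMap.mem_ker.mp hv,
            map_zero]).finrank_eq
      rw [hran, hk, ih (by omega)] at h1
      rw [← h1, ← hκ]
      ring
  have hD : Module.finrank k W = (p - 1) * κ := by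
    rw [← hdim (p - 1) le_rfl, hT'top, LinearMap.ker_zero, finrank_top]
  -- the range of `T`
  set R := LinearMap.range T with hR
  set N' := hβ.redEnd (normOp p Y) with hN'
  have hTN : T ^ (p - 2) * T = N' := by
    rw [← pow_succ, show p - 2 + 1 = p - 1 by have := hβ.prime.two_le; omega, sub_one_pow_eq_normOp hβ]
  have h2 := LinearMap.finrank_range_add_finrank_ker ((T ^ (p - 2)).domRestrict R)
  have hran2 : LinearMap.range ((T ^ (p - 2)).domRestrict R) = LinearMap.range N' := by
    refine le_antisymm ?_ ?_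
    · rintro _ ⟨⟨_, v, rfl⟩, rfl⟩
      exact ⟨v, by rw [← hTN, Module.End.mul_apply]; rfl⟩
    · rintro _ ⟨v, rfl⟩
      exact ⟨⟨T v, v, rfl⟩, by rw [← hTN, Module.End.mul_apply]; rfl⟩
  have hkerT' : LinearMap.ker (T' ^ (p - 2)) = LinearMap.range T' := by
    refine (Submodule.eq_of_le_of_finrank_le ?_ ?_).symm
    · rintro _ ⟨v, rfl⟩
      rw [LinearMap.mem_ker, ← Module.End.mul_apply, ← pow_succ,
        show p - 2 + 1 = p - 1 by have := hβ.prime.two_le; omega, hT'top, LinearMap.zero_apply]
    · have h3 := LinearMap.finrank_range_add_finrank_ker T'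
      rw [hD, ← hκ, show p - 1 = p - 2 + 1 by have := hβ.prime.two_le; omega, Nat.succ_mul] at h3
      rw [hdim (p - 2) (by omega)]
      omega
  have hker2 : Module.finrank k (LinearMap.ker ((T ^ (p - 2)).domRestrict R)) = (p - 2) * κ := by
    rw [← hdim (p - 2) (by omega), LinearMap.ker_domRestrict]
    refine ((Submodule.comapSubtypeEquivOfLe (q := R) (p := (LinearMap.ker (T' ^ (p - 2))).map
      W.subtype) ?_).symm.trans (LinearEquiv.ofEq _ _ ?_)).finrank_eq.symm.trans ?_
    · rw [hkerT']
      rintro _ ⟨_, ⟨v, rfl⟩, rfl⟩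
      exact ⟨(v : V), rfl⟩
    · ext ⟨u, hu⟩
      simp only [Submodule.mem_comap, Submodule.coe_subtype, Submodule.mem_map, LinearMap.mem_ker]
      constructor
      · rintro ⟨v, hv, rfl⟩
        rw [← hpow, hv]
        rfl
      · intro h
        exact ⟨⟨u, hTrange hu⟩, Subtype.ext (by rw [hpow]; exact h), rfl⟩
    · exact (Submodule.equivMapOfInjective _ W.subtype_injective _).symm.finrank_eq
  rw [hran2, hker2] at h2
  have hrD : Module.finrank O Z' = (p - 1) * κ := by
    rw [← hD, hW, hβ.finrank_map _ (fun y => saturated_ker hβ hY _)]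
  have ht : t = ((r : ℤ) - κ : ℤ) := by
    rw [hrD] at h1
    have hp1 : ((p - 1 : ℕ) : O) = (p : O) - 1 := by
      rw [Nat.cast_sub hβ.prime.one_le, Nat.cast_one]
    rw [Nat.cast_mul, hp1] at h1
    have hp0 : (p : O) - 1 ≠ 0 := by
      rw [← hp1, Nat.cast_ne_zero]
      have := hβ.prime.two_le
      omega
    push_cast
    refine mul_left_cancel₀ hp0 ?_
    linear_combination -h1
  rw [ht, hrD, ← h2, show p - 1 = p - 2 + 1 by have := hβ.prime.two_le; omega]
  push_cast
  ring

/-- Lifting a map on the fixed-point quotient. -/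
theorem exists_lift_zero (ψ : Module.End k V)
    (hψ : ∀ v, ψ v ∈ (LinearMap.ker (Y - 1)).map β)
    (hψ0 : ∀ v ∈ LinearMap.range (hβ.redEnd (normOp p Y)), ψ v = 0) :
    ∃ F : Module.End O L, Commute F Y ∧
      ∀ x ∈ LinearMap.ker (Y - 1), β (F x) = ψ (β x) := by
  classical
  let b := Module.Free.chooseBasis O L
  choose c hc hcβ using fun i => hψ (β (b i))
  let C : Module.End O L := b.constr O c
  have hCβ : ∀ x, β (C x) = ψ (β x) := fun x => by
    conv_rhs => rw [← b.sum_repr x]
    simp only [C, Module.Basis.constr_apply_fintype, map_sum, LinearMap.map_smulₛₗ]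
    exact Finset.sum_congr rfl fun i _ => by
      rw [hcβ]
      rfl
  have hCZ : ∀ x, C x ∈ LinearMap.ker (Y - 1) := fun x => by
    simp only [C, Module.Basis.constr_apply_fintype]
    exact Submodule.sum_mem _ fun i _ => Submodule.smul_mem _ _ (hc i)
  have hdiv : ∀ x, ∃ y, (p : O) • y = C (normOp p Y x) := fun x => (hβ.ker _).mp (by
    rw [hCβ]
    exact hψ0 _ ⟨β x, hβ.redEnd_apply _ _⟩)
  choose g hg using hdiv
  let F : Module.End O L :=
    { toFun := g
      map_add' := fun a b => hβ.cancel (by rw [hg, smul_add, hg, hg, map_add, map_add])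
      map_smul' := fun a b => hβ.cancel (by
        rw [hg, RingHom.id_apply, smul_comm, hg, map_smul, map_smul]) }
  refine ⟨F, LinearMap.ext fun x => hβ.cancel ?_, fun x hx => ?_⟩
  · show (p : O) • g (Y x) = (p : O) • Y (g x)
    rw [hg, ← map_smul Y, hg, apply_eq_self_of_mem_ker (hCZ _), ← Module.End.mul_apply (normOp p Y),
      normOp_mul hY]
  · have : g x = C x := hβ.cancel (by
      rw [hg, normOp_apply_fixed (apply_eq_self_of_mem_ker hx), map_smul])
    show β (g x) = _
    rw [this, hCβ]

/-- Lifting a map on the quotient of the kernel of the norm operator. -/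
theorem exists_lift_one (ψ : Module.End k V)
    (hψ : ∀ v, ψ v ∈ (LinearMap.ker (normOp p Y)).map β)
    (hψ0 : ∀ v ∈ LinearMap.range (hβ.redEnd (Y - 1)), ψ v = 0) :
    ∃ F : Module.End O L, Commute F Y ∧
      ∀ x ∈ LinearMap.ker (normOp p Y),
        β (F x) + ψ (β x) ∈ LinearMap.range (hβ.redEnd (Y - 1)) := by
  classical
  let b := Module.Free.chooseBasis O L
  choose c hc hcβ using fun i => hψ (β (b i))
  let C : Module.End O L := b.constr O c
  have hCβ : ∀ x, β (C x) = ψ (β x) := fun x => by
    conv_rhs => rw [← b.sum_repr x]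
    simp only [C, Module.Basis.constr_apply_fintype, map_sum, LinearMap.map_smulₛₗ]
    exact Finset.sum_congr rfl fun i _ => by
      rw [hcβ]
      rfl
  have hCZ : ∀ x, normOp p Y (C x) = 0 := fun x => by
    rw [← LinearMap.mem_ker]
    simp only [C, Module.Basis.constr_apply_fintype]
    exact Submodule.sum_mem _ fun i _ => Submodule.smul_mem _ _ (hc i)
  have hTmem : ∀ (i : ℕ) (z : L), β ((Y ^ i) z) - β z ∈ LinearMap.range (hβ.redEnd (Y - 1)) :=
    fun i z => ⟨β ((∑ j ∈ range i, Y ^ j) z), by
      rw [hβ.redEnd_apply, ← Module.End.mul_apply, mul_geom_sum, LinearMap.sub_apply, map_sub,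
        Module.End.one_apply]⟩
  have hd : ∀ (i : ℕ) (x : L), ∃ y, (p : O) • y = C ((Y ^ i) x) - C x := fun i x => (hβ.ker _).mp (by
    rw [map_sub, hCβ, hCβ, ← map_sub]
    exact hψ0 _ (hTmem i x))
  choose d hd using hd
  let G : Module.End O L := ∑ i ∈ range p, Y ^ (p - i) * C * Y ^ i
  have hG : ∀ x, (p : O) • ∑ i ∈ range p, (Y ^ (p - i)) (d i x) = G x := fun x => by
    simp only [G, LinearMap.sum_apply, Module.End.mul_apply, Finset.smul_sum]
    have hz : ∑ i ∈ range p, (Y ^ (p - i)) (C x) = 0 := by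
      refine Eq.trans ?_ (hCZ x)
      rw [normOp, LinearMap.sum_apply, ← Finset.sum_range_reflect]
      obtain ⟨n, hn⟩ : ∃ n, p = n + 1 := ⟨p - 1, by have := hβ.prime.one_le; omega⟩
      rw [hn] at hY ⊢
      have hfull : ∀ j ∈ range (n + 1), (Y ^ (n + 1 - (n + 1 - 1 - j))) (C x) = Y ((Y ^ j) (C x)) := by
        intro j hj
        have := Finset.mem_range.mp hj
        rw [show n + 1 - (n + 1 - 1 - j) = j + 1 by omega, pow_succ', Module.End.mul_apply]
      rw [Finset.sum_congr rfl hfull, ← map_sum, ← LinearMap.sum_apply, ← Module.End.mul_apply,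
        show Y * ∑ i ∈ range (n + 1), Y ^ i = ∑ i ∈ range (n + 1), Y ^ i from mul_normOp hY]
    conv_rhs => rw [← sub_zero (∑ i ∈ range p, (Y ^ (p - i)) (C ((Y ^ i) x))), ← hz,
      ← Finset.sum_sub_distrib]
    exact Finset.sum_congr rfl fun i _ => by rw [← map_smul, hd, map_sub]
  have hGY : Commute G Y := by
    obtain ⟨n, hn⟩ : ∃ n, p = n + 1 := ⟨p - 1, by have := hβ.prime.one_le; omega⟩
    show G * Y = Y * G
    simp only [G, Finset.sum_mul, Finset.mul_sum]
    rw [hn] at hY ⊢
    rw [Finset.sum_range_succ, Finset.sum_range_succ' fun i => Y * (Y ^ (n + 1 - i) * C * Y ^ i)]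
    congr 1
    · refine Finset.sum_congr rfl fun i hi => ?_
      have := Finset.mem_range.mp hi
      rw [mul_assoc (Y ^ (n + 1 - i) * C), ← pow_succ, ← mul_assoc Y, ← mul_assoc Y, ← pow_succ',
        show n + 1 - (i + 1) + 1 = n + 1 - i by omega]
    · rw [Nat.add_sub_cancel_left, pow_one, pow_zero, mul_one, Nat.sub_zero, mul_assoc (Y * C),
        ← pow_succ, hY, mul_one, one_mul]
  let F : Module.End O L :=
    { toFun := fun x => ∑ i ∈ range p, (Y ^ (p - i)) (d i x)
      map_add' := fun a b => hβ.cancel (by rw [hG, smul_add, hG, hG, map_add])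
      map_smul' := fun a b => hβ.cancel (by rw [hG, RingHom.id_apply, smul_comm, hG, map_smul]) }
  refine ⟨F, LinearMap.ext fun x => hβ.cancel ?_, fun x hx => ?_⟩
  · show (p : O) • F (Y x) = (p : O) • Y (F x)
    rw [← map_smul Y]
    show (p : O) • ∑ i ∈ range p, _ = Y ((p : O) • ∑ i ∈ range p, _)
    rw [hG, hG]
    exact LinearMap.congr_fun hGY.eq x
  · have hsum : ∑ i ∈ range p, d i x = -C x := hβ.cancel (by
      rw [Finset.smul_sum]
      simp only [hd, Finset.sum_sub_distrib, Finset.sum_const, Finset.card_range]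
      rw [← map_sum, ← LinearMap.sum_apply, ← Nat.cast_smul_eq_nsmul O, smul_neg]
      rw [LinearMap.mem_ker] at hx
      rw [show (∑ i ∈ range p, Y ^ i) x = 0 from hx, map_zero, zero_sub])
    have h : β (F x) + ψ (β x) =
        ∑ i ∈ range p, (β ((Y ^ (p - i)) (d i x)) - β (d i x)) := by
      show β (∑ i ∈ range p, _) + _ = _
      rw [Finset.sum_sub_distrib, ← map_sum, ← map_sum, hsum, map_neg, hCβ]
      abel
    rw [h]
    exact Submodule.sum_mem _ fun i _ => hTmem _ _

omit hY in
/-- A sum of conjugates over the powers of `Y` kills the fixed lattice modulo norms. -/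
theorem orbit_sum_zero (hY : Y ^ p = 1) (H : Module.End O L) {x : L}
    (hx : x ∈ LinearMap.ker (Y - 1)) :
    β ((∑ i ∈ range p, Y ^ i * H * Y ^ (p - i)) x) ∈
      LinearMap.range (hβ.redEnd (normOp p Y)) := by
  refine ⟨β (H x), ?_⟩
  simp only [hβ.redEnd_apply, normOp, LinearMap.sum_apply, Module.End.mul_apply]
  exact congrArg β (Finset.sum_congr rfl fun i _ => by
    rw [pow_apply_eq_self (apply_eq_self_of_mem_ker hx)])

omit hY in
/-- A sum of conjugates over the powers of `Y` kills the kernel of the norm modulo `Y - 1`. -/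
theorem orbit_sum_one (hY : Y ^ p = 1) (H : Module.End O L) {x : L}
    (hx : x ∈ LinearMap.ker (normOp p Y)) :
    β ((∑ i ∈ range p, Y ^ i * H * Y ^ (p - i)) x) ∈
      LinearMap.range (hβ.redEnd (Y - 1)) := by
  have hz : ∑ i ∈ range p, (Y ^ (p - i)) x = 0 := by
    obtain ⟨n, hn⟩ : ∃ n, p = n + 1 := ⟨p - 1, by have := hβ.prime.one_le; omega⟩
    rw [← Finset.sum_range_reflect]
    rw [Finset.sum_congr rfl (g := fun j => Y ((Y ^ j) x)) fun j hj => by
      rw [show p - (p - 1 - j) = j + 1 by have := Finset.mem_range.mp hj; omega, pow_succ',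
        Module.End.mul_apply], ← map_sum, ← LinearMap.sum_apply]
    show Y (normOp p Y x) = 0
    rw [LinearMap.mem_ker.mp hx, map_zero]
  have h : β ((∑ i ∈ range p, Y ^ i * H * Y ^ (p - i)) x) =
      ∑ i ∈ range p, (β ((Y ^ i) (H ((Y ^ (p - i)) x))) - β (H ((Y ^ (p - i)) x))) := by
    rw [Finset.sum_sub_distrib, ← map_sum, ← map_sum, ← map_sum H, hz, map_zero, map_zero, sub_zero,
      LinearMap.sum_apply]
    rfl
  rw [h]
  exact Submodule.sum_mem _ fun i _ => ⟨β ((∑ j ∈ range i, Y ^ j) (H ((Y ^ (p - i)) x))), by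
    rw [hβ.redEnd_apply, ← Module.End.mul_apply, mul_geom_sum, LinearMap.sub_apply, map_sub,
      Module.End.one_apply]⟩

end CfsgLib.Block.Cyclic
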